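import Cfsg.Agent.Geo.OrthFrame.Small
import Cfsg.Agent.Dickson.Classification
import Mathlib.FieldTheory.IsAlgClosed.AlgebraicClosure
import Mathlib.GroupTheory.Perm.Fin

/-!
A triangle of two frame vectors and a third vector: the stabiliser of the vectors related to the frame
induces a transformation of order `p` on it.
-/

set_option autoImplicit false
set_option linter.unusedSectionVars false

namespace CfsgLib.Geo.OFrame

open QuadraticMap CfsgLib.Forms CfsgLib.Quad Matrix

theorem perm_four_fact : ∀ a b : Equiv.Perm (Fin 4), a * a * (a * a) = 1 → a * a ≠ 1 → b * b = 1 →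
    b * (a * a) * b * (a * a) = a * a * (b * (a * a) * b) := by decide +kernel

theorem perm_five_fact : ∀ a : Equiv.Perm (Fin 5), Equiv.Perm.sign a = 1 → a * a * (a * a) = 1 →
    a * a = 1 := by decide +kernel

theorem alt_four_fact : ∀ a : Equiv.Perm (Fin 4), Equiv.Perm.sign a = 1 → a * a * (a * a) = 1 →
    a * a = 1 := by decide +kernel

theorem dihedral_fact {n : ℕ} (a b : DihedralGroup n) (h4 : a * a * (a * a) = 1) :
    b * (a * a) = a * a * b := by
  cases a with
  | sr i =>
    have h : DihedralGroup.sr i * DihedralGroup.sr i = (1 : DihedralGroup n) := by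
      rw [DihedralGroup.sr_mul_sr, sub_self]; rfl
    rw [h, mul_one, one_mul]
  | r i =>
    rw [DihedralGroup.r_mul_r, DihedralGroup.r_mul_r, ← DihedralGroup.r_zero] at h4
    have h' : i + i + (i + i) = 0 := DihedralGroup.r.inj h4
    cases b with
    | r j => simp only [DihedralGroup.r_mul_r]; rw [add_comm]
    | sr j =>
      simp only [DihedralGroup.r_mul_r, DihedralGroup.sr_mul_r, DihedralGroup.r_mul_sr]
      congr 1
      linear_combination h'

variable {F : Type*} [Field F] [Finite F] [DecidableEq F] {n : ℕ} {H : Subgroup (O F n)}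

/-- The stabiliser of the set of vectors related to the frame. -/
def Keep (H : Subgroup (O F n)) : Subgroup (O F n) where
  carrier := {g | ∀ v, InV H v ↔ InV H (g.1 v)}
  one_mem' := fun _ => Iff.rfl
  mul_mem' := fun {g h} hg hh v => (hh v).trans (hg _)
  inv_mem' := fun {g} hg v => by
    have h1 := hg ((g⁻¹).1 v)
    rw [← mul_apply, mul_inv_cancel, one_apply] at h1
    exact h1.symm

theorem Over.refl_keep (hH : Over H) {u : Fin n → F} (hu : InV H u) : (R u : O F n) ∈ Keep H :=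
  fun v => ⟨fun hv => hH.inV_refl hv hu, fun hv => by
    have := hH.inV_refl hv hu
    rwa [← mul_apply, R_sq, one_apply] at this⟩

theorem Over.mono_keep (hH : Over H) {g : O F n} (hg : g ∈ H) (hm : Mono g) : g ∈ Keep H := by
  have key : ∀ h : O F n, h ∈ H → Mono h → ∀ v, InV H v → InV H (h.1 v) := by
    intro h hh hhm v hv
    rcases n with _ | m
    · exact (Subsingleton.elim v (h.1 v)) ▸ hv
    obtain ⟨b, s, hs, hb⟩ := hhm.image 0
    refine hH.inV_of_rel (a := b) (by rw [self_map]; exact hv.1) ?_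
    have := (hv.2 0).map hh
    rwa [hb, Rel, R_smul (fun h0 => by simp [h0] at hs)] at this
  exact fun v => ⟨key g hg hm v, fun hv => by
    have := key g⁻¹ (inv_mem hg) hm.inv _ hv
    rwa [← mul_apply, inv_mul_cancel, one_apply] at this⟩

/-- Two frame vectors and a third vector orthogonal to them, with two spare coordinates. -/
structure Tri (H : Subgroup (O F n)) (i k m o : Fin n) (f : Fin n → F) : Prop extends Over H where
  ik : i ≠ k
  mo : m ≠ o
  im : i ≠ m
  io : i ≠ o
  km : k ≠ m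
  ko : k ≠ o
  fi : f i = 0
  fk : f k = 0
  fm : f m = 0
  fo : f o = 0
  ff : f ⬝ᵥ f ≠ 0

/-- Membership in the triangle's space. -/
def InY (i k : Fin n) (f y : Fin n → F) : Prop :=
  ∃ a b z : F, y = a • e i + b • e k + z • f

/-- Orthogonal to the triangle's space. -/
def PerpY (i k : Fin n) (f x : Fin n → F) : Prop := x i = 0 ∧ x k = 0 ∧ x ⬝ᵥ f = 0

/-- The double transposition of the triangle and of the spare pair. -/
noncomputable def piT (i k m o : Fin n) : O F n :=
  R (e i + (-1 : F) • e k) * R (e m + (-1 : F) • e o)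

variable {i k m o : Fin n} {f : Fin n → F}

theorem dot_root (v : Fin n → F) (a b : Fin n) : v ⬝ᵥ (e a + (-1 : F) • e b) = v a - v b := by
  rw [dotProduct_add, dotProduct_smul, dot_e, dot_e, smul_eq_mul]; ring

namespace Tri

variable (hT : Tri H i k m o f)
include hT

theorem inY_e_i : InY i k f (e i) := ⟨1, 0, 0, by simp⟩

theorem inY_e_k : InY i k f (e k) := ⟨0, 1, 0, by simp⟩

theorem inY_d : InY i k f (e i + (-1 : F) • e k) := ⟨1, -1, 0, by simp⟩

theorem inY_f : InY i k f f := ⟨0, 0, 1, by simp⟩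

theorem perp_dot {x y : Fin n → F} (hx : PerpY i k f x) (hy : InY i k f y) : x ⬝ᵥ y = 0 := by
  obtain ⟨a, b, z, rfl⟩ := hy
  simp [dotProduct_add, dotProduct_smul, dot_e, hx.1, hx.2.1, hx.2.2]

theorem refl_inY {u y : Fin n → F} (hu : InY i k f u) (hy : InY i k f y) :
    InY i k f ((R u : O F n).1 y) := by
  obtain ⟨a, b, z, rfl⟩ := hu
  obtain ⟨a', b', z', rfl⟩ := hy
  rw [R_apply]
  set c := 2 * ((a' • e i + b' • e k + z' • f) ⬝ᵥ (a • e i + b • e k + z • f)) /
    ((a • e i + b • e k + z • f) ⬝ᵥ (a • e i + b • e k + z • f))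
  exact ⟨a' - c * a, b' - c * b, z' - c * z, by module⟩

theorem spare_fix {y : Fin n → F} (hy : InY i k f y) :
    (R (e m + (-1 : F) • e o) : O F n).1 y = y := by
  refine R_fix ?_
  obtain ⟨a, b, z, rfl⟩ := hy
  simp only [dot_root, Pi.add_apply, Pi.smul_apply, e_apply, if_neg hT.im.symm, if_neg hT.io.symm,
    if_neg hT.km.symm, if_neg hT.ko.symm, hT.fm, hT.fo]
  simp

theorem pi_apply {y : Fin n → F} (hy : InY i k f y) :
    (piT i k m o : O F n).1 y = (R (e i + (-1 : F) • e k) : O F n).1 y := by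
  rw [piT, mul_apply, hT.spare_fix hy]

theorem pi_mem : (piT i k m o : O F n) ∈ H ∧ Mono (piT (F := F) i k m o) :=
  ⟨hT.rel_root hT.ik hT.mo (by ring) (by ring),
    (mono_R_root hT.two hT.ik (by ring)).mul (mono_R_root hT.two hT.mo (by ring))⟩

theorem pi_perp {x : Fin n → F} (hx : PerpY i k f x) :
    PerpY i k f ((piT i k m o : O F n).1 x) ∧
      (piT i k m o : O F n).1 ((piT i k m o : O F n).1 x) = x := by
  have h1 : (R (e i + (-1 : F) • e k) : O F n).1 ((R (e m + (-1 : F) • e o) : O F n).1 x) =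
      (R (e m + (-1 : F) • e o) : O F n).1 x := by
    refine R_fix ?_
    rw [R_apply, sub_dotProduct, smul_dotProduct, dot_root, dot_root]
    simp [hx.1, hx.2.1, dot_e, e_apply, hT.im, hT.io, hT.km, hT.ko]
  rw [piT, mul_apply, h1]
  refine ⟨⟨?_, ?_, ?_⟩, ?_⟩
  · simp [R_apply, hx.1, e_apply, hT.im, hT.io]
  · simp [R_apply, hx.2.1, e_apply, hT.km, hT.ko]
  · rw [← hT.spare_fix hT.inY_f, dot_map _ hT.two]; exact hx.2.2
  · rw [mul_apply, ← mul_apply (R (e m + (-1 : F) • e o)), R_sq, one_apply]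
    exact R_fix (by rw [dot_root, hx.1, hx.2.1, sub_zero])

end Tri

/-- Elements keeping the related vectors, preserving the triangle's space, and acting trivially or by
the double transposition on its orthogonal. -/
def Good (hT : Tri H i k m o f) : Subgroup (O F n) :=
  let S : Submonoid (O F n) :=
    { carrier := {g | g ∈ Keep H ∧ (∀ y, InY i k f y → InY i k f (g.1 y)) ∧
        ((∀ x, PerpY i k f x → g.1 x = x) ∨
          (∀ x, PerpY i k f x → g.1 x = (piT i k m o : O F n).1 x))}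
      one_mem' := ⟨one_mem _, fun y hy => hy, Or.inl fun x _ => rfl⟩
      mul_mem' := fun {g h} ⟨hg, hgY, hgp⟩ ⟨hh, hhY, hhp⟩ => ⟨mul_mem hg hh,
        fun y hy => hgY _ (hhY y hy), by
        rcases hgp with hgp | hgp <;> rcases hhp with hhp | hhp
        · exact Or.inl fun x hx => by rw [mul_apply, hhp x hx, hgp x hx]
        · exact Or.inr fun x hx => by rw [mul_apply, hhp x hx, hgp _ (hT.pi_perp hx).1]
        · exact Or.inr fun x hx => by rw [mul_apply, hhp x hx, hgp x hx]
        · exact Or.inl fun x hx => by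
            rw [mul_apply, hhp x hx, hgp _ (hT.pi_perp hx).1, (hT.pi_perp hx).2]⟩ }
  { S with
    inv_mem' := fun {g} hg => by
      have h1 := S.pow_mem hg (orderOf g - 1)
      have h2 : g ^ (orderOf g - 1) = g⁻¹ := by
        refine eq_inv_of_mul_eq_one_left ?_
        rw [← pow_succ, Nat.sub_add_cancel (orderOf_pos g), pow_orderOf_eq_one]
      rwa [h2] at h1 }

theorem mem_good {hT : Tri H i k m o f} {g : O F n} :
    g ∈ Good hT ↔ g ∈ Keep H ∧ (∀ y, InY i k f y → InY i k f (g.1 y)) ∧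
      ((∀ x, PerpY i k f x → g.1 x = x) ∨
        (∀ x, PerpY i k f x → g.1 x = (piT i k m o : O F n).1 x)) := Iff.rfl

namespace Tri

variable (hT : Tri H i k m o f)

theorem refl_good {u : Fin n → F} (hu : InY i k f u) (huV : InV H u) : (R u : O F n) ∈ Good hT :=
  mem_good.2 ⟨hT.toOver.refl_keep huV, fun _ hy => hT.refl_inY hu hy,
    Or.inl fun _ hx => R_fix (hT.perp_dot hx hu)⟩

theorem pi_good : (piT i k m o : O F n) ∈ Good hT :=
  mem_good.2 ⟨hT.toOver.mono_keep hT.pi_mem.1 hT.pi_mem.2,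
    fun y hy => by rw [hT.pi_apply hy]; exact hT.refl_inY hT.inY_d hy, Or.inr fun _ _ => rfl⟩

section model

variable {K : Type*} [Field K] (φ : F →+* K) (I s : K)

/-- The trace-zero matrix of a vector of the triangle's space. -/
def mat (i k : Fin n) (f y : Fin n → F) : Matrix (Fin 2) (Fin 2) K :=
  !![φ (y i), φ (y k) + I * s * φ (y ⬝ᵥ f); φ (y k) - I * s * φ (y ⬝ᵥ f), -φ (y i)]

theorem mat_zero : mat φ I s i k f (0 : Fin n → F) = 0 := by
  ext a b; fin_cases a <;> fin_cases b <;> simp [mat]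

theorem mat_sub_smul (y u : Fin n → F) (c : F) :
    mat φ I s i k f (y - c • u) = mat φ I s i k f y - φ c • mat φ I s i k f u := by
  ext a b
  fin_cases a <;> fin_cases b <;>
    simp [mat, sub_dotProduct, smul_dotProduct] <;> ring

include hT in
theorem anticomm (hI : I * I = -1) (hs : s * s * φ (f ⬝ᵥ f) = 1) {u y : Fin n → F}
    (hu : InY i k f u) (hy : InY i k f y) :
    mat φ I s i k f u * mat φ I s i k f y + mat φ I s i k f y * mat φ I s i k f u =
      (2 * φ (u ⬝ᵥ y)) • (1 : Matrix (Fin 2) (Fin 2) K) := by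
  obtain ⟨a, b, z, rfl⟩ := hu
  obtain ⟨a', b', z', rfl⟩ := hy
  have hd : (a • e i + b • e k + z • f) ⬝ᵥ (a' • e i + b' • e k + z' • f) =
      a * a' + b * b' + z * z' * (f ⬝ᵥ f) := by
    simp [add_dotProduct, dotProduct_add, smul_dotProduct, dotProduct_smul, dot_e, e_dot, e_apply,
      hT.ik, hT.ik.symm, hT.fi, hT.fk]
    ring
  rw [hd]
  simp only [mat, Pi.add_apply, Pi.smul_apply, e_apply, if_pos, if_neg hT.ik, if_neg hT.ik.symm, hT.fi,
    hT.fk, add_dotProduct, smul_dotProduct, e_dot, smul_eq_mul, mul_one, mul_zero, add_zero, zero_add]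
  ext x y'
  have key : I * I * (s * s * φ (f ⬝ᵥ f)) = -1 := by rw [hI, hs]; ring
  fin_cases x <;> fin_cases y' <;> simp [Matrix.mul_apply, map_add, map_mul] <;>
    first
      | linear_combination (-2 * φ z * φ z' * φ (f ⬝ᵥ f)) * key
      | linear_combination (2 * φ z * φ z' * φ (f ⬝ᵥ f)) * key
      | linear_combination (0 : K) * key

include hT in
theorem mat_inj (hI : I * I = -1) (hs : s * s * φ (f ⬝ᵥ f) = 1) {u y : Fin n → F} (hu : InY i k f u)
    (hy : InY i k f y) (h : mat φ I s i k f u = mat φ I s i k f y) : u = y := by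
  have h2 : (2 : K) ≠ 0 := fun h0 => hT.two ((map_eq_zero φ).1 (by rw [map_ofNat]; exact h0))
  obtain ⟨a, b, z, rfl⟩ := hu
  obtain ⟨a', b', z', rfl⟩ := hy
  have e00 := congrFun (congrFun h 0) 0
  have e01 := congrFun (congrFun h 0) 1
  have e10 := congrFun (congrFun h 1) 0
  simp [mat, e_apply, e_dot, hT.ik, hT.ik.symm, hT.fi, hT.fk, add_dotProduct, smul_dotProduct] at e00 e01 e10
  have hb : φ b = φ b' := mul_left_cancel₀ h2 (by linear_combination e01 + e10)
  have hIs : I * s * φ (f ⬝ᵥ f) ≠ 0 := by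
    refine mul_ne_zero (mul_ne_zero (fun h0 => ?_) fun h0 => ?_) ((map_ne_zero φ).2 hT.ff)
    · rw [h0, mul_zero] at hI
      exact one_ne_zero (by linear_combination hI : (1 : K) = 0)
    · rw [h0, mul_zero, zero_mul] at hs
      exact zero_ne_one hs
  have hz : φ z = φ z' := mul_left_cancel₀ (mul_ne_zero h2 hIs) (by linear_combination e01 - e10)
  rw [φ.injective (show φ a = φ a' from e00), φ.injective hb, φ.injective hz]

/-- A matrix lifting to a good isometry. -/
def Lifts (hT : Tri H i k m o f) (G : Matrix (Fin 2) (Fin 2) K) (g : O F n) (σ : K) : Prop :=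
  g ∈ Good hT ∧ σ * σ = 1 ∧
    ∀ y, InY i k f y → G * mat φ I s i k f y = σ • (mat φ I s i k f (g.1 y) * G)

theorem Lifts.mul {G G' : Matrix (Fin 2) (Fin 2) K} {g g' : O F n} {σ σ' : K}
    (h : Lifts φ I s hT G g σ) (h' : Lifts φ I s hT G' g' σ') :
    Lifts φ I s hT (G * G') (g * g') (σ * σ') := by
  refine ⟨mul_mem h.1 h'.1, by linear_combination (σ' * σ') * h.2.1 + h'.2.1, fun y hy => ?_⟩
  rw [mul_apply, Matrix.mul_assoc, h'.2.2 y hy, Matrix.mul_smul, ← Matrix.mul_assoc,
    h.2.2 _ ((mem_good.1 h'.1).2.1 y hy), Matrix.smul_mul, smul_smul, Matrix.mul_assoc, mul_comm σ' σ]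

/-- The group of liftable invertible matrices. -/
def liftGroup (hT : Tri H i k m o f) : Subgroup (GL (Fin 2) K) where
  carrier := {G | ∃ g σ, Lifts φ I s hT (G : Matrix (Fin 2) (Fin 2) K) g σ}
  one_mem' := ⟨1, 1, one_mem _, one_mul 1, fun y _ => by simp [one_apply]⟩
  mul_mem' := fun {G G'} ⟨g, σ, h⟩ ⟨g', σ', h'⟩ => ⟨g * g', σ * σ', by
    simpa using Lifts.mul hT φ I s h h'⟩
  inv_mem' := fun {G} ⟨g, σ, hg, hσ, h⟩ => by
    refine ⟨g⁻¹, σ, inv_mem hg, hσ, fun y hy => ?_⟩
    have hy' := (mem_good.1 (inv_mem hg)).2.1 y hy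
    have h1 := h _ hy'
    rw [← mul_apply, mul_inv_cancel, one_apply] at h1
    have h2 : mat φ I s i k f y * (G : Matrix (Fin 2) (Fin 2) K) =
        σ • ((G : Matrix (Fin 2) (Fin 2) K) * mat φ I s i k f ((g⁻¹).1 y)) := by
      rw [h1, smul_smul, hσ, one_smul]
    calc ((G⁻¹ : GL (Fin 2) K) : Matrix (Fin 2) (Fin 2) K) * mat φ I s i k f y
        = ((G⁻¹ : GL (Fin 2) K) : Matrix (Fin 2) (Fin 2) K) *
            (mat φ I s i k f y * (G : Matrix (Fin 2) (Fin 2) K)) *
            ((G⁻¹ : GL (Fin 2) K) : Matrix (Fin 2) (Fin 2) K) := by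
          rw [Matrix.mul_assoc, Matrix.mul_assoc (mat φ I s i k f y), ← Units.val_mul, mul_inv_cancel,
            Units.val_one, Matrix.mul_one]
      _ = _ := by
          rw [h2, Matrix.mul_smul, Matrix.smul_mul, ← Matrix.mul_assoc
            ((G⁻¹ : GL (Fin 2) K) : Matrix (Fin 2) (Fin 2) K), ← Units.val_mul, inv_mul_cancel,
            Units.val_one, Matrix.one_mul]

include hT in
theorem central_of_commute {G : GL (Fin 2) K}
    (h : ∀ y, InY i k f y → (G : Matrix (Fin 2) (Fin 2) K) * mat φ I s i k f y =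
      mat φ I s i k f y * (G : Matrix (Fin 2) (Fin 2) K)) :
    Matrix.ProjGenLinGroup.mk G = 1 := by
  have h2 : (2 : K) ≠ 0 := fun h0 => hT.two ((map_eq_zero φ).1 (by rw [map_ofNat]; exact h0))
  have hi := h _ hT.inY_e_i
  have hk := h _ hT.inY_e_k
  simp [mat, e_apply, e_dot, hT.ik, hT.ik.symm, hT.fi, hT.fk] at hi hk
  have i01 := congrFun (congrFun hi 0) 1
  have i10 := congrFun (congrFun hi 1) 0
  have k01 := congrFun (congrFun hk 0) 1
  simp [Matrix.mul_apply, Matrix.vecMul, dotProduct, Fin.sum_univ_two] at i01 i10 k01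
  have a01 : (G : Matrix (Fin 2) (Fin 2) K) 0 1 = 0 := (mul_eq_zero.1
    (show (2 : K) * _ = 0 by linear_combination -i01)).resolve_left h2
  have a10 : (G : Matrix (Fin 2) (Fin 2) K) 1 0 = 0 := (mul_eq_zero.1
    (show (2 : K) * _ = 0 by linear_combination i10)).resolve_left h2
  rw [Matrix.ProjGenLinGroup.mk_eq_one, Matrix.GeneralLinearGroup.center_eq_range_scalar]
  have hne : (G : Matrix (Fin 2) (Fin 2) K) 1 1 ≠ 0 := fun h0 => G.det_ne_zero (by
    simp [Matrix.det_fin_two, h0, a01])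
  refine ⟨Units.mk0 _ hne, ?_⟩
  ext a b
  fin_cases a <;> fin_cases b <;> simp [Matrix.GeneralLinearGroup.coe_scalar, a01, a10, k01]

include hT in
theorem finite_lift :
    Finite ((liftGroup φ I s hT).map (Matrix.ProjGenLinGroup.mk (n := Fin 2) (R := K))) := by
  classical
  have hL : ∀ x : (liftGroup φ I s hT).map (Matrix.ProjGenLinGroup.mk (n := Fin 2) (R := K)),
      ∃ (G : GL (Fin 2) K) (g : O F n) (σ : K),
        Lifts φ I s hT (G : Matrix (Fin 2) (Fin 2) K) g σ ∧ Matrix.ProjGenLinGroup.mk G = x.1 := by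
    rintro ⟨_, G, ⟨g, σ, h⟩, rfl⟩
    exact ⟨G, g, σ, h, rfl⟩
  choose G g σ hG hmk using hL
  refine Finite.of_injective (fun x => (g x, decide (σ x = 1))) fun x y hxy => ?_
  simp only [Prod.mk.injEq, decide_eq_decide] at hxy
  have hσ : σ x = σ y := by
    rcases mul_self_eq_one_iff.1 (hG x).2.1 with h | h
    · rw [h, hxy.2.1 h]
    · rcases mul_self_eq_one_iff.1 (hG y).2.1 with h' | h'
      · rw [hxy.2.2 h', h']
      · rw [h, h']
  refine Subtype.ext ?_
  rw [← hmk x, ← hmk y, ← mul_inv_eq_one, ← map_inv, ← map_mul]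
  have hy : (G y)⁻¹ ∈ liftGroup φ I s hT := inv_mem ⟨g y, σ y, hG y⟩
  refine hT.central_of_commute φ I s fun v hv => ?_
  rw [Units.val_mul, Matrix.mul_assoc]
  have hv' := (mem_good.1 (inv_mem (hG y).1)).2.1 v hv
  have h1 := (hG y).2.2 _ hv'
  rw [← mul_apply, mul_inv_cancel, one_apply] at h1
  have h2 := (hG x).2.2 _ hv'
  rw [← mul_apply, hxy.1, mul_inv_cancel, one_apply, hσ] at h2
  have h3 : mat φ I s i k f v * ((G y : GL (Fin 2) K) : Matrix (Fin 2) (Fin 2) K) =
      σ y • (((G y : GL (Fin 2) K) : Matrix (Fin 2) (Fin 2) K) *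
        mat φ I s i k f ((g y)⁻¹.1 v)) := by
    rw [h1, smul_smul, (hG y).2.1, one_smul]
  have h4 : ((G y)⁻¹ : GL (Fin 2) K).val * mat φ I s i k f v =
      σ y • (mat φ I s i k f ((g y)⁻¹.1 v) * ((G y)⁻¹ : GL (Fin 2) K).val) := by
    calc ((G y)⁻¹ : GL (Fin 2) K).val * mat φ I s i k f v
        = ((G y)⁻¹ : GL (Fin 2) K).val * (mat φ I s i k f v * (G y).val) *
            ((G y)⁻¹ : GL (Fin 2) K).val := by
          rw [Matrix.mul_assoc, Matrix.mul_assoc (mat φ I s i k f v), ← Units.val_mul, mul_inv_cancel,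
            Units.val_one, Matrix.mul_one]
      _ = _ := by
          rw [h3, Matrix.mul_smul, Matrix.smul_mul, ← Matrix.mul_assoc ((G y)⁻¹ : GL (Fin 2) K).val,
            ← Units.val_mul, inv_mul_cancel, Units.val_one, Matrix.one_mul]
  rw [h4, Matrix.mul_smul, ← Matrix.mul_assoc, h2, Matrix.smul_mul, smul_smul, (hG y).2.1, one_smul,
    Matrix.mul_assoc]

end model

end Tri

theorem mk_eq_of_smul {K : Type*} [Field K] {G G' : GL (Fin 2) K} {c : K}
    (h : (G' : Matrix (Fin 2) (Fin 2) K) = c • (G : Matrix (Fin 2) (Fin 2) K)) :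
    Matrix.ProjGenLinGroup.mk G = Matrix.ProjGenLinGroup.mk G' := by
  have hc : c ≠ 0 := fun h0 => G'.det_ne_zero (by rw [h, h0, zero_smul, Matrix.det_zero])
  rw [Matrix.ProjGenLinGroup.mk_eq_mk_iff]
  refine ⟨Units.mk0 c hc, Units.ext ?_⟩
  rw [Units.val_mul, h]
  ext a b
  simp [Matrix.GeneralLinearGroup.coe_scalar, mul_comm c]

namespace Tri

variable (hT : Tri H i k m o f)
include hT

theorem exists_mat_unit {K : Type*} [Field K] (φ : F →+* K) {I s : K} (hI : I * I = -1)
    (hs : s * s * φ (f ⬝ᵥ f) = 1) {u : Fin n → F} (hu : InY i k f u) (huu : u ⬝ᵥ u ≠ 0) :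
    ∃ G : GL (Fin 2) K, (G : Matrix (Fin 2) (Fin 2) K) = mat φ I s i k f u ∧
      (G : Matrix (Fin 2) (Fin 2) K) * G = φ (u ⬝ᵥ u) • 1 := by
  have h2 : (2 : K) ≠ 0 := fun h0 => hT.two ((map_eq_zero φ).1 (by rw [map_ofNat]; exact h0))
  have hsq : mat φ I s i k f u * mat φ I s i k f u = φ (u ⬝ᵥ u) • (1 : Matrix (Fin 2) (Fin 2) K) := by
    have h := hT.anticomm φ I s hI hs hu hu
    rw [← two_smul K, mul_smul] at h
    exact smul_right_injective _ h2 h
  have hdet : (mat φ I s i k f u).det ≠ 0 := fun h0 => by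
    have h := congrArg Matrix.det hsq
    rw [Matrix.det_mul, h0, zero_mul, Matrix.det_smul, Matrix.det_one, mul_one] at h
    exact pow_ne_zero _ ((map_ne_zero φ).2 huu) h.symm
  exact ⟨Matrix.GeneralLinearGroup.mkOfDetNeZero _ hdet, rfl, hsq⟩

/-- The group of the triangle contains an element of order `p`. -/
theorem exists_unip (p : ℕ) [Fact p.Prime] [CharP F p] {a b : F}
    (hv : InV H (a • e i + b • e k + f)) (hb1 : f ⬝ᵥ f ≠ 1) (hb2 : 2 * (f ⬝ᵥ f) ≠ 1) :
    ∃ h : O F n, h ∈ Keep H ∧ (∀ y, InY i k f y → InY i k f (h.1 y)) ∧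
      (∀ x, PerpY i k f x → h.1 x = x) ∧ (∀ y, InY i k f y → (h ^ p).1 y = y) ∧
      ∃ y, InY i k f y ∧ h.1 y ≠ y := by
  classical
  let K := AlgebraicClosure F
  let φ : F →+* K := algebraMap F K
  have : CharP K p := (φ.charP_iff φ.injective p).1 inferInstance
  have h2 : (2 : K) ≠ 0 := fun h0 => hT.two ((map_eq_zero φ).1 (by rw [map_ofNat]; exact h0))
  obtain ⟨I, hI'⟩ := IsAlgClosed.exists_eq_mul_self (-1 : K)
  obtain ⟨s, hs'⟩ := IsAlgClosed.exists_eq_mul_self (φ (f ⬝ᵥ f))⁻¹
  have hI : I * I = -1 := hI'.symm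
  have hff : φ (f ⬝ᵥ f) ≠ 0 := (map_ne_zero φ).2 hT.ff
  have hs : s * s * φ (f ⬝ᵥ f) = 1 := by rw [← hs', inv_mul_cancel₀ hff]
  set v : Fin n → F := a • e i + b • e k + f with hv'
  set d : Fin n → F := e i + (-1 : F) • e k with hd
  have hvY : InY i k f v := ⟨a, b, 1, by rw [one_smul]⟩
  have hdd : d ⬝ᵥ d = 2 := (root_norm hT.two hT.ik (by ring)).1
  have hlift : ∀ {u : Fin n → F}, InY i k f u → u ⬝ᵥ u ≠ 0 → ∀ {g : O F n}, g ∈ Good hT →
      (∀ y, InY i k f y → g.1 y = (R u : O F n).1 y) →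
      ∀ G : GL (Fin 2) K, (G : Matrix (Fin 2) (Fin 2) K) = mat φ I s i k f u →
        (G : Matrix (Fin 2) (Fin 2) K) * G = φ (u ⬝ᵥ u) • 1 →
        G ∈ liftGroup φ I s hT := by
    intro u hu huu g hg hgu G hG hGG
    refine ⟨g, -1, hg, by ring, fun y hy => ?_⟩
    have hac := hT.anticomm φ I s hI hs hu hy
    rw [← hG] at hac
    rw [hgu y hy, R_apply, mat_sub_smul, ← hG, Matrix.sub_mul, Matrix.smul_mul, hGG, smul_smul,
      ← map_mul, div_mul_cancel₀ _ huu, map_mul, map_ofNat, dotProduct_comm y u, ← hac, neg_one_smul]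
    abel
  obtain ⟨Gi, hGi, hGi2⟩ := hT.exists_mat_unit φ hI hs hT.inY_e_i (by rw [ee]; exact one_ne_zero)
  obtain ⟨Gd, hGd, hGd2⟩ := hT.exists_mat_unit φ hI hs hT.inY_d (by rw [hdd]; exact hT.two)
  obtain ⟨Gv, hGv, hGv2⟩ := hT.exists_mat_unit φ hI hs hvY (by rw [hv.1]; exact one_ne_zero)
  obtain ⟨Gf, hGf, hGf2⟩ := hT.exists_mat_unit φ hI hs hT.inY_f hT.ff
  set L := (liftGroup φ I s hT).map (Matrix.ProjGenLinGroup.mk (n := Fin 2) (R := K)) with hLdef
  have hfin : Finite L := hT.finite_lift φ I s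
  have hLi : Gi ∈ liftGroup φ I s hT := hlift hT.inY_e_i (by rw [ee]; exact one_ne_zero)
    (hT.refl_good hT.inY_e_i (hT.inV_e i)) (fun _ _ => rfl) Gi hGi hGi2
  have hLd : Gd ∈ liftGroup φ I s hT := hlift hT.inY_d (by rw [hdd]; exact hT.two) hT.pi_good
    (fun y hy => hT.pi_apply hy) Gd hGd hGd2
  have hLv : Gv ∈ liftGroup φ I s hT := hlift hvY (by rw [hv.1]; exact one_ne_zero)
    (hT.refl_good hvY hv) (fun _ _ => rfl) Gv hGv hGv2
  by_cases hp : p ∣ Nat.card L
  · obtain ⟨x, hx⟩ := exists_prime_orderOf_dvd_card' p hp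
    obtain ⟨G, hG, hGx⟩ := x.2
    obtain ⟨g, σ, hg, hσ, hGg⟩ := hG
    have hp2 : Fact p.Prime := inferInstance
    have hL2 : Lifts φ I s hT ((G * G : GL (Fin 2) K) : Matrix (Fin 2) (Fin 2) K) (g * g) (σ * σ) := by
      simpa using Lifts.mul hT φ I s ⟨hg, hσ, hGg⟩ ⟨hg, hσ, hGg⟩
    have hord : orderOf (Matrix.ProjGenLinGroup.mk G) = p := by rw [hGx, Subgroup.orderOf_coe, hx]
    have hgg := mem_good.1 hL2.1
    refine ⟨g * g, hgg.1, hgg.2.1, fun z hz => ?_, fun y hy => ?_, ?_⟩
    · rcases (mem_good.1 hg).2.2 with h' | h'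
      · rw [mul_apply, h' z hz, h' z hz]
      · rw [mul_apply, h' z hz, h' _ (hT.pi_perp hz).1, (hT.pi_perp hz).2]
    · have hpow : ∀ t : ℕ,
          Lifts φ I s hT (((G * G) ^ t : GL (Fin 2) K) : Matrix (Fin 2) (Fin 2) K) ((g * g) ^ t) 1 := by
        intro t
        induction t with
        | zero => exact ⟨one_mem _, one_mul 1, fun y _ => by simp [one_apply]⟩
        | succ t ih =>
          have := Lifts.mul hT φ I s ih hL2
          rw [hσ, one_mul] at this
          simpa [pow_succ] using this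
      have h1 := (hpow p).2.2 y hy
      have hc : (G * G) ^ p ∈ Subgroup.center (GL (Fin 2) K) := by
        rw [← Matrix.ProjGenLinGroup.mk_eq_one, map_pow, map_mul, ← pow_two, pow_right_comm, ← hord,
          pow_orderOf_eq_one, one_pow]
      rw [Matrix.GeneralLinearGroup.center_eq_range_scalar] at hc
      obtain ⟨c, hc⟩ := hc
      rw [← hc, Matrix.GeneralLinearGroup.coe_scalar, one_smul] at h1
      refine (hT.mat_inj φ I s hI hs hy ((mem_good.1 (hpow p).1).2.1 y hy) ?_).symm
      ext r t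
      have := congrFun (congrFun h1 r) t
      simp [Matrix.scalar_apply, Matrix.diagonal_mul, Matrix.mul_diagonal] at this
      exact mul_left_cancel₀ c.ne_zero (this.trans (mul_comm _ _))
    · by_contra hall
      push Not at hall
      have h1 : Matrix.ProjGenLinGroup.mk (G * G) = 1 := hT.central_of_commute φ I s fun y hy => by
        rw [hL2.2.2 y hy, hall y hy, hσ, one_smul]
      rw [map_mul, ← pow_two, ← orderOf_dvd_iff_pow_eq_one, hord] at h1
      have hle := Nat.le_of_dvd (by norm_num) h1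
      have h2' := (Fact.out : p.Prime).two_le
      have hp22 : p = 2 := by omega
      subst hp22
      exact hT.two (by rw [← Nat.cast_two, CharP.cast_eq_zero F 2])
  · exfalso
    let r : CfsgLib.Dickson.PGL2 K := Matrix.ProjGenLinGroup.mk (Gd * Gi)
    have hr2 : Matrix.ProjGenLinGroup.mk Gf = r * r := by
      rw [← map_mul]
      have hfp : I * s * φ (f ⬝ᵥ f) ≠ 0 := fun h0 => by
        have : (I * I) * (s * s * φ (f ⬝ᵥ f)) * φ (f ⬝ᵥ f) = 0 := by linear_combination (I * s * φ (f ⬝ᵥ f)) * h0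
        rw [hI, hs] at this
        simp [hff] at this
      refine mk_eq_of_smul (c := 2 / (I * s * φ (f ⬝ᵥ f))) ?_
      rw [Units.val_mul, Units.val_mul, hGd, hGi, hGf]
      ext x y
      fin_cases x <;> fin_cases y <;>
        simp [mat, hd, Matrix.mul_apply, e_apply, e_dot, hT.ik, hT.ik.symm, hT.fi, hT.fk, add_dotProduct,
          neg_dotProduct, div_mul_cancel₀ _ hfp, mul_neg] <;> norm_num <;>
        linear_combination (div_mul_cancel₀ (2 : K) hfp)
    have hrne : r * r ≠ 1 := by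
      rw [← hr2, Ne, Matrix.ProjGenLinGroup.mk_eq_one, Matrix.GeneralLinearGroup.center_eq_range_scalar]
      rintro ⟨c, hc⟩
      have h01 := congrArg (fun M : GL (Fin 2) K => (M : Matrix (Fin 2) (Fin 2) K) 0 1) hc
      simp [Matrix.GeneralLinearGroup.coe_scalar, hGf, mat, hT.fk] at h01
      rcases h01 with (h' | h') | h'
      · simp [h'] at hI
      · simp [h'] at hs
      · exact hT.ff h'
    have hr4 : r * r * (r * r) = 1 := by
      rw [← hr2, ← map_mul, Matrix.ProjGenLinGroup.mk_eq_one,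
        Matrix.GeneralLinearGroup.center_eq_range_scalar]
      refine ⟨Units.mk0 _ hff, Units.ext ?_⟩
      rw [Units.val_mul, hGf2]
      ext x y
      fin_cases x <;> fin_cases y <;> simp [Matrix.GeneralLinearGroup.coe_scalar]
    let w : CfsgLib.Dickson.PGL2 K := Matrix.ProjGenLinGroup.mk Gv
    have hw2 : w * w = 1 := by
      rw [← map_mul, Matrix.ProjGenLinGroup.mk_eq_one, Matrix.GeneralLinearGroup.center_eq_range_scalar]
      refine ⟨1, Units.ext ?_⟩
      rw [Units.val_mul, hGv2, hv.1, map_one, map_one, one_smul, Units.val_one]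
    have hrL : r ∈ L := ⟨_, mul_mem hLd hLi, rfl⟩
    have hwL : w ∈ L := ⟨_, hLv, rfl⟩
    -- it suffices that the two conjugate central involutions commute
    suffices hcomm : w * (r * r) * w * (r * r) = r * r * (w * (r * r) * w) by
      rw [← hr2, ← map_mul, ← map_mul, ← map_mul, ← map_mul, Matrix.ProjGenLinGroup.mk_eq_mk_iff] at hcomm
      obtain ⟨c, hc⟩ := hcomm
      set f' : Fin n → F := (R v : O F n).1 f with hf'
      have hf'Y : InY i k f f' := hT.refl_inY hvY hT.inY_f
      have hvf : v ⬝ᵥ f = f ⬝ᵥ f := by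
        rw [hv', add_dotProduct, add_dotProduct, smul_dotProduct, smul_dotProduct, e_dot, e_dot, hT.fi,
          hT.fk]
        simp
      have hf'e : f' = f - (2 * (f ⬝ᵥ f)) • v := by
        rw [hf', R_apply, hv.1, dotProduct_comm f v, hvf, div_one]
      have hconj : (Gv : Matrix (Fin 2) (Fin 2) K) * Gf * Gv = -mat φ I s i k f f' := by
        have hac := hT.anticomm φ I s hI hs hvY hT.inY_f
        rw [← hGv, ← hGf, hvf] at hac
        rw [hf'e, mat_sub_smul, ← hGf, ← hGv, eq_sub_of_add_eq hac, Matrix.sub_mul, Matrix.smul_mul,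
          Matrix.one_mul, Matrix.mul_assoc, hGv2, hv.1, map_one, one_smul, Matrix.mul_one, map_mul,
          map_ofNat]
        abel
      have hc' := congrArg (fun M : GL (Fin 2) K => (M : Matrix (Fin 2) (Fin 2) K)) hc
      simp only [Units.val_mul, hconj] at hc'
      rw [hGf] at hc'
      set A := mat φ I s i k f f'
      set B := mat φ I s i k f f
      have hAB : B * A = (c : K) • (A * B) := by
        have e1 : -(B * A) = -((c : K) • (A * B)) := by
          calc -(B * A) = B * -A := by rw [Matrix.mul_neg]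
            _ = _ := by
              rw [← hc', Matrix.neg_mul]
              ext x y
              simp [Matrix.GeneralLinearGroup.coe_scalar, mul_comm]
              ring
        exact neg_injective e1
      have hsum := hT.anticomm φ I s hI hs hf'Y hT.inY_f
      rw [← show A = mat φ I s i k f f' from rfl, ← show B = mat φ I s i k f f from rfl, hAB] at hsum
      have hBB : B * B = φ (f ⬝ᵥ f) • (1 : Matrix (Fin 2) (Fin 2) K) := hGf ▸ hGf2
      have hff' : f' ⬝ᵥ f = (f ⬝ᵥ f) * (1 - 2 * (f ⬝ᵥ f)) := by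
        rw [hf'e, sub_dotProduct, smul_dotProduct, hvf, smul_eq_mul]; ring
      have hne : f' ⬝ᵥ f ≠ 0 := by
        rw [hff']
        exact mul_ne_zero hT.ff (sub_ne_zero.2 (Ne.symm hb2))
      have hAB1 : A * B = ((2 * φ (f' ⬝ᵥ f)) / (1 + (c : K))) • (1 : Matrix (Fin 2) (Fin 2) K) ∧
          1 + (c : K) ≠ 0 := by
        have hne1 : 1 + (c : K) ≠ 0 := fun h0 => by
          rw [show A * B + (c : K) • (A * B) = (1 + (c : K)) • (A * B) by rw [add_smul, one_smul], h0,
            zero_smul] at hsum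
          have := congrFun (congrFun hsum 0) 0
          simp [h2, hne] at this
        refine ⟨?_, hne1⟩
        rw [show A * B + (c : K) • (A * B) = (1 + (c : K)) • (A * B) by rw [add_smul, one_smul]] at hsum
        calc A * B = (1 + (c : K))⁻¹ • ((1 + (c : K)) • (A * B)) := by
              rw [smul_smul, inv_mul_cancel₀ hne1, one_smul]
          _ = _ := by rw [hsum, smul_smul, inv_mul_eq_div]
      obtain ⟨κ, hκ⟩ : ∃ κ : K, A = κ • B := by
        refine ⟨(2 * φ (f' ⬝ᵥ f)) / (1 + (c : K)) / φ (f ⬝ᵥ f), ?_⟩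
        have e1 : φ (f ⬝ᵥ f) • A = ((2 * φ (f' ⬝ᵥ f)) / (1 + (c : K))) • B := by
          calc φ (f ⬝ᵥ f) • A = A * (B * B) := by rw [hBB, Matrix.mul_smul, Matrix.mul_one]
            _ = A * B * B := (Matrix.mul_assoc _ _ _).symm
            _ = _ := by rw [hAB1.1, Matrix.smul_mul, Matrix.one_mul]
        calc A = (φ (f ⬝ᵥ f))⁻¹ • (φ (f ⬝ᵥ f) • A) := by
              rw [smul_smul, inv_mul_cancel₀ hff, one_smul]
          _ = _ := by rw [e1, smul_smul, inv_mul_eq_div]
      have e00 := congrFun (congrFun hκ 0) 0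
      have e01 := congrFun (congrFun hκ 0) 1
      have e10 := congrFun (congrFun hκ 1) 0
      have hfv : f' i = -(2 * (f ⬝ᵥ f) * a) ∧ f' k = -(2 * (f ⬝ᵥ f) * b) := by
        rw [hf'e, hv']
        constructor <;> simp [e_apply, hT.ik, hT.ik.symm, hT.fi, hT.fk]
      simp [A, B, mat, hT.fi, hT.fk] at e00 e01 e10
      have ea : f' i = 0 := e00
      have eb : f' k = 0 := (map_eq_zero φ).1 ((mul_eq_zero.1
        (show (2 : K) * φ (f' k) = 0 by linear_combination e01 + e10)).resolve_left h2)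
      have ha : a = 0 := by
        have := hfv.1.symm.trans ea
        simpa [hT.two, hT.ff] using this
      have hb : b = 0 := by
        have := hfv.2.symm.trans eb
        simpa [hT.two, hT.ff] using this
      have := hv.1
      rw [hv', ha, hb, zero_smul, zero_smul, zero_add, zero_add] at this
      exact hb1 this
    have toL : ∀ {P : Type} [Group P] (ψ : L ≃* P),
        (∀ a b : P, a * a * (a * a) = 1 → a * a ≠ 1 → b * b = 1 →
          b * (a * a) * b * (a * a) = a * a * (b * (a * a) * b)) →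
        w * (r * r) * w * (r * r) = r * r * (w * (r * r) * w) := by
      intro P _ ψ hP
      have := hP (ψ ⟨r, hrL⟩) (ψ ⟨w, hwL⟩) (by
        rw [← map_mul, ← map_mul, show (⟨r, hrL⟩ * ⟨r, hrL⟩ * (⟨r, hrL⟩ * ⟨r, hrL⟩) : L) = 1 from
          Subtype.ext hr4, map_one])
        (by rw [← map_mul, ← map_one ψ]; exact fun h => hrne (congrArg Subtype.val (ψ.injective h)))
        (by rw [← map_mul, show (⟨w, hwL⟩ * ⟨w, hwL⟩ : L) = 1 from Subtype.ext hw2, map_one])
      simp only [← map_mul] at this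
      exact congrArg Subtype.val (ψ.injective this)
    have commute_case : w * (r * r) = r * r * w →
        w * (r * r) * w * (r * r) = r * r * (w * (r * r) * w) := fun h => by
      rw [h, mul_assoc (r * r) w w, hw2, mul_one]
    rcases CfsgLib.Dickson.tame L (CfsgLib.Dickson.unipotents_empty p L hp) with
      ⟨x, y, hxy, hfix⟩ | ⟨x, y, hxy, hpres, hswap, -⟩ | ⟨hN, x, -, hst⟩ | ⟨hN, x, -, hst⟩ |
      ⟨hN, x, -, hst⟩
    · refine commute_case ?_
      obtain ⟨R₀, hR₀⟩ := (CfsgLib.Dickson.isCyclic_of_fix_pair L hxy hfix).exists_generator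
      obtain ⟨nw, hnw⟩ := hR₀ ⟨w, hwL⟩
      obtain ⟨nr, hnr⟩ := hR₀ ⟨r, hrL⟩
      have hc : Commute (⟨w, hwL⟩ : L) ⟨r, hrL⟩ := hnw ▸ hnr ▸ Commute.zpow_zpow_self R₀ nw nr
      exact congrArg Subtype.val (hc.mul_right hc).eq
    · obtain ⟨ψ⟩ := CfsgLib.Dickson.dihedral_of_pair L hxy hpres hswap
      refine toL ψ fun a b h4 _ hb => ?_
      rw [dihedral_fact a b h4, mul_assoc (a * a) b b, hb, mul_one]
    · obtain ⟨ψ⟩ := CfsgLib.Dickson.a4_of_stab L hN x hst
      refine toL ψ fun a b h4 hne _ => absurd ?_ hne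
      have := alt_four_fact a.1 (Equiv.Perm.mem_alternatingGroup.1 a.2)
        (by simpa using congrArg Subtype.val h4)
      exact Subtype.ext (by simpa using this)
    · obtain ⟨ψ⟩ := CfsgLib.Dickson.s4_of_stab L hN x hst
      exact toL ψ fun a b => perm_four_fact a b
    · obtain ⟨ψ⟩ := CfsgLib.Dickson.a5_of_stab L hN x hst
      refine toL ψ fun a b h4 hne _ => absurd ?_ hne
      have := perm_five_fact a.1 (Equiv.Perm.mem_alternatingGroup.1 a.2)
        (by simpa using congrArg Subtype.val h4)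
      exact Subtype.ext (by simpa using this)

end Tri

end CfsgLib.Geo.OFrame
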