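import Cfsg.Agent.Geo.OrthFrame.Small
import Cfsg.Agent.Geo.OrthFrame.Triangle

/-!
Monomial elements of an overgroup moving frame vectors.
-/

set_option autoImplicit false
set_option linter.unusedSectionVars false

namespace CfsgLib.Geo.OFrame

open QuadraticMap CfsgLib.Forms CfsgLib.Quad Matrix

variable {F : Type*} [Field F] [Finite F] [DecidableEq F] {n : ℕ} {H : Subgroup (O F n)}

theorem R_root_coord (h2 : (2 : F) ≠ 0) {x y : Fin n} (hxy : x ≠ y) (v : Fin n → F) (t : Fin n) :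
    (R (e x + (-1 : F) • e y) : O F n).1 v t = v (Equiv.swap x y t) := by
  rw [R_apply, (root_norm h2 hxy (by ring)).1, dot_root, mul_div_cancel_left₀ _ h2]
  simp only [Pi.sub_apply, Pi.smul_apply, Pi.add_apply, e_apply, smul_eq_mul, Equiv.swap_apply_def]
  split_ifs with h1 h3 <;> subst_vars <;> first | exact absurd rfl hxy | ring

/-- A permutation of coordinates realised by a monomial element of the overgroup. -/
def Permutes (H : Subgroup (O F n)) (σ : Equiv.Perm (Fin n)) : Prop :=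
  ∃ g ∈ H, Mono g ∧ ∀ (v : Fin n → F) (t : Fin n), g.1 v t = v (σ t)

theorem Permutes.one : Permutes H 1 := ⟨1, one_mem _, mono_one, fun v t => by simp [one_apply]⟩

theorem Permutes.mul {σ τ : Equiv.Perm (Fin n)} (hσ : Permutes H σ) (hτ : Permutes H τ) :
    Permutes H (σ * τ) := by
  obtain ⟨g, hg, hgm, hgv⟩ := hσ
  obtain ⟨h, hh, hhm, hhv⟩ := hτ
  exact ⟨h * g, mul_mem hh hg, hhm.mul hgm, fun v t => by
    rw [mul_apply, hhv, hgv, Equiv.Perm.mul_apply]⟩

theorem Over.permutes_swaps (hH : Over H) {x y p q : Fin n} (hxy : x ≠ y) (hpq : p ≠ q) :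
    Permutes H (Equiv.swap x y * Equiv.swap p q) :=
  ⟨R (e p + (-1 : F) • e q) * R (e x + (-1 : F) • e y),
    hH.rel_root hpq hxy (by ring) (by ring),
    (mono_R_root hH.two hpq (by ring)).mul (mono_R_root hH.two hxy (by ring)), fun v t => by
      rw [mul_apply, R_root_coord hH.two hpq, R_root_coord hH.two hxy, Equiv.Perm.mul_apply]⟩

theorem exists_avoid (S : Finset (Fin n)) (h : S.card + 2 ≤ n) :
    ∃ p q, p ∉ S ∧ q ∉ S ∧ p ≠ q := by
  obtain ⟨p, hp, q, hq, hpq⟩ := Finset.one_lt_card.1 (show 1 < Sᶜ.card by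
    rw [Finset.card_compl, Fintype.card_fin]; omega)
  exact ⟨p, q, Finset.mem_compl.1 hp, Finset.mem_compl.1 hq, hpq⟩

/-- Moving one point to another, fixing given points. -/
theorem Over.permutes_to (hH : Over H) {x y : Fin n} (S : Finset (Fin n)) (hx : x ∉ S) (hy : y ∉ S)
    (hS : S.card + 4 ≤ n) : ∃ σ, Permutes H σ ∧ σ x = y ∧ σ y = x ∧ ∀ z ∈ S, σ z = z := by
  rcases eq_or_ne x y with rfl | hxy
  · exact ⟨1, Permutes.one, rfl, rfl, fun _ _ => rfl⟩
  have hcard : (insert x (insert y S)).card + 2 ≤ n := by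
    have h1 := Finset.card_insert_le x (insert y S)
    have h2 := Finset.card_insert_le y S
    omega
  obtain ⟨p, q, hp, hq, hpq⟩ := exists_avoid _ hcard
  simp only [Finset.mem_insert, not_or] at hp hq
  refine ⟨_, hH.permutes_swaps hxy hpq, ?_, ?_, fun z hz => ?_⟩
  · rw [Equiv.Perm.mul_apply, Equiv.swap_apply_of_ne_of_ne (Ne.symm hp.1) (Ne.symm hq.1), Equiv.swap_apply_left]
  · rw [Equiv.Perm.mul_apply, Equiv.swap_apply_of_ne_of_ne (Ne.symm hp.2.1) (Ne.symm hq.2.1),
      Equiv.swap_apply_right]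
  · rw [Equiv.Perm.mul_apply, Equiv.swap_apply_of_ne_of_ne (ne_of_mem_of_not_mem hz hp.2.2)
      (ne_of_mem_of_not_mem hz hq.2.2),
      Equiv.swap_apply_of_ne_of_ne (ne_of_mem_of_not_mem hz hx) (ne_of_mem_of_not_mem hz hy)]

/-- Moving three points to three others. -/
theorem Over.permutes_three (hH : Over H) (hn : 7 ≤ n) {i k m a b c : Fin n} (hik : i ≠ k)
    (him : i ≠ m) (hkm : k ≠ m) (hab : a ≠ b) (hac : a ≠ c) (hbc : b ≠ c) :
    ∃ σ, Permutes H σ ∧ σ i = a ∧ σ k = b ∧ σ m = c := by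
  obtain ⟨σ₁, h₁, hσ₁, -, -⟩ := hH.permutes_to (x := i) (y := a) ∅ (by simp) (by simp) (by simp; omega)
  have hk1 : σ₁ k ≠ a := fun h => hik (σ₁.injective (hσ₁.trans h.symm))
  obtain ⟨σ₂, h₂, hσ₂, -, hfix₂⟩ := hH.permutes_to (x := σ₁ k) (y := b) {a} (by simpa using hk1)
    (by simpa using hab.symm) (by simp; omega)
  have ha2 : σ₂ a = a := hfix₂ a (by simp)
  have hm1 : σ₂ (σ₁ m) ≠ a := fun h => him (σ₁.injective (σ₂.injective (by rw [h, hσ₁, ha2])))
  have hm2 : σ₂ (σ₁ m) ≠ b := fun h => hkm (σ₁.injective (σ₂.injective (by rw [h, hσ₂])))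
  obtain ⟨σ₃, h₃, hσ₃, -, hfix₃⟩ := hH.permutes_to (x := σ₂ (σ₁ m)) (y := c) {a, b} (by simp [hm1, hm2])
    (by simp [hac.symm, hbc.symm]) (by have := Finset.card_le_two (a := a) (b := b); omega)
  refine ⟨σ₃ * σ₂ * σ₁, (h₃.mul h₂).mul h₁, ?_, ?_, ?_⟩
  · simp only [Equiv.Perm.mul_apply]; rw [hσ₁, ha2, hfix₃ a (by simp)]
  · simp only [Equiv.Perm.mul_apply]; rw [hσ₂, hfix₃ b (by simp)]
  · simp only [Equiv.Perm.mul_apply]; exact hσ₃

theorem Over.inV_perm (hH : Over H) {σ : Equiv.Perm (Fin n)} (hσ : Permutes H σ) {v : Fin n → F}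
    (hv : InV H v) : InV H fun t => v (σ t) := by
  obtain ⟨g, hg, hgm, hgv⟩ := hσ
  have h := (hH.mono_keep hg hgm v).1 hv
  rwa [show g.1 v = fun t => v (σ t) from funext (hgv v)] at h

theorem Over.inV_signs (hH : Over H) {v : Fin n → F} (hv : InV H v) (S : Finset (Fin n)) :
    InV H fun t => if t ∈ S then -v t else v t := by
  induction S using Finset.induction_on with
  | empty => simpa using hv
  | insert a S ha ih =>
    have h := hH.inV_refl ih (hH.inV_e a)
    convert h using 1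
    funext t
    rw [R_e_coord]
    rcases eq_or_ne t a with rfl | hta
    · simp [ha]
    · simp [hta]

end CfsgLib.Geo.OFrame
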