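import Cfsg.Agent.Geo.OrthFrame.Spheres
import Cfsg.Agent.Geo.OrthFrame.Swaps

/-!
From one small non-root vector to all unit vectors.
-/

set_option autoImplicit false
set_option linter.unusedSectionVars false

namespace CfsgLib.Geo.OFrame

open QuadraticMap CfsgLib.Forms CfsgLib.Quad Matrix

variable {F : Type*} [Field F] [Finite F] [DecidableEq F] {n : ℕ} {H : Subgroup (O F n)}
variable (p : ℕ) [Fact p.Prime] [CharP F p]

theorem natCast_ne_zero_of_lt {t : ℕ} (h0 : 0 < t) (ht : t < p) : (t : F) ≠ 0 := by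
  rw [Ne, CharP.cast_eq_zero_iff F p]
  exact fun h => absurd (Nat.le_of_dvd h0 h) (by omega)

theorem dot_self_of_sq {v : Fin n → F} {A : F} (h : ∀ j ∈ supp v, v j * v j = A) :
    v ⬝ᵥ v = ((supp v).card : F) * A := by
  rw [dotProduct, ← Finset.sum_subset (Finset.subset_univ (supp v)) fun j _ hj => by
    rw [not_mem_supp.1 hj, mul_zero], Finset.sum_congr rfl h, Finset.sum_const, nsmul_eq_mul]

/-- Small related vectors only have entries whose squares are `1` or `1/2`. -/
def NoGood (H : Subgroup (O F n)) : Prop :=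
  ∀ v, InV H v → (supp v).card + 3 ≤ n → ∀ i, v i = 0 ∨ v i * v i = 1 ∨ 2 * (v i * v i) = 1

/-- Without a good vector an entry with square one half forces all others to be of this kind. -/
theorem NoGood.half (hH : Over H) (hp : 5 ≤ p) (hng : NoGood H) {u : Fin n → F} (hu : InV H u)
    (hus : (supp u).card + 3 ≤ n) {i j : Fin n} (hi : 2 * (u i * u i) = 1) (hji : j ≠ i)
    (hj : u j ≠ 0) : 2 * (u j * u j) = 1 := by
  rcases hng u hu hus j with h | h | h
  · exact absurd h hj
  swap
  · exact h
  exfalso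
  have hi0 : u i ≠ 0 := fun h0 => by simp [h0] at hi
  set w := (R u : O F n).1 (e i) with hw
  have hwV : InV H w := hH.inV_refl (hH.inV_e i) hu
  have hwe : ∀ t, w t = (if t = i then 1 else 0) - 2 * u i * u t := fun t => by
    rw [hw, R_apply, hu.1, e_dot, div_one, Pi.sub_apply, Pi.smul_apply, e_apply, smul_eq_mul]
  have hsub : supp w ⊆ supp u := fun t ht => by
    rw [mem_supp] at ht ⊢
    intro h0
    rw [hwe, h0, mul_zero, sub_zero] at ht
    split_ifs at ht with h'
    · exact hi0 (h' ▸ h0)
    · exact ht rfl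
  have h2 : ((2 : ℕ) : F) ≠ 0 := natCast_ne_zero_of_lt p (by omega) (by omega)
  have h3 : ((3 : ℕ) : F) ≠ 0 := natCast_ne_zero_of_lt p (by omega) (by omega)
  push_cast at h2 h3
  have hwj : w j * w j = 2 := by
    rw [hwe, if_neg hji]
    linear_combination (2 * (u j * u j)) * hi + 2 * h
  rcases hng w hwV (le_trans (by have := Finset.card_le_card hsub; omega) hus) j with h' | h' | h'
  · rw [h', mul_zero] at hwj; exact h2 hwj.symm
  · exact one_ne_zero (show (1 : F) = 0 by linear_combination h' - hwj)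
  · exact h3 (by linear_combination h' - 2 * hwj)

/-- A good vector. -/
theorem Over.exists_good (hH : Over H) (hp : 5 ≤ p) {v : Fin n → F} (hv : InV H v)
    (hvs : (supp v).card + 3 ≤ n) (hnr : ¬ Root v) :
    ∃ u, InV H u ∧ (supp u).card + 3 ≤ n ∧ ∃ i, u i ≠ 0 ∧ u i * u i ≠ 1 ∧ 2 * (u i * u i) ≠ 1 := by
  by_contra hcon
  push Not at hcon
  have hng : NoGood H := fun u hu hus i => by
    by_cases h0 : u i = 0
    · exact Or.inl h0
    by_cases h1 : u i * u i = 1
    · exact Or.inr (Or.inl h1)
    exact Or.inr (Or.inr (hcon u hu hus i h0 h1))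
  have h2 : (2 : F) ≠ 0 := hH.two
  obtain ⟨hc1, hc3, hc17⟩ : (supp v).card ≠ 0 ∧ ((3 : ℕ) : F) ≠ 0 ∧ True :=
    ⟨fun h => hnr (Or.inl (by omega)), natCast_ne_zero_of_lt p (by omega) (by omega), trivial⟩
  -- a vector all of whose squares are one
  obtain ⟨u, hu, hus, hu2, hu1⟩ : ∃ u, InV H u ∧ (supp u).card + 3 ≤ n ∧ 2 ≤ (supp u).card ∧
      ∀ t ∈ supp u, u t * u t = 1 := by
    have hv2 : 2 ≤ (supp v).card := by
      by_contra h
      exact hnr (Or.inl (by omega))
    by_cases hall : ∀ t ∈ supp v, v t * v t = 1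
    · exact ⟨v, hv, hvs, hv2, hall⟩
    push Not at hall
    obtain ⟨i, hi, hi1⟩ := hall
    have hi2 : 2 * (v i * v i) = 1 :=
      ((hng v hv hvs i).resolve_left (mem_supp.1 hi)).resolve_left hi1
    have hhalf : ∀ t ∈ supp v, 2 * (v t * v t) = 1 := fun t ht => by
      rcases eq_or_ne t i with rfl | hti
      · exact hi2
      · exact hng.half p hH hp hv hvs hi2 hti (mem_supp.1 ht)
    have hv3 : 3 ≤ (supp v).card := by
      by_contra h
      refine hnr (Or.inr ⟨by omega, fun a ha b hb => mul_left_cancel₀ h2 ?_⟩)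
      rw [hhalf a ha, hhalf b hb]
    refine ⟨(R v : O F n).1 (e i), hH.inV_refl (hH.inV_e i) hv, ?_⟩
    have hwe : ∀ t, (R v : O F n).1 (e i) t = (if t = i then 1 else 0) - 2 * v i * v t := fun t => by
      rw [R_apply, hv.1, e_dot, div_one, Pi.sub_apply, Pi.smul_apply, e_apply, smul_eq_mul]
    have hwi : (R v : O F n).1 (e i) i = 0 := by
      rw [hwe, if_pos rfl]; linear_combination -hi2
    have hsupp : supp ((R v : O F n).1 (e i)) = (supp v).erase i := by
      ext t
      rcases eq_or_ne t i with rfl | hti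
      · simp [mem_supp, hwi]
      · simp [mem_supp, hwe, hti, h2, mem_supp.1 hi]
    rw [hsupp, Finset.card_erase_of_mem hi]
    refine ⟨by omega, by omega, fun t ht => ?_⟩
    rw [Finset.mem_erase] at ht
    rw [hwe, if_neg ht.1]
    linear_combination (2 * (v t * v t)) * hi2 + hhalf t ht.2
  -- flip one sign
  have hs : ((supp u).card : F) = 1 := by
    have h := dot_self_of_sq hu1
    rw [hu.1, mul_one] at h
    exact h.symm
  obtain ⟨j, hj, t, ht, hjt⟩ := Finset.one_lt_card.1 hu2
  set u' := (R (e j) : O F n).1 u with hu'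
  have hu'V : InV H u' := hH.inV_refl hu (hH.inV_e j)
  set d := (R u : O F n).1 u' with hd
  have hdV : InV H d := hH.inV_refl hu'V hu
  have huu' : u' ⬝ᵥ u = -1 := by
    have := hu1 j hj
    rw [hu', R_apply, ee, dot_e, div_one, sub_dotProduct, smul_dotProduct, e_dot, hu.1, smul_eq_mul]
    linear_combination -2 * this
  have hde : ∀ s, d s = if s = j then u s else 3 * u s := fun s => by
    rw [hd, R_apply, huu', hu.1, div_one, Pi.sub_apply, Pi.smul_apply, smul_eq_mul, hu', R_e_coord]
    split_ifs <;> ring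
  have hds : (supp d).card + 3 ≤ n := by
    refine le_trans (Nat.add_le_add_right (Finset.card_le_card fun s hs' => ?_) 3) hus
    rw [mem_supp] at hs' ⊢
    intro h0
    exact hs' (by rw [hde, h0]; simp)
  push_cast at hc3
  have ht0 : d t ≠ 0 := by
    rw [hde, if_neg hjt.symm]; exact mul_ne_zero hc3 (mem_supp.1 ht)
  have hdt : d t * d t = 9 := by
    rw [hde, if_neg hjt.symm]; linear_combination 9 * hu1 t ht
  have hdj : d j * d j = 1 := by rw [hde, if_pos rfl]; exact hu1 j hj
  rcases hng d hdV hds t with h | h | h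
  · exact ht0 h
  · exact pow_ne_zero 3 h2 (by linear_combination h - hdt)
  · have := hng.half p hH hp hdV hds h hjt (by rw [hde, if_pos rfl]; exact mem_supp.1 hj)
    exact one_ne_zero (show (1 : F) = 0 by linear_combination this - 2 * hdj)

omit [Fact p.Prime] [CharP F p] in
theorem exists_binary {β N : F} (hβ : β ≠ 0) (hodd : (2 : F) ≠ 0) :
    ∃ y z : F, y * y + β * (z * z) = N := by
  have : Fintype F := Fintype.ofFinite F
  have hchar : Fintype.card F % 2 = 1 := by
    refine FiniteField.odd_card_of_char_ne_two fun h => hodd ?_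
    have := ringChar.of_eq h
    exact_mod_cast CharP.cast_eq_zero F 2
  obtain ⟨y, z, h⟩ := FiniteField.exists_root_sum_quadratic
    (f := Polynomial.X ^ 2) (g := Polynomial.C β * Polynomial.X ^ 2 - Polynomial.C N)
    (Polynomial.degree_X_pow 2) (by compute_degree!) hchar
  simp at h
  exact ⟨y, z, by linear_combination h⟩

theorem dot_three {a b c : Fin n} (hab : a ≠ b) (hac : a ≠ c) (hbc : b ≠ c) (x y z : F) :
    (x • e a + y • e b + z • e c : Fin n → F) ⬝ᵥ (x • e a + y • e b + z • e c) =
      x * x + y * y + z * z := by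
  simp [add_dotProduct, dotProduct_add, smul_dotProduct, dotProduct_smul, ee, ee_ne hab, ee_ne hac,
    ee_ne hbc, ee_ne hab.symm, ee_ne hac.symm, ee_ne hbc.symm]

/-- All units on three coordinates are related to the frame. -/
theorem Over.units_three (hH : Over H) (hn : 7 ≤ n) (hcard : Nat.card F = p) (hp : 5 ≤ p)
    {v : Fin n → F} (hv : InV H v) (hvs : (supp v).card + 3 ≤ n) (hnr : ¬ Root v)
    {a b c : Fin n} (hab : a ≠ b) (hac : a ≠ c) (hbc : b ≠ c) {x y z : F}
    (hN : x * x + y * y + z * z = 1) : InV H (x • e a + y • e b + z • e c) := by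
  have h2 : (2 : F) ≠ 0 := hH.two
  obtain ⟨u, hu, hus, i, hi0, hi1, hi2⟩ := hH.exists_good p hp hv hvs hnr
  obtain ⟨k, m, o, hk, hm, ho, hkm, hko, hmo⟩ : ∃ k m o, k ∉ supp u ∧ m ∉ supp u ∧ o ∉ supp u ∧
      k ≠ m ∧ k ≠ o ∧ m ≠ o := by
    obtain ⟨k, m, o, hk, hm, ho, h1, h2, h3⟩ := Finset.two_lt_card_iff.1 (show 2 < (supp u)ᶜ.card by
      rw [Finset.card_compl, Fintype.card_fin]; omega)
    exact ⟨k, m, o, Finset.mem_compl.1 hk, Finset.mem_compl.1 hm, Finset.mem_compl.1 ho, h1, h2, h3⟩
  rw [not_mem_supp] at hk hm ho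
  have hik : i ≠ k := fun h => hi0 (h ▸ hk)
  have him : i ≠ m := fun h => hi0 (h ▸ hm)
  have hio : i ≠ o := fun h => hi0 (h ▸ ho)
  set f := u - u i • e i with hf
  have hfv : ∀ t, f t = if t = i then 0 else u t := fun t => by
    rw [hf, Pi.sub_apply, Pi.smul_apply, e_apply, smul_eq_mul]
    split_ifs with h
    · rw [h]; ring
    · ring
  have hff : f ⬝ᵥ f = 1 - u i * u i := by
    rw [hf]
    simp [sub_dotProduct, dotProduct_sub, smul_dotProduct, dotProduct_smul, dot_e, e_dot, hu.1, e_apply]
  have hff0 : f ⬝ᵥ f ≠ 0 := by rw [hff]; exact sub_ne_zero.2 hi1.symm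
  have hT₁ : Tri H i k m o f := ⟨hH, hik, hmo, him, hio, hkm, hko, by simp [hfv], by simp [hfv, hk],
    by simp [hfv, hm], by simp [hfv, ho], hff0⟩
  have hT₂ : Tri H k m i o f := ⟨hH, hkm, hio, hik.symm, hko, him.symm, hmo, by simp [hfv, hk],
    by simp [hfv, hm], by simp [hfv], by simp [hfv, ho], hff0⟩
  have hb1 : f ⬝ᵥ f ≠ 1 := by
    rw [hff]; exact fun h => hi0 (mul_self_eq_zero.1 (by linear_combination -h))
  have hb2 : 2 * (f ⬝ᵥ f) ≠ 1 := by
    rw [hff]; exact fun h => hi2 (by linear_combination -h)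
  have hv₁ : InV H (u i • e i + (0 : F) • e k + f) := by
    rw [show u i • e i + (0 : F) • e k + f = u by rw [hf]; module]; exact hu
  have hzero : ∀ (P Q : Fin n), PerpY P Q f (0 : Fin n → F) := fun P Q => ⟨rfl, rfl, zero_dotProduct f⟩
  have hv₂ : InV H (u i • e k + (0 : F) • e m + f) := by
    have h := (hT₁.move p hcard hp hv₁ hb1 hb2 (y := u i • e i + (0 : F) • e k + f)
      (y' := (0 : F) • e i + u i • e k + (1 : F) • f) ⟨u i, 0, 1, by module⟩ ⟨_, _, _, rfl⟩ (by
        simp [add_dotProduct, dotProduct_add, smul_dotProduct, dotProduct_smul, dot_e, e_dot, hT₁.fi,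
          hT₁.fk, e_apply, hik, hik.symm])
      (by rw [hv₁.1]; exact one_ne_zero) (hzero i k)).1 (by rw [add_zero]; exact hv₁)
    rw [show (0 : F) • e i + u i • e k + (1 : F) • f + 0 = u i • e k + (0 : F) • e m + f by module] at h
    exact h
  -- units with a nonzero pair sum on the spare coordinates
  have hbase : ∀ x y z : F, x * x + y * y + z * z = 1 → x * x + y * y ≠ 0 →
      InV H (x • e i + y • e k + z • e m) := by
    intro x y z hN hne
    obtain ⟨y', z', hyz⟩ := exists_binary (N := x * x + y * y) hff0 h2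
    have hxm : PerpY i k f (z • e m) :=
      ⟨by simp [e_apply, him], by simp [e_apply, hkm], by simp [smul_dotProduct, e_dot, hT₁.fm]⟩
    refine (hT₁.move p hcard hp hv₁ hb1 hb2 (y := x • e i + y • e k)
      (y' := (0 : F) • e i + y' • e k + z' • f) ⟨x, y, 0, by module⟩ ⟨_, _, _, rfl⟩ ?_ ?_ hxm).2 ?_
    · simp [add_dotProduct, dotProduct_add, smul_dotProduct, dotProduct_smul, dot_e, e_dot, hT₁.fi,
        hT₁.fk, e_apply, hik, hik.symm]
      linear_combination -hyz
    · simpa [add_dotProduct, dotProduct_add, smul_dotProduct, dotProduct_smul, dot_e, e_dot, e_apply,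
        hik, hik.symm] using hne
    rw [show (0 : F) • e i + y' • e k + z' • f + z • e m = y' • e k + z • e m + z' • f + 0 by module]
    refine (hT₂.move p hcard hp hv₂ hb1 hb2 (y := e k) (y' := y' • e k + z • e m + z' • f) hT₂.inY_e_i
      ⟨_, _, _, rfl⟩ ?_ (by rw [ee]; exact one_ne_zero) (hzero k m)).1
      (by rw [add_zero]; exact hH.inV_e k)
    simp [add_dotProduct, dotProduct_add, smul_dotProduct, dotProduct_smul, dot_e, e_dot, hT₂.fi,
      hT₂.fk, e_apply, hkm, hkm.symm]
    linear_combination -hyz - hN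
  have hperm : ∀ (a b c : Fin n), a ≠ b → a ≠ c → b ≠ c → ∀ x y z : F, x * x + y * y + z * z = 1 →
      x * x + y * y ≠ 0 → InV H (x • e a + y • e b + z • e c) := by
    intro a b c hab hac hbc x y z hN hne
    obtain ⟨σ, hσ, h1, h2, h3⟩ := hH.permutes_three hn hab hac hbc hik him hkm
    convert hH.inV_perm hσ (hbase x y z hN hne) using 1
    funext t
    simp only [Pi.add_apply, Pi.smul_apply, e_apply, ← h1, ← h2, ← h3, σ.injective.eq_iff]
  by_cases hxy : x * x + y * y = 0
  · by_cases hxz : x * x + z * z = 0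
    · have hyz : y * y + z * z ≠ 0 := fun hyz => h2 (by linear_combination (-2) * hN + hxy + hxz + hyz)
      rw [show x • e a + y • e b + z • e c = y • e b + z • e c + x • e a by abel]
      exact hperm b c a hbc hab.symm hac.symm y z x (by linear_combination hN) hyz
    · rw [show x • e a + y • e b + z • e c = x • e a + z • e c + y • e b by abel]
      exact hperm a c b hac hab hbc.symm x z y (by linear_combination hN) hxz
  · exact hperm a b c hab hac hbc x y z hN hxy

/-- Five is at most the prime: every unit vector is related to the frame. -/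
theorem Over.all_units_of_five_le (hH : Over H) (hn : 7 ≤ n) (hcard : Nat.card F = p) (hp : 5 ≤ p)
    {v : Fin n → F} (hv : InV H v) (hvs : (supp v).card + 3 ≤ n) (hnr : ¬ Root v) :
    ∀ w : Fin n → F, w ⬝ᵥ w = 1 → InV H w := by
  have h2 : (2 : F) ≠ 0 := hH.two
  have h3 : (3 : F) ≠ 0 := by exact_mod_cast natCast_ne_zero_of_lt (F := F) p (t := 3) (by omega) (by omega)
  obtain ⟨c₀, hc0, hc1, hc2⟩ : ∃ c : F, c ≠ 0 ∧ c * c ≠ 1 ∧ 2 * (c * c) ≠ 1 := by
    by_cases h : (8 : F) = 1
    · refine ⟨3, h3, fun h' => ?_, fun h' => h3 ?_⟩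
      · exact one_ne_zero (show (1 : F) = 0 by linear_combination h' - h)
      · linear_combination h' - 2 * h
    · exact ⟨2, h2, fun h' => h3 (by linear_combination h'), fun h' => h (by linear_combination h')⟩
  intro w
  induction hc : (supp w).card using Nat.strong_induction_on generalizing w with
  | _ s ih =>
    intro hw
    by_cases hs : s ≤ 3
    · obtain ⟨T, hsub, hT⟩ := Finset.exists_superset_card_eq (s := supp w) (n := 3) (by omega)
        (by rw [Fintype.card_fin]; omega)
      obtain ⟨a, b, c, hab, hac, hbc, rfl⟩ := Finset.card_eq_three.1 hT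
      have hwe : w = w a • e a + w b • e b + w c • e c := by
        funext t
        by_cases ht : t ∈ ({a, b, c} : Finset (Fin n))
        · simp only [Finset.mem_insert, Finset.mem_singleton] at ht
          rcases ht with rfl | rfl | rfl <;>
            simp [e_apply, hab, hac, hbc, hab.symm, hac.symm, hbc.symm]
        · have h0 := not_mem_supp.1 fun h => ht (hsub h)
          simp only [Finset.mem_insert, Finset.mem_singleton, not_or] at ht
          simp [e_apply, ht.1, ht.2.1, ht.2.2, h0]
      rw [hwe]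
      refine hH.units_three p hn hcard hp hv hvs hnr hab hac hbc ?_
      rw [← dot_three hab hac hbc, ← hwe, hw]
    · obtain ⟨T, hTsub, hT⟩ := Finset.exists_subset_card_eq (s := supp w) (n := 4) (by omega)
      obtain ⟨a, b, c, d, hab, hac, had, hbc, hbd, hcd, rfl⟩ := Finset.card_eq_four.1 hT
      obtain ⟨a', b', c', ha', hb', hc', hab', hac', hbc', hne⟩ : ∃ a' b' c', a' ∈ supp w ∧
          b' ∈ supp w ∧ c' ∈ supp w ∧ a' ≠ b' ∧ a' ≠ c' ∧ b' ≠ c' ∧
          w a' * w a' + w b' * w b' + w c' * w c' ≠ 0 := by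
        have hm : a ∈ supp w ∧ b ∈ supp w ∧ c ∈ supp w ∧ d ∈ supp w :=
          ⟨hTsub (by simp), hTsub (by simp), hTsub (by simp), hTsub (by simp)⟩
        by_contra hall
        push Not at hall
        have e1 := hall a b c hm.1 hm.2.1 hm.2.2.1 hab hac hbc
        have e2 := hall a b d hm.1 hm.2.1 hm.2.2.2 hab had hbd
        have e3 := hall a c d hm.1 hm.2.2.1 hm.2.2.2 hac had hcd
        have e4 := hall b c d hm.2.1 hm.2.2.1 hm.2.2.2 hbc hbd hcd
        have h0 : (3 : F) * (w a * w a) = 0 := by linear_combination e1 + e2 + e3 - 2 * e4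
        exact mem_supp.1 hm.1 (mul_self_eq_zero.1 ((mul_eq_zero.1 h0).resolve_left h3))
      obtain ⟨m', o', hm', ho', hmo'⟩ := exists_avoid {a', b', c'} (by
        have := Finset.card_le_three (a := a') (b := b') (c := c'); omega)
      simp only [Finset.mem_insert, Finset.mem_singleton, not_or] at hm' ho'
      obtain ⟨r, t, hrt⟩ := exists_binary (β := (1 : F)) (N := 1 - c₀ * c₀) one_ne_zero h2
      set f := c₀ • e (F := F) c' with hf
      have hT : Tri H a' b' m' o' f := ⟨hH, hab', hmo', Ne.symm hm'.1, Ne.symm ho'.1, Ne.symm hm'.2.1,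
        Ne.symm ho'.2.1, by simp [hf, e_apply, hac'], by simp [hf, e_apply, hbc'],
        by simp [hf, e_apply, hm'.2.2], by simp [hf, e_apply, ho'.2.2],
        by simp [hf, smul_dotProduct, dotProduct_smul, ee, hc0]⟩
      have hrtV : InV H (r • e a' + t • e b' + f) :=
        hH.units_three p hn hcard hp hv hvs hnr hab' hac' hbc' (by linear_combination hrt)
      have hf1 : f ⬝ᵥ f ≠ 1 := by simpa [hf, smul_dotProduct, dotProduct_smul, ee] using hc1
      have hf2 : 2 * (f ⬝ᵥ f) ≠ 1 := by simpa [hf, smul_dotProduct, dotProduct_smul, ee] using hc2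
      obtain ⟨y, z, hyz⟩ := exists_binary (β := (1 : F))
        (N := w a' * w a' + w b' * w b' + w c' * w c') one_ne_zero h2
      set x := w - (w a' • e a' + w b' • e b' + w c' • e c') with hx
      have hxv : ∀ s, x s = if s = a' ∨ s = b' ∨ s = c' then 0 else w s := fun s => by
        rw [hx]
        by_cases hs' : s = a' ∨ s = b' ∨ s = c'
        · rw [if_pos hs']
          rcases hs' with rfl | rfl | rfl <;>
            simp [e_apply, hab', hac', hbc', hab'.symm, hac'.symm, hbc'.symm]
        · rw [if_neg hs']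
          simp only [not_or] at hs'
          simp [e_apply, hs'.1, hs'.2.1, hs'.2.2]
      have hxp : PerpY a' b' f x := ⟨by simp [hxv], by simp [hxv], by
        simp [hf, dotProduct_smul, dot_e, hxv]⟩
      have hsplit : w = w a' • e a' + w b' • e b' + w c' • e c' + x := by rw [hx]; abel
      rw [hsplit]
      refine (hT.move p hcard hp hrtV hf1 hf2 (y' := y • e a' + z • e b' + (0 : F) • f)
        ⟨w a', w b', w c' / c₀, by rw [hf, smul_smul, div_mul_cancel₀ _ hc0]⟩ ⟨_, _, _, rfl⟩ ?_ ?_
        hxp).2 ?_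
      · rw [zero_smul, add_zero, dot_three hab' hac' hbc']
        simp [add_dotProduct, dotProduct_add, smul_dotProduct, dotProduct_smul, ee, ee_ne hab',
          ee_ne hab'.symm]
        linear_combination -hyz
      · rw [dot_three hab' hac' hbc']; exact hne
      · refine ih _ ?_ _ rfl ?_
        · rw [← hc]
          refine Finset.card_lt_card (Finset.ssubset_iff_of_subset (fun s hs' => ?_) |>.2
            ⟨c', hc', ?_⟩)
          · rw [mem_supp] at hs' ⊢
            rcases eq_or_ne s a' with rfl | h1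
            · exact mem_supp.1 ha'
            rcases eq_or_ne s b' with rfl | h2'
            · exact mem_supp.1 hb'
            intro h0
            refine hs' ?_
            simp [e_apply, hxv, h1, h2', h0]
          · simp [mem_supp, e_apply, hxv, hac'.symm, hbc'.symm]
        · have e1 : (y • e a' + z • e b' + (0 : F) • f) ⬝ᵥ x = 0 := by
            rw [dotProduct_comm]
            exact hT.perp_dot hxp ⟨_, _, _, rfl⟩
          have e2 : (w a' • e a' + w b' • e b' + w c' • e c') ⬝ᵥ x = 0 := by
            simp [add_dotProduct, smul_dotProduct, e_dot, hxv]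
          rw [hsplit] at hw
          simp only [add_dotProduct, dotProduct_add] at hw e1 e2 ⊢
          simp [dotProduct_comm x, smul_dotProduct, dotProduct_smul, ee, ee_ne hab', ee_ne hac',
            ee_ne hbc', ee_ne hab'.symm, ee_ne hac'.symm, ee_ne hbc'.symm, e_dot, dot_e, hxv,
            e_apply, hab', hab'.symm, hac', hac'.symm, hbc', hbc'.symm] at hw ⊢
          linear_combination hw + hyz

end CfsgLib.Geo.OFrame
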