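import Cfsg.Agent.Geo.OrthFrame.Key
import Cfsg.Agent.Geo.OrthNonMaximal
import Cfsg.Agent.Quad.Concrete

/-!
Stabilisers of orthogonal decompositions into lines over prime fields are maximal in `Ω`, in the terms
of the statements.
-/

set_option autoImplicit false
set_option linter.unusedSectionVars false

namespace CfsgLib.Geo.OFrame

open QuadraticMap CfsgLib.Forms CfsgLib.Quad Matrix

section
variable {F : Type*} [Field F] [Finite F] {ι : Type} [Fintype ι] [DecidableEq ι]

/-- Adapted coordinates. -/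
theorem exists_frame_coords {Q : QuadraticForm F (ι → F)} {t : ℕ} {D : Fin t → Submodule F (ι → F)}
    (hD : Cfsg.Geo.IsOrthogonalMDecomposition ⇑Q 1 D) :
    ∃ (c : F) (Θ : (Fin t → F) ≃ₗ[F] (ι → F)), c ≠ 0 ∧ (∀ x, Q (Θ x) = c * Q0 F t x) ∧
      ∀ i, D i = Submodule.span F {Θ (e i)} := by
  classical
  have hdec := hD.decomp.decomp
  have i₀ : Fin t := ⟨0, by have := hdec.two_le; omega⟩
  obtain ⟨z, hz⟩ := finrank_eq_one_iff'.1 (hdec.finrank_eq i₀)
  set c := Q (z : ι → F) with hc
  have hc0 : c ≠ 0 := fun h0 => by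
    refine hz.1 (Subtype.ext ?_)
    refine CfsgLib.Geo.OS.ND.eq_zero (CfsgLib.Geo.OS.nd_of_isNondegenerateOn (hD.decomp.nondegenerate i₀))
      z.2 fun w hw => ?_
    obtain ⟨a, ha⟩ := hz.2 ⟨w, hw⟩
    rw [show w = a • (z : ι → F) from (congrArg Subtype.val ha).symm, polar_smul_left, polar_self,
      ← hc, h0]
    simp
  choose φ hφ using fun i => hD.isometric i₀ i
  set d : Fin t → (ι → F) := fun i => (φ i z : ι → F) with hd
  have hdQ : ∀ i, Q (d i) = c := fun i => hφ i z
  have hspan : ∀ i, D i = Submodule.span F {d i} := fun i => by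
    refine le_antisymm (fun w hw => ?_) ((Submodule.span_singleton_le_iff_mem _ _).2 (φ i z).2)
    obtain ⟨a, ha⟩ := hz.2 ((φ i).symm ⟨w, hw⟩)
    refine Submodule.mem_span_singleton.2 ⟨a, ?_⟩
    have := congrArg (φ i) ha
    rw [map_smul, LinearEquiv.apply_symm_apply] at this
    exact congrArg Subtype.val this
  let L : (Fin t → F) →ₗ[F] (ι → F) := Fintype.linearCombination F d
  have hL : ∀ x, L x = ∑ i, x i • d i := fun x => by simp [L, Fintype.linearCombination_apply]
  have hQL : ∀ x, Q (L x) = c * Q0 F t x := by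
    intro x
    rw [hL, Q0_apply, dotProduct, Finset.mul_sum]
    suffices h : ∀ S : Finset (Fin t), Q (∑ i ∈ S, x i • d i) = ∑ i ∈ S, c * (x i * x i) from h _
    intro S
    induction S using Finset.induction_on with
    | empty => simp
    | insert a S ha ih =>
      have hp : polar Q (x a • d a) (∑ i ∈ S, x i • d i) = 0 := by
        rw [← polarBilin_apply_apply, map_sum]
        refine Finset.sum_eq_zero fun i hi => ?_
        exact hD.decomp.orthogonal a i (fun h => ha (h ▸ hi)) _ (Submodule.smul_mem _ _ (φ a z).2) _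
          (Submodule.smul_mem _ _ (φ i z).2)
      rw [Finset.sum_insert ha, Finset.sum_insert ha, quad_add, hp, ih, quad_smul, hdQ]
      ring
  have hinj : Function.Injective L := by
    have hne : ∀ i, d i ≠ 0 := fun i h0 => hc0 (by rw [← hdQ i, h0, map_zero])
    have hli : LinearIndependent F d := hdec.indep.linearIndependent D (fun i => (φ i z).2) hne
    intro x y hxy
    refine sub_eq_zero.1 (funext fun i => Fintype.linearIndependent_iff.1 hli (x - y) ?_ i)
    rw [← hL, map_sub, hxy, sub_self]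
  have hsurj : Function.Surjective L := by
    rw [← LinearMap.range_eq_top, eq_top_iff, ← hdec.iSup_eq_top, iSup_le_iff]
    intro i
    rw [hspan, Submodule.span_singleton_le_iff_mem]
    exact ⟨Pi.single i 1, by simp [L]⟩
  refine ⟨c, LinearEquiv.ofBijective L ⟨hinj, hsurj⟩, hc0, hQL, fun i => ?_⟩
  rw [hspan]
  have : L (e i) = d i := by simp [L, e, Fintype.linearCombination_apply_single]
  exact congrArg (fun v => Submodule.span F ({v} : Set (ι → F))) this.symm

end

section
variable {F : Type*} [Field F] [Finite F] [DecidableEq F] {n : ℕ}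

/-- The monomial isometries. -/
def monoSub (F : Type*) [Field F] [Finite F] [DecidableEq F] (n : ℕ) : Subgroup (O F n) where
  carrier := {g | Mono g}
  one_mem' := mono_one
  mul_mem' := Mono.mul
  inv_mem' := Mono.inv

theorem monoSub_maximal (p : ℕ) [Fact p.Prime] [CharP F p] (hcard : Nat.card F = p) (h2 : (2 : F) ≠ 0)
    (hn : 9 ≤ n ∨ n = 7) :
    Cfsg.Geo.IsMaximalIn (commutator (O F n)) (monoSub F n ⊓ commutator (O F n)) := by
  refine ⟨lt_of_le_of_ne inf_le_right fun h => ?_, fun M hM hMK => ?_⟩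
  · obtain ⟨g, hg, hgm⟩ := exists_not_mono (F := F) (n := n) p h2 (by omega)
    exact hgm ((h.ge hg).1)
  · by_cases h : M ≤ monoSub F n
    · exact Or.inl (le_antisymm (le_inf h hMK) hM)
    · obtain ⟨g, hg, hgm⟩ := SetLike.not_le_iff_exists.1 h
      exact Or.inr (frame_key p hcard ⟨h2, hMK, fun g hg hgm => hM ⟨hgm, hg⟩⟩ hn hg hgm)

end

section
variable {F : Type*} [Field F] {ι : Type} [Fintype ι] [DecidableEq ι] {t : ℕ}

/-- The isomorphism of orthogonal groups induced by a similitude. -/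
def simEquiv (Q : QuadraticForm F (ι → F)) {c : F} (hc : c ≠ 0) (Θ : (Fin t → F) ≃ₗ[F] (ι → F))
    (hQ : ∀ x, Q (Θ x) = c * Q0 F t x) : O F t ≃* oGroup Q where
  toFun g := ⟨(Θ.symm.trans g.1).trans Θ, fun v => by
    obtain ⟨x, rfl⟩ := Θ.surjective v
    rw [LinearEquiv.trans_apply, LinearEquiv.trans_apply, Θ.symm_apply_apply, hQ, hQ, g.2]⟩
  invFun g := ⟨(Θ.trans g.1).trans Θ.symm, fun x => mul_left_cancel₀ hc (by
    rw [LinearEquiv.trans_apply, LinearEquiv.trans_apply, ← hQ, Θ.apply_symm_apply, g.2, hQ])⟩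
  left_inv g := Subtype.ext (LinearEquiv.ext fun v => by simp)
  right_inv g := Subtype.ext (LinearEquiv.ext fun v => by simp)
  map_mul' g h := Subtype.ext (LinearEquiv.ext fun v => by simp [LinearEquiv.mul_apply])

theorem simEquiv_apply (Q : QuadraticForm F (ι → F)) {c : F} (hc : c ≠ 0)
    (Θ : (Fin t → F) ≃ₗ[F] (ι → F)) (hQ : ∀ x, Q (Θ x) = c * Q0 F t x) (g : O F t) (x : Fin t → F) :
    (simEquiv Q hc Θ hQ g).1 (Θ x) = Θ (g.1 x) := by
  simp [simEquiv]

end

set_option maxHeartbeats 1000000 in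
/-- The main theorem, for at least nine coordinates or exactly seven. -/
theorem frame_maximal' {F : Type*} [Field F] [Fintype F] (hprime : (Fintype.card F).Prime)
    (hodd : Odd (Fintype.card F)) {ι : Type} [Fintype ι] [DecidableEq ι] (hι : 9 ≤ Fintype.card ι ∨ Fintype.card ι = 7)
    (Q : QuadraticForm F (ι → F)) {t : ℕ} {D : Fin t → Submodule F (ι → F)}
    (hD : Cfsg.Geo.IsOrthogonalMDecomposition ⇑Q 1 D) :
    Cfsg.Geo.IsMaximalIn (Cfsg.Geo.omegaGL ⇑Q)
      (Cfsg.Geo.decompositionStabilizer D ⊓ Cfsg.Geo.omegaGL ⇑Q) := by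
  classical
  set p := Fintype.card F with hp
  have : Fact p.Prime := ⟨hprime⟩
  have : CharP F p := charP_of_card_eq_prime rfl
  have hcard : Nat.card F = p := Nat.card_eq_fintype_card
  have h2 : (2 : F) ≠ 0 := by
    intro h
    have h' : ((2 : ℕ) : F) = 0 := by exact_mod_cast h
    rw [CharP.cast_eq_zero_iff F p] at h'
    have := (Nat.prime_two.eq_one_or_self_of_dvd _ h').resolve_left hprime.one_lt.ne'
    rw [this] at hodd
    exact absurd hodd (by decide)
  obtain ⟨c, Θ, hc, hQ, hDi⟩ := exists_frame_coords hD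
  have hn : 9 ≤ t ∨ t = 7 := by
    have := Θ.finrank_eq
    rw [Module.finrank_fin_fun, Module.finrank_pi] at this
    omega
  -- the isomorphism of the two orthogonal groups
  obtain ⟨Φ, hΦapply⟩ : ∃ Φ : O F t ≃* oGroup Q, ∀ g x, (Φ g).1 (Θ x) = Θ (g.1 x) :=
    ⟨simEquiv Q hc Θ hQ, simEquiv_apply Q hc Θ hQ⟩
  have hK' : (commutator (O F t)).map ((CfsgLib.Geo.OS.toGL Q).comp Φ.toMonoidHom) =
      Cfsg.Geo.omegaGL ⇑Q := by
    rw [← Subgroup.map_map, commutator_def, Subgroup.map_commutator,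
      Subgroup.map_top_of_surjective _ Φ.surjective, ← commutator_def, CfsgLib.Geo.OS.map_omega]
  obtain ⟨ψ, hψinj, hψapply, hK⟩ : ∃ ψ : O F t →* GL ι F, Function.Injective ψ ∧
      (∀ g x, Matrix.mulVec (ψ g : Matrix ι ι F) (Θ x) = Θ (g.1 x)) ∧
      (commutator (O F t)).map ψ = Cfsg.Geo.omegaGL ⇑Q := by
    refine ⟨_, fun x y h => ?_, fun g x => ?_, hK'⟩
    · rw [MonoidHom.comp_apply, MonoidHom.comp_apply] at h
      exact Φ.injective (CfsgLib.Geo.OS.toGL_injective h)
    · rw [MonoidHom.comp_apply, CfsgLib.Geo.OS.toGL_mulVec]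
      exact hΦapply g x
  have hiff : ∀ g : O F t, Mono g ↔ ψ g ∈ Cfsg.Geo.decompositionStabilizer D := by
    intro g
    have himg : ∀ i, (D i).map (Matrix.toLin' (ψ g : Matrix ι ι F)) =
        Submodule.span F {Θ (g.1 (e i))} := fun i => by
      rw [hDi, Submodule.map_span, Set.image_singleton, Matrix.toLin'_apply, hψapply]
    constructor
    · intro hg
      choose π s hs hπ using fun a => hg.image a
      have hbij : Function.Bijective π := Finite.injective_iff_bijective.1 fun a a' h =>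
        Mono.inj (s' := s a') (hs a) (hπ a) ((hπ a').trans (by rw [h]))
      refine ⟨Equiv.ofBijective π hbij, fun i => ?_⟩
      rw [himg, hπ, map_smul, Submodule.span_singleton_smul_eq (IsUnit.mk0 _ fun h0 => by
        simpa [h0] using hs i), hDi, Equiv.ofBijective_apply]
    · rintro ⟨σ, hσ⟩ i
      have h := hσ i
      rw [himg, hDi] at h
      have hmem : Θ (g.1 (e i)) ∈ Submodule.span F {Θ (e (σ i))} :=
        h ▸ Submodule.mem_span_singleton_self _
      obtain ⟨r, hr⟩ := Submodule.mem_span_singleton.1 hmem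
      rw [← map_smul] at hr
      rw [← Θ.injective hr]
      exact (Finset.card_le_card fun j hj => by
        rw [mem_supp, Pi.smul_apply, e_apply, smul_eq_mul] at hj
        rw [Finset.mem_singleton]
        by_contra hne
        exact hj (by rw [if_neg hne, mul_zero])).trans (Finset.card_singleton (σ i)).le
  have hH : (monoSub F t ⊓ commutator (O F t)).map ψ =
      Cfsg.Geo.decompositionStabilizer D ⊓ Cfsg.Geo.omegaGL ⇑Q := by
    rw [← hK]
    ext y
    constructor
    · rintro ⟨g, ⟨hg1, hg2⟩, rfl⟩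
      exact ⟨(hiff g).1 hg1, g, hg2, rfl⟩
    · rintro ⟨hy, g, hg, rfl⟩
      exact ⟨g, ⟨(hiff g).2 hy, hg⟩, rfl⟩
  have h := monoSub_maximal (F := F) (n := t) p hcard h2 hn
  rw [← hH, ← hK]
  refine ⟨(Subgroup.map_lt_map_iff_of_injective hψinj).2 h.1, fun M hM hMK => ?_⟩
  have hM' : M = (M.comap ψ).map ψ := by
    rw [Subgroup.map_comap_eq, inf_eq_right.2 (hMK.trans (Subgroup.map_le_range ψ _))]
  rw [hM'] at hM hMK ⊢
  rcases h.2 _ ((Subgroup.map_le_map_iff_of_injective hψinj).1 hM)
    ((Subgroup.map_le_map_iff_of_injective hψinj).1 hMK) with h' | h'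
  · exact Or.inl (by rw [h'])
  · exact Or.inr (by rw [h'])

/-- The main theorem. -/
theorem frame_maximal {F : Type*} [Field F] [Fintype F] (hprime : (Fintype.card F).Prime)
    (hodd : Odd (Fintype.card F)) {ι : Type} [Fintype ι] [DecidableEq ι] (hι : 9 ≤ Fintype.card ι)
    (Q : QuadraticForm F (ι → F)) {t : ℕ} {D : Fin t → Submodule F (ι → F)}
    (hD : Cfsg.Geo.IsOrthogonalMDecomposition ⇑Q 1 D) :
    Cfsg.Geo.IsMaximalIn (Cfsg.Geo.omegaGL ⇑Q)
      (Cfsg.Geo.decompositionStabilizer D ⊓ Cfsg.Geo.omegaGL ⇑Q) :=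
  frame_maximal' hprime hodd (Or.inl hι) Q hD

end CfsgLib.Geo.OFrame
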