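import Cfsg.Agent.Quad.OmegaMem
import Mathlib.LinearAlgebra.Matrix.DotProduct

/-!
The standard orthogonal group on `Fin n → F` with respect to `∑ xᵢ²`: monomial elements, reflections and
the relation "the product of two reflections lies in a given subgroup".
-/

set_option autoImplicit false
set_option linter.unusedSectionVars false

namespace CfsgLib.Geo.OFrame

open QuadraticMap CfsgLib.Forms CfsgLib.Quad Matrix

variable {F : Type*} [Field F] {n : ℕ}

/-- The form `∑ xᵢ²`. -/
noncomputable def Q0 (F : Type*) [Field F] (n : ℕ) : QuadraticForm F (Fin n → F) :=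
  weightedSumSquares F fun _ : Fin n => (1 : F)

/-- Its orthogonal group. -/
abbrev O (F : Type*) [Field F] (n : ℕ) := ↥(oGroup (Q0 F n))

/-- The frame vectors. -/
def e (a : Fin n) : Fin n → F := Pi.single a 1

/-- The reflection in a vector. -/
noncomputable def R (d : Fin n → F) : O F n := refl (Q0 F n) d

theorem Q0_apply (v : Fin n → F) : Q0 F n v = v ⬝ᵥ v := by
  simp [Q0, weightedSumSquares_apply, dotProduct]

theorem polar_Q0 (u v : Fin n → F) : polar (Q0 F n) u v = 2 * (u ⬝ᵥ v) := by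
  simp only [QuadraticMap.polar, Q0_apply, add_dotProduct, dotProduct_add, dotProduct_comm v u]
  ring

theorem nondeg (h2 : (2 : F) ≠ 0) : (polarBilin (Q0 F n)).Nondegenerate := by
  have key : ∀ x : Fin n → F, (∀ y, polar (Q0 F n) x y = 0) → x = 0 := fun x hx => funext fun i => by
    have := hx (Pi.single i 1)
    rw [polar_Q0, dotProduct_single, mul_one, mul_eq_zero] at this
    exact this.resolve_left h2
  exact ⟨fun x hx => key x hx, fun y hy => key y fun x => by rw [polar_comm]; exact hy x⟩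

theorem e_apply (a i : Fin n) : e (F := F) a i = if i = a then 1 else 0 := by
  simp [e, Pi.single_apply]

theorem dot_e (v : Fin n → F) (a : Fin n) : v ⬝ᵥ e a = v a := by
  simp [e]

theorem e_dot (v : Fin n → F) (a : Fin n) : e a ⬝ᵥ v = v a := by
  simp [e]

theorem ee (a : Fin n) : e (F := F) a ⬝ᵥ e a = 1 := by
  simp [e]

theorem ee_ne {a b : Fin n} (h : a ≠ b) : e (F := F) a ⬝ᵥ e b = 0 := by
  simp [e, h.symm]

theorem sum_e (v : Fin n → F) : ∑ a, v a • e a = v := by
  funext i
  simp [e_apply, Finset.sum_apply]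

theorem O_ext {f g : O F n} (h : ∀ a, f.1 (e a) = g.1 (e a)) : f = g := by
  refine Subtype.ext (LinearEquiv.ext fun v => ?_)
  rw [← sum_e v, map_sum, map_sum]
  simp [h]

theorem dot_map (g : O F n) (h2 : (2 : F) ≠ 0) (u v : Fin n → F) : g.1 u ⬝ᵥ g.1 v = u ⬝ᵥ v := by
  have := polar_oGroup g u v
  rw [polar_Q0, polar_Q0] at this
  exact mul_left_cancel₀ h2 this

theorem self_map (g : O F n) (v : Fin n → F) : g.1 v ⬝ᵥ g.1 v = v ⬝ᵥ v := by
  rw [← Q0_apply, g.2, Q0_apply]

theorem R_apply (d x : Fin n → F) : (R d).1 x = x - (2 * (x ⬝ᵥ d) / (d ⬝ᵥ d)) • d := by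
  rw [R, refl_apply, polar_Q0, Q0_apply, sub_eq_add_neg, ← neg_smul]
  congr 2
  ring

theorem R_fix {d x : Fin n → F} (h : x ⬝ᵥ d = 0) : (R d).1 x = x := by
  simp [R_apply, h]

theorem R_neg {d : Fin n → F} (h : d ⬝ᵥ d ≠ 0) : (R d).1 d = -d := by
  rw [R, refl_self (by rwa [Q0_apply])]

theorem R_sq (d : Fin n → F) : R d * R d = (1 : O F n) := refl_mul_self d

theorem R_inv (d : Fin n → F) : (R d)⁻¹ = (R d : O F n) := refl_inv d

theorem R_smul {t : F} (ht : t ≠ 0) (d : Fin n → F) : R (t • d) = R d := refl_smul ht d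

theorem R_neg_arg (d : Fin n → F) : R (-d) = R d := by
  rw [← neg_one_smul F d, R_smul (neg_ne_zero.2 one_ne_zero)]

theorem R_conj (g : O F n) (d : Fin n → F) : g * R d * g⁻¹ = R (g.1 d) := refl_conj g d

theorem R_conj' (x d : Fin n → F) : R x * R d * R x = R ((R x).1 d) := by
  have := R_conj (R x) d
  rwa [R_inv] at this

theorem mul_apply (g h : O F n) (v : Fin n → F) : (g * h).1 v = g.1 (h.1 v) := rfl

theorem one_apply (v : Fin n → F) : (1 : O F n).1 v = v := rfl

theorem R_comm {x y : Fin n → F} (h : y ⬝ᵥ x = 0) : R x * R y = R y * R x := by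
  have := R_conj' x y
  rw [R_fix h] at this
  calc R x * R y = R x * R y * (R x * R x) := by rw [R_sq, mul_one]
    _ = R y * R x := by rw [← mul_assoc, this]

/-! ### Membership in the commutator subgroup -/

variable [Finite F]

theorem hgen (h2 : (2 : F) ≠ 0) :
    (∃ t : F, t ≠ 0 ∧ t ≠ 1) ∨ Module.finrank F (Fin n → F) ≠ 4 :=
  Or.inl ⟨-1, neg_ne_zero.2 one_ne_zero, fun h => h2 (by linear_combination -h)⟩

theorem pair_mem_iff (h2 : (2 : F) ≠ 0) {x y : Fin n → F} (hx : x ⬝ᵥ x ≠ 0) (hy : y ⬝ᵥ y ≠ 0) :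
    R x * R y ∈ commutator (O F n) ↔ IsSquare ((x ⬝ᵥ x) * (y ⬝ᵥ y)) := by
  have h := reflProd_mem_commutator_iff (nondeg (n := n) h2) (hgen h2) (vs := [x, y])
    (by simp [Q0_apply, hx, hy])
  simpa [reflProd_cons, reflProd_nil, R, Q0_apply] using h

theorem single_not_mem (h2 : (2 : F) ≠ 0) {x : Fin n → F} (hx : x ⬝ᵥ x ≠ 0) :
    R x ∉ commutator (O F n) := by
  have h := reflProd_mem_commutator_iff (nondeg (n := n) h2) (hgen h2) (vs := [x])
    (by simp [Q0_apply, hx])
  simpa [reflProd_cons, reflProd_nil, R, Q0_apply] using h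

/-! ### Supports and monomial elements -/

variable [DecidableEq F]

/-- The support. -/
def supp (v : Fin n → F) : Finset (Fin n) := Finset.univ.filter fun i => v i ≠ 0

theorem mem_supp {v : Fin n → F} {i : Fin n} : i ∈ supp v ↔ v i ≠ 0 := by simp [supp]

theorem not_mem_supp {v : Fin n → F} {i : Fin n} : i ∉ supp v ↔ v i = 0 := by simp [supp]

theorem supp_e (a : Fin n) : supp (e (F := F) a) = {a} := by
  ext i; simp [mem_supp, e_apply]

theorem supp_smul {t : F} (ht : t ≠ 0) (v : Fin n → F) : supp (t • v) = supp v := by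
  ext i; simp [mem_supp, ht]

theorem supp_neg (v : Fin n → F) : supp (-v) = supp v := by
  ext i; simp [mem_supp]

theorem supp_add (u v : Fin n → F) : supp (u + v) ⊆ supp u ∪ supp v := fun i hi => by
  simp only [mem_supp, Pi.add_apply, Finset.mem_union] at hi ⊢
  by_contra h
  push Not at h
  exact hi (by rw [h.1, h.2, add_zero])

theorem supp_sub (u v : Fin n → F) : supp (u - v) ⊆ supp u ∪ supp v := by
  rw [sub_eq_add_neg, ← supp_neg v]
  exact supp_add u (-v)

theorem supp_nonempty {v : Fin n → F} (hv : v ≠ 0) : (supp v).Nonempty := by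
  by_contra h
  exact hv (funext fun i => not_mem_supp.1 fun hi => h ⟨i, hi⟩)

theorem eq_smul_e {v : Fin n → F} {a : Fin n} (h : ∀ i, i ≠ a → v i = 0) : v = v a • e a := by
  funext i
  rcases eq_or_ne i a with rfl | hi
  · simp [e_apply]
  · simp [e_apply, hi, h i hi]

/-- Every frame line goes to a frame line. -/
def Mono (g : O F n) : Prop := ∀ a, (supp (g.1 (e a))).card ≤ 1

theorem Mono.image {g : O F n} (hg : Mono g) (a : Fin n) :
    ∃ (b : Fin n) (s : F), s * s = 1 ∧ g.1 (e a) = s • e b := by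
  have h1 : g.1 (e a) ⬝ᵥ g.1 (e a) = 1 := by rw [self_map, ee]
  obtain ⟨b, hb⟩ := supp_nonempty (v := g.1 (e a)) fun h => by simp [h] at h1
  have hv : g.1 (e a) = g.1 (e a) b • e b := eq_smul_e fun i hi => not_mem_supp.1 fun h =>
    hi (Finset.card_le_one.1 (hg a) i h b hb)
  refine ⟨b, g.1 (e a) b, ?_, hv⟩
  rw [hv, smul_dotProduct, dotProduct_smul, ee] at h1
  simpa using h1

theorem mono_one : Mono (1 : O F n) := fun a => by rw [one_apply, supp_e]; simp

theorem Mono.mul {g h : O F n} (hg : Mono g) (hh : Mono h) : Mono (g * h) := fun a => by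
  obtain ⟨b, s, hs, hb⟩ := hh.image a
  rw [mul_apply, hb, map_smul, supp_smul (fun h0 => by simp [h0] at hs)]
  exact hg b

theorem Mono.inj {g : O F n} {a a' b : Fin n} {s s' : F} (hs : s * s = 1) (ha : g.1 (e a) = s • e b)
    (ha' : g.1 (e a') = s' • e b) : a = a' := by
  by_contra hne
  have hs0 : s ≠ 0 := fun h0 => by simp [h0] at hs
  have h : g.1 (e a') = g.1 ((s' / s) • e a) := by
    rw [map_smul, ha, ha', smul_smul, div_mul_cancel₀ _ hs0]
  have := congrArg (fun v => v a') (g.1.injective h)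
  simp [e_apply, Ne.symm hne] at this

theorem Mono.inv {g : O F n} (hg : Mono g) : Mono g⁻¹ := by
  choose π s hs hπ using fun a => hg.image a
  have hbij : Function.Bijective π := Finite.injective_iff_bijective.1 fun a a' h =>
    Mono.inj (s' := s a') (hs a) (hπ a) ((hπ a').trans (by rw [h]))
  intro b
  obtain ⟨a, rfl⟩ := hbij.2 b
  have h : (g⁻¹).1 (e (π a)) = s a • e a := by
    apply g.1.injective
    rw [← mul_apply, mul_inv_cancel, one_apply, map_smul, hπ, smul_smul, hs, one_smul]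
  rw [h, supp_smul (fun h0 => by simpa [h0] using hs a), supp_e]
  simp

theorem mono_R_e (a : Fin n) : Mono (R (e (F := F) a)) := fun i => by
  rcases eq_or_ne i a with rfl | hi
  · rw [R_neg (by rw [ee]; exact one_ne_zero), supp_neg, supp_e]; simp
  · rw [R_fix (ee_ne hi), supp_e]; simp

theorem root_norm (h2 : (2 : F) ≠ 0) {a b : Fin n} (hab : a ≠ b) {σ : F} (hσ : σ * σ = 1) :
    (e a + σ • e b) ⬝ᵥ (e a + σ • e b) = (2 : F) ∧ (2 : F) ≠ 0 := by
  refine ⟨?_, h2⟩
  simp only [add_dotProduct, dotProduct_add, smul_dotProduct, dotProduct_smul, ee, ee_ne hab,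
    ee_ne hab.symm, smul_eq_mul]
  linear_combination hσ

theorem mono_R_root (h2 : (2 : F) ≠ 0) {a b : Fin n} (hab : a ≠ b) {σ : F} (hσ : σ * σ = 1) :
    Mono (R (e a + σ • e b) : O F n) := fun i => by
  set d := e (F := F) a + σ • e b with hd
  have hdd : d ⬝ᵥ d = 2 := (root_norm h2 hab hσ).1
  have hia : e i ⬝ᵥ d = e (F := F) i a + σ * e (F := F) i b := by
    rw [hd, dotProduct_add, dotProduct_smul, dot_e, dot_e, smul_eq_mul]
  have hs0 : σ ≠ 0 := fun h0 => by simp [h0] at hσ
  rw [R_apply, hdd, hia]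
  rcases eq_or_ne i a with rfl | hi
  · rw [e_apply, if_pos rfl, e_apply, if_neg (Ne.symm hab), mul_zero, add_zero, mul_one, div_self h2,
      one_smul, hd, sub_add_cancel_left, supp_neg, supp_smul hs0, supp_e]
    simp
  rcases eq_or_ne i b with rfl | hib
  · rw [e_apply, if_neg hab, e_apply, if_pos rfl, zero_add, mul_one, mul_div_cancel_left₀ _ h2, hd,
      smul_add, smul_smul, hσ, one_smul, sub_add_cancel_right, supp_neg, supp_smul hs0, supp_e]
    simp
  · rw [e_apply, if_neg (Ne.symm hi), e_apply, if_neg (Ne.symm hib), mul_zero, add_zero, mul_zero,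
      zero_div, zero_smul, sub_zero, supp_e]
    simp

/-- The moved frame vectors. -/
def mov (g : O F n) : Finset (Fin n) := Finset.univ.filter fun i => g.1 (e i) ≠ e i

theorem mem_mov {g : O F n} {i : Fin n} : i ∈ mov g ↔ g.1 (e i) ≠ e i := by simp [mov]

/-! ### The relation of a subgroup -/

/-- The product of the two reflections lies in the subgroup. -/
def Rel (H : Subgroup (O F n)) (x y : Fin n → F) : Prop := R x * R y ∈ H

theorem Rel.symm {H : Subgroup (O F n)} {x y : Fin n → F} (h : Rel H x y) : Rel H y x := by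
  have := inv_mem h
  rwa [_root_.mul_inv_rev, R_inv, R_inv] at this

theorem Rel.trans {H : Subgroup (O F n)} {x y z : Fin n → F} (h : Rel H x y) (h' : Rel H y z) :
    Rel H x z := by
  have := mul_mem h h'
  rwa [mul_assoc, ← mul_assoc (R y), R_sq, one_mul] at this

theorem Rel.refl (H : Subgroup (O F n)) (x : Fin n → F) : Rel H x x := by
  rw [Rel, R_sq]; exact one_mem _

theorem Rel.map {H : Subgroup (O F n)} {x y : Fin n → F} {g : O F n} (hg : g ∈ H) (h : Rel H x y) :
    Rel H (g.1 x) (g.1 y) := by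
  rw [Rel, ← R_conj, ← R_conj]
  have := mul_mem (mul_mem hg h) (inv_mem hg)
  convert this using 1
  group

/-- A subgroup between the monomial part of the commutator subgroup and the commutator subgroup. -/
structure Over (H : Subgroup (O F n)) : Prop where
  two : (2 : F) ≠ 0
  le : H ≤ commutator (O F n)
  mon : ∀ g ∈ commutator (O F n), Mono g → g ∈ H

/-- Unit vectors related to the frame. -/
def InV (H : Subgroup (O F n)) (v : Fin n → F) : Prop := v ⬝ᵥ v = 1 ∧ ∀ a, Rel H v (e a)

/-- A vector supported as a root of type `B`. -/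
def Root (v : Fin n → F) : Prop :=
  (supp v).card ≤ 1 ∨ ((supp v).card = 2 ∧ ∀ a ∈ supp v, ∀ b ∈ supp v, v a * v a = v b * v b)

theorem not_root_of_three {v : Fin n → F} (h : 3 ≤ (supp v).card) : ¬ Root v := by
  rintro (h' | ⟨h', -⟩) <;> omega

variable {H : Subgroup (O F n)} (hH : Over H)

include hH

theorem Over.pair {x y : Fin n → F} (hx : x ⬝ᵥ x ≠ 0) (hy : y ⬝ᵥ y ≠ 0)
    (hsq : IsSquare ((x ⬝ᵥ x) * (y ⬝ᵥ y))) (mx : Mono (R x)) (my : Mono (R y)) : Rel H x y :=
  hH.mon _ ((pair_mem_iff hH.two hx hy).2 hsq) (mx.mul my)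

theorem Over.rel_e (a b : Fin n) : Rel H (e a) (e b) :=
  hH.pair (by rw [ee]; exact one_ne_zero) (by rw [ee]; exact one_ne_zero) (by rw [ee, ee]; simp)
    (mono_R_e a) (mono_R_e b)

theorem Over.rel_root {a b c d : Fin n} {σ τ : F} (hab : a ≠ b) (hcd : c ≠ d) (hσ : σ * σ = 1)
    (hτ : τ * τ = 1) : Rel H (e a + σ • e b) (e c + τ • e d) :=
  hH.pair (by rw [(root_norm hH.two hab hσ).1]; exact hH.two)
    (by rw [(root_norm hH.two hcd hτ).1]; exact hH.two)
    (by rw [(root_norm hH.two hab hσ).1, (root_norm hH.two hcd hτ).1]; exact IsSquare.mul_self _)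
    (mono_R_root hH.two hab hσ) (mono_R_root hH.two hcd hτ)

theorem Over.inV_e (a : Fin n) : InV H (e a) := ⟨ee a, hH.rel_e a⟩

theorem Over.inV_of_rel {v : Fin n → F} {a : Fin n} (h1 : v ⬝ᵥ v = 1) (h : Rel H v (e a)) : InV H v :=
  ⟨h1, fun b => h.trans (hH.rel_e a b)⟩

theorem Over.inV_refl {u v : Fin n → F} (hu : InV H u) (hv : InV H v) : InV H ((R v).1 u) := by
  rcases n with _ | m
  · exact (Subsingleton.elim u ((R v).1 u)) ▸ hu
  refine hH.inV_of_rel (a := 0) (by rw [self_map]; exact hu.1) ?_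
  have := mul_mem (mul_mem (hv.2 0) (hu.2 0).symm) (hv.2 0)
  rw [Rel, ← R_conj']
  convert this using 1
  simp only [mul_assoc]
  rw [← mul_assoc (R (e 0)) (R (e 0)), R_sq, one_mul]

end CfsgLib.Geo.OFrame
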