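import Cfsg.Agent.Geo.OrthFrame.Basic
import Mathlib.LinearAlgebra.Dimension.StrongRankCondition

/-!
Products of two orthogonal reflections which are monomial, and a criterion for an element of the
orthogonal group to be monomial.
-/

set_option autoImplicit false
set_option linter.unusedSectionVars false

namespace CfsgLib.Geo.OFrame

open QuadraticMap CfsgLib.Forms CfsgLib.Quad Matrix

variable {F : Type*} [Field F] [Finite F] [DecidableEq F] {n : ℕ}

theorem orth_card_le {ι : Type*} (s : Finset ι) (f : ι → Fin n → F) (T : Finset (Fin n))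
    (hT : ∀ a ∈ s, supp (f a) ⊆ T) (hne : ∀ a ∈ s, f a ⬝ᵥ f a ≠ 0)
    (horth : ∀ a ∈ s, ∀ b ∈ s, a ≠ b → f a ⬝ᵥ f b = 0) : s.card ≤ T.card := by
  classical
  let g : s → (T → F) := fun a i => f a.1 i.1
  have hdot : ∀ a b : s, (∑ i : T, g a i * g b i) = f a.1 ⬝ᵥ f b.1 := fun a b => by
    rw [dotProduct, Finset.sum_coe_sort T fun i => f a.1 i * f b.1 i]
    exact Finset.sum_subset (Finset.subset_univ _) fun i _ hi => by
      rw [not_mem_supp.1 fun h => hi (hT a.1 a.2 h), zero_mul]
  have hind : LinearIndependent F g := Fintype.linearIndependent_iff.2 fun c hc a => by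
    have h : ∑ b : s, c b * (f b.1 ⬝ᵥ f a.1) = 0 := by
      calc ∑ b : s, c b * (f b.1 ⬝ᵥ f a.1) = ∑ i : T, (∑ b : s, c b • g b) i * g a i := by
            simp only [← hdot, Finset.mul_sum, Finset.sum_apply, Pi.smul_apply, smul_eq_mul,
              Finset.sum_mul, mul_assoc]
            rw [Finset.sum_comm]
        _ = 0 := by rw [hc]; simp
    rw [Finset.sum_eq_single a (fun b _ hb => by
      rw [horth b.1 b.2 a.1 a.2 (fun e => hb (Subtype.ext e)), mul_zero]) (by simp)] at h
    exact (mul_eq_zero.1 h).resolve_right (hne a.1 a.2)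
  simpa using hind.fintype_card_le_finrank

/-- The vector is a combination of the two given ones. -/
def InSpan (x y v : Fin n → F) : Prop := ∃ α β : F, v = α • x + β • y

theorem InSpan.left (x y : Fin n → F) : InSpan x y x := ⟨1, 0, by simp⟩

theorem InSpan.right (x y : Fin n → F) : InSpan x y y := ⟨0, 1, by simp⟩

theorem InSpan.of_two {x y u v w : Fin n → F} (hu : InSpan x y u) (hv : InSpan x y v)
    (hw : InSpan x y w) {i : Fin n} (hui : u i ≠ 0) (hvi : v i = 0) (hv0 : v ≠ 0) :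
    InSpan u v w := by
  obtain ⟨a, b, rfl⟩ := hu
  obtain ⟨c, d, rfl⟩ := hv
  obtain ⟨p, q, rfl⟩ := hw
  simp only [Pi.add_apply, Pi.smul_apply, smul_eq_mul] at hui hvi
  have hD : a * d - b * c ≠ 0 := fun h0 => by
    have h1 : c * (a * x i + b * y i) = 0 := by linear_combination a * hvi - y i * h0
    have h2 : d * (a * x i + b * y i) = 0 := by linear_combination b * hvi + x i * h0
    exact hv0 (by rw [(mul_eq_zero.1 h1).resolve_right hui, (mul_eq_zero.1 h2).resolve_right hui]; simp)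
  refine ⟨(p * d - q * c) / (a * d - b * c), (a * q - b * p) / (a * d - b * c), funext fun k => ?_⟩
  simp only [Pi.add_apply, Pi.smul_apply, smul_eq_mul]
  rw [div_mul_eq_mul_div, div_mul_eq_mul_div, ← add_div, eq_div_iff hD]
  ring

theorem InSpan.supp_subset {x y v : Fin n → F} (h : InSpan x y v) : supp v ⊆ supp x ∪ supp y := by
  obtain ⟨a, b, rfl⟩ := h
  intro i hi
  simp only [mem_supp, Pi.add_apply, Pi.smul_apply, smul_eq_mul, Finset.mem_union] at hi ⊢
  by_contra h
  push Not at h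
  exact hi (by rw [h.1, h.2]; ring)

/-- An orthogonal pair of anisotropic vectors. -/
structure Pair (x y : Fin n → F) : Prop where
  left : x ⬝ᵥ x ≠ 0
  right : y ⬝ᵥ y ≠ 0
  orth : x ⬝ᵥ y = 0

section pair

variable {x y : Fin n → F} (hp : Pair x y) (h2 : (2 : F) ≠ 0)
include hp

theorem Pair.apply (v : Fin n → F) : (R x * R y).1 v =
    v - (2 * (v ⬝ᵥ x) / (x ⬝ᵥ x)) • x - (2 * (v ⬝ᵥ y) / (y ⬝ᵥ y)) • y := by
  rw [mul_apply, R_apply y v, map_sub, map_smul, R_apply x v, R_fix (dotProduct_comm y x ▸ hp.orth)]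

theorem Pair.diff (v : Fin n → F) : InSpan x y (v - (R x * R y).1 v) := by
  refine ⟨2 * (v ⬝ᵥ x) / (x ⬝ᵥ x), 2 * (v ⬝ᵥ y) / (y ⬝ᵥ y), ?_⟩
  rw [hp.apply]
  abel

theorem Pair.neg {v : Fin n → F} (hv : InSpan x y v) : (R x * R y).1 v = -v := by
  obtain ⟨a, b, rfl⟩ := hv
  have hxy := hp.orth
  have hyx : y ⬝ᵥ x = 0 := dotProduct_comm y x ▸ hp.orth
  rw [map_add, map_smul, map_smul, mul_apply, mul_apply, R_fix hxy, R_neg hp.left, R_neg hp.right,
    map_neg, R_fix hyx]
  simp [neg_add_rev, add_comm]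

include h2

theorem Pair.of_neg {v : Fin n → F} (hv : (R x * R y).1 v = -v) : InSpan x y v := by
  obtain ⟨a, b, hab⟩ := hp.diff v
  rw [hv, sub_neg_eq_add, ← two_smul F v] at hab
  refine ⟨a / 2, b / 2, ?_⟩
  calc v = (2 : F)⁻¹ • ((2 : F) • v) := by rw [smul_smul, inv_mul_cancel₀ h2, one_smul]
    _ = _ := by rw [hab, smul_add, smul_smul, smul_smul, inv_mul_eq_div, inv_mul_eq_div]

theorem Pair.mem_mov {i : Fin n} : i ∈ mov (R x * R y) ↔ x i ≠ 0 ∨ y i ≠ 0 := by
  rw [CfsgLib.Geo.OFrame.mem_mov, hp.apply]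
  simp only [e_dot]
  refine ⟨fun h => ?_, fun h e' => ?_⟩
  · by_contra hc
    push Not at hc
    exact h (by rw [hc.1, hc.2]; simp)
  · rw [sub_sub, sub_eq_self] at e'
    have hx := congrArg (· ⬝ᵥ x) e'
    have hy := congrArg (· ⬝ᵥ y) e'
    simp only [add_dotProduct, smul_dotProduct, hp.orth, dotProduct_comm y x, zero_dotProduct,
      smul_eq_mul, mul_zero, add_zero, zero_add, div_mul_cancel₀ _ hp.left,
      div_mul_cancel₀ _ hp.right, mul_eq_zero, h2, false_or] at hx hy
    tauto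

theorem Pair.mov_eq : mov (R x * R y) = supp x ∪ supp y := by
  ext i; rw [hp.mem_mov h2, Finset.mem_union, mem_supp, mem_supp]

theorem Pair.supp_le {v : Fin n → F} (hv : InSpan x y v) : supp v ⊆ mov (R x * R y) := by
  rw [hp.mov_eq h2]; exact hv.supp_subset

variable (hm : Mono (R x * R y))
include hm

theorem Pair.col (k : Fin n) (hk : k ∈ mov (R x * R y)) :
    InSpan x y (e k - (R x * R y).1 (e k)) ∧
      (e k - (R x * R y).1 (e k) : Fin n → F) k ≠ 0 ∧
      (supp (e k - (R x * R y).1 (e k))).card ≤ 2 := by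
  refine ⟨hp.diff _, ?_, (Finset.card_le_card (supp_sub _ _)).trans ((Finset.card_union_le _ _).trans
    (by rw [supp_e, Finset.card_singleton]; have := hm k; omega))⟩
  obtain ⟨b, s, hs, hb⟩ := hm.image k
  rw [hb, Pi.sub_apply, Pi.smul_apply, e_apply, if_pos rfl, e_apply, smul_eq_mul]
  split_ifs with h
  · subst h
    intro h0
    refine CfsgLib.Geo.OFrame.mem_mov.1 hk ?_
    rw [hb, show s = 1 by linear_combination -h0, one_smul]
  · simp

/-- A monomial product of two orthogonal reflections moves at most four frame vectors. -/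
theorem Pair.mov_card : (mov (R x * R y)).card ≤ 4 := by
  classical
  set t := R x * R y
  rcases (mov t).eq_empty_or_nonempty with h | ⟨i, hi⟩
  · simp [h]
  obtain ⟨hui, hii, hic⟩ := hp.col h2 hm i hi
  by_cases hsub : mov t ⊆ supp (e i - t.1 (e i))
  · exact (Finset.card_le_card hsub).trans (hic.trans (by norm_num))
  obtain ⟨j, hj, hji⟩ := Finset.not_subset.1 hsub
  obtain ⟨huj, hjj, hjc⟩ := hp.col h2 hm j hj
  refine (Finset.card_le_card (t := supp (e j - t.1 (e j)) ∪ supp (e i - t.1 (e i))) fun k hk => ?_).trans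
    ((Finset.card_union_le _ _).trans (Nat.add_le_add hjc hic))
  obtain ⟨huk, hkk, -⟩ := hp.col h2 hm k hk
  exact (InSpan.of_two huj hui huk hjj (not_mem_supp.1 hji)
    fun h0 => hii (by rw [h0]; rfl)).supp_subset (mem_supp.2 hkk)

/-- A vector of the negated plane with three nonzero coordinates has full support. -/
theorem Pair.supp_eq {v : Fin n → F} (hv : InSpan x y v) (h3 : 3 ≤ (supp v).card) :
    supp v = mov (R x * R y) := by
  set t := R x * R y
  refine Finset.Subset.antisymm (hp.supp_le h2 hv) fun i hi => ?_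
  by_contra hiv
  obtain ⟨hui, hii, -⟩ := hp.col h2 hm i hi
  have hv0 : v ≠ 0 := fun h => by simp [h, supp] at h3
  obtain ⟨j, hj⟩ := supp_nonempty hv0
  obtain ⟨huj, hjj, hjc⟩ := hp.col h2 hm j (hp.supp_le h2 hv hj)
  have hsub : supp (e j - t.1 (e j)) ⊆ supp v := by
    refine (supp_sub _ _).trans (Finset.union_subset (by rw [supp_e]; simpa using hj) ?_)
    obtain ⟨b, s, hs, hb⟩ := hm.image j
    have h := dot_map t h2 v (e j)
    rw [hp.neg hv, hb, dot_e, dotProduct_smul, dot_e, Pi.neg_apply, smul_eq_mul] at h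
    have hs0 : s ≠ 0 := fun h0 => by simp [h0] at hs
    have hb' : v b ≠ 0 := fun h0 => mem_supp.1 hj (by rw [← h, h0]; ring)
    rw [hb, supp_smul hs0, supp_e]
    simpa [mem_supp] using hb'
  obtain ⟨α, β, hαβ⟩ := InSpan.of_two hui hv huj hii (not_mem_supp.1 hiv) hv0
  have hα : α = 0 := by
    have := congrFun hαβ i
    rw [not_mem_supp.1 fun h => hiv (hsub h), Pi.add_apply, Pi.smul_apply, Pi.smul_apply,
      not_mem_supp.1 hiv, smul_zero, add_zero, smul_eq_mul, eq_comm, mul_eq_zero] at this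
    exact this.resolve_right hii
  rw [hα, zero_smul, zero_add] at hαβ
  have hβ : β ≠ 0 := fun h0 => hjj (by rw [hαβ, h0, zero_smul]; rfl)
  rw [hαβ, supp_smul hβ] at hjc
  omega

end pair

/-! ### Sums and differences with small support -/

theorem pairs {A : Finset (Fin n)} (f : Fin n → Fin n → F) (h2 : (2 : F) ≠ 0) (hA : 5 ≤ A.card)
    (hnorm : ∀ a ∈ A, f a ⬝ᵥ f a ≠ 0) (horth : ∀ a ∈ A, ∀ b ∈ A, a ≠ b → f a ⬝ᵥ f b = 0)
    (hsum : ∀ a ∈ A, ∀ b ∈ A, a ≠ b → ∀ σ : F, σ * σ = 1 → (supp (f a + σ • f b)).card ≤ 2) :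
    ∀ a ∈ A, (supp (f a)).card ≤ 1 := by
  classical
  have count : ∀ a ∈ A, ∀ b ∈ A, a ≠ b → (supp (f a) ∪ supp (f b)).card +
      ((supp (f a) \ supp (f b)).card + (supp (f b) \ supp (f a)).card) ≤ 4 := by
    intro a ha b hb hab
    set P := supp (f a + (1 : F) • f b)
    set M := supp (f a + (-1 : F) • f b)
    have h1 : supp (f a) ∪ supp (f b) ⊆ P ∪ M := fun i hi => by
      simp only [Finset.mem_union, P, M, mem_supp, Pi.add_apply, Pi.smul_apply, smul_eq_mul] at hi ⊢
      by_contra h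
      push Not at h
      rcases hi with hi | hi <;> apply hi <;>
        refine (mul_eq_zero.1 (show (2 : F) * _ = 0 from ?_)).resolve_left h2
      · linear_combination h.1 + h.2
      · linear_combination h.1 - h.2
    have h3 : (supp (f a) \ supp (f b)) ∪ (supp (f b) \ supp (f a)) ⊆ P ∩ M := fun i hi => by
      simp only [Finset.mem_union, Finset.mem_sdiff, Finset.mem_inter, P, M, mem_supp, Pi.add_apply,
        Pi.smul_apply, smul_eq_mul, not_not] at hi ⊢
      rcases hi with ⟨hi, h0⟩ | ⟨hi, h0⟩ <;> rw [h0] <;> simp [hi]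
    have h4 := Finset.card_le_card h1
    have h5 := Finset.card_le_card h3
    rw [Finset.card_union_of_disjoint disjoint_sdiff_sdiff] at h5
    have h6 := Finset.card_union_add_card_inter P M
    have h7 := hsum a ha b hb hab 1 (by ring)
    have h8 := hsum a ha b hb hab (-1) (by ring)
    change P.card ≤ 2 at h7
    change M.card ≤ 2 at h8
    omega
  have inter : ∀ a ∈ A, 2 ≤ (supp (f a)).card → ∀ b ∈ A, a ≠ b →
      2 ≤ (supp (f a) ∩ supp (f b)).card := by
    intro a ha hs b hb hab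
    by_contra hlt
    rcases Nat.lt_or_ge (supp (f a) ∩ supp (f b)).card 1 with h0 | h0
    · have := count a ha b hb hab
      have e1 := Finset.card_union_add_card_inter (supp (f a)) (supp (f b))
      have e2 := Finset.card_sdiff_add_card_inter (supp (f a)) (supp (f b))
      have e3 := Finset.card_sdiff_add_card_inter (supp (f b)) (supp (f a))
      rw [Finset.inter_comm] at e3
      have e4 : 0 < (supp (f b)).card := Finset.card_pos.2 (supp_nonempty fun h =>
        hnorm b hb (by rw [h]; simp))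
      omega
    · obtain ⟨i, hi⟩ := Finset.card_eq_one.1 (show (supp (f a) ∩ supp (f b)).card = 1 by omega)
      have h := horth a ha b hb hab
      rw [dotProduct, Finset.sum_eq_single i] at h
      · have : i ∈ supp (f a) ∩ supp (f b) := by rw [hi]; exact Finset.mem_singleton_self i
        simp only [Finset.mem_inter, mem_supp] at this
        exact mul_ne_zero this.1 this.2 h
      · intro j _ hj
        by_contra hne
        have : j ∈ supp (f a) ∩ supp (f b) := by
          simp only [Finset.mem_inter, mem_supp]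
          exact ⟨left_ne_zero_of_mul hne, right_ne_zero_of_mul hne⟩
        rw [hi] at this
        exact hj (Finset.mem_singleton.1 this)
      · simp
  have three : ∀ a ∈ A, (supp (f a)).card ≤ 2 := by
    intro a ha
    by_contra hs
    push Not at hs
    have hsub : ∀ b ∈ A, supp (f b) ⊆ supp (f a) := by
      intro b hb
      rcases eq_or_ne a b with rfl | hab
      · exact subset_rfl
      have := count a ha b hb hab
      have e1 := Finset.card_union_add_card_inter (supp (f a)) (supp (f b))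
      have e2 := Finset.card_sdiff_add_card_inter (supp (f a)) (supp (f b))
      have e3 := Finset.card_sdiff_add_card_inter (supp (f b)) (supp (f a))
      rw [Finset.inter_comm] at e3
      rw [← Finset.sdiff_eq_empty_iff_subset, ← Finset.card_eq_zero]
      omega
    have h1 := orth_card_le A f (supp (f a)) hsub hnorm horth
    obtain ⟨b, hb, hab⟩ := Finset.exists_mem_ne (show 1 < A.card by omega) a
    have := count a ha b hb hab.symm
    have e1 : (supp (f a)).card ≤ (supp (f a) ∪ supp (f b)).card :=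
      Finset.card_le_card Finset.subset_union_left
    omega
  intro a ha
  by_contra hs
  push Not at hs
  have hsub : ∀ b ∈ A, supp (f b) ⊆ supp (f a) := by
    intro b hb
    rcases eq_or_ne a b with rfl | hab
    · exact subset_rfl
    have h1 := inter a ha hs b hb hab
    have h2' := three b hb
    have := Finset.eq_of_subset_of_card_le (Finset.inter_subset_right (s₁ := supp (f a)) (s₂ := supp (f b)))
      (by omega)
    exact Finset.inter_eq_right.1 this
  have h1 := orth_card_le A f (supp (f a)) hsub hnorm horth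
  have := three a ha
  omega

/-! ### The criterion -/

variable {g : O F n}

theorem conj_pair (g : O F n) (h2 : (2 : F) ≠ 0) {a b c d : Fin n} (hab : a ≠ b) (hcd : c ≠ d)
    (hac : a ≠ c) (had : a ≠ d) (hbc : b ≠ c) (hbd : b ≠ d) {σ τ : F} (hσ : σ * σ = 1)
    (hτ : τ * τ = 1) :
    Pair (g.1 (e a) + σ • g.1 (e b)) (g.1 (e c) + τ • g.1 (e d)) := by
  simp only [← map_smul, ← map_add]
  refine ⟨?_, ?_, ?_⟩
  · rw [self_map, (root_norm h2 hab hσ).1]; exact h2
  · rw [self_map, (root_norm h2 hcd hτ).1]; exact h2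
  · rw [dot_map g h2]
    simp [add_dotProduct, dotProduct_add, ee_ne hac, ee_ne had, ee_ne hbc, ee_ne hbd]

theorem Over.conj_rel {H : Subgroup (O F n)} (hH : Over H) (hg : g ∈ H) {a b c d : Fin n}
    (hab : a ≠ b) (hcd : c ≠ d) {σ τ : F} (hσ : σ * σ = 1) (hτ : τ * τ = 1) :
    Rel H (g.1 (e a) + σ • g.1 (e b)) (g.1 (e c) + τ • g.1 (e d)) := by
  simp only [← map_smul, ← map_add]
  exact (hH.rel_root hab hcd hσ hτ).map hg

theorem mov_conj_subset (g : O F n) (h2 : (2 : F) ≠ 0) {a b c d : Fin n} (hab : a ≠ b) (hcd : c ≠ d)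
    (hac : a ≠ c) (had : a ≠ d) (hbc : b ≠ c) (hbd : b ≠ d) {σ τ : F} (hσ : σ * σ = 1)
    (hτ : τ * τ = 1) :
    mov (R (g.1 (e a) + σ • g.1 (e b)) * R (g.1 (e c) + τ • g.1 (e d))) ⊆
      supp (g.1 (e a)) ∪ supp (g.1 (e b)) ∪ (supp (g.1 (e c)) ∪ supp (g.1 (e d))) := by
  rw [(conj_pair g h2 hab hcd hac had hbc hbd hσ hτ).mov_eq h2]
  have hs : ∀ ρ : F, ρ * ρ = 1 → ρ ≠ 0 := fun ρ h h0 => by simp [h0] at h
  exact Finset.union_subset_union
    ((supp_add _ _).trans (by rw [supp_smul (hs σ hσ)]))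
    ((supp_add _ _).trans (by rw [supp_smul (hs τ hτ)]))

theorem quad_absorb (g : O F n) (h2 : (2 : F) ≠ 0) {a b c d : Fin n} (hab : a ≠ b) (hcd : c ≠ d)
    (hac : a ≠ c) (had : a ≠ d) (hbc : b ≠ c) (hbd : b ≠ d) {σ : F} (hσ : σ * σ = 1)
    (hm : ∀ τ : F, τ * τ = 1 → Mono (R (g.1 (e a) + σ • g.1 (e b)) * R (g.1 (e c) + τ • g.1 (e d))))
    (h3 : 3 ≤ (supp (g.1 (e a) + σ • g.1 (e b))).card) :
    supp (g.1 (e c)) ⊆ supp (g.1 (e a) + σ • g.1 (e b)) ∧
      (supp (g.1 (e a) + σ • g.1 (e b))).card ≤ 4 := by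
  have key : ∀ τ : F, τ * τ = 1 → supp (g.1 (e c) + τ • g.1 (e d)) ⊆ supp (g.1 (e a) + σ • g.1 (e b)) ∧
      (supp (g.1 (e a) + σ • g.1 (e b))).card ≤ 4 := fun τ hτ => by
    have hp := conj_pair g h2 hab hcd hac had hbc hbd hσ hτ
    have he := hp.supp_eq h2 (hm τ hτ) (InSpan.left _ _) h3
    exact ⟨he ▸ hp.supp_le h2 (InSpan.right _ _), he ▸ hp.mov_card h2 (hm τ hτ)⟩
  refine ⟨fun i hi => ?_, (key 1 (by ring)).2⟩
  by_contra hni
  have h1 := not_mem_supp.1 fun h => hni ((key 1 (by ring)).1 h)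
  have h1' := not_mem_supp.1 fun h => hni ((key (-1) (by ring)).1 h)
  simp only [Pi.add_apply, Pi.smul_apply, smul_eq_mul] at h1 h1'
  refine mem_supp.1 hi ((mul_eq_zero.1 (show (2 : F) * g.1 (e c) i = 0 from ?_)).resolve_left h2)
  linear_combination h1 + h1'

/-- If all conjugates of double transpositions inside a set of frame vectors are monomial, then so is
the element there. -/
theorem mono_criterion (g : O F n) (h2 : (2 : F) ≠ 0) {A : Finset (Fin n)} (hA : 7 ≤ A.card)
    (hm : ∀ a ∈ A, ∀ b ∈ A, ∀ c ∈ A, ∀ d ∈ A, a ≠ b → c ≠ d → a ≠ c → a ≠ d → b ≠ c → b ≠ d →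
      ∀ σ τ : F, σ * σ = 1 → τ * τ = 1 →
        Mono (R (g.1 (e a) + σ • g.1 (e b)) * R (g.1 (e c) + τ • g.1 (e d)))) :
    ∀ a ∈ A, (supp (g.1 (e a))).card ≤ 1 := by
  classical
  have hn : ∀ a, g.1 (e a) ⬝ᵥ g.1 (e a) ≠ 0 := fun a => by rw [self_map, ee]; exact one_ne_zero
  have ho : ∀ a b, a ≠ b → g.1 (e a) ⬝ᵥ g.1 (e b) = 0 := fun a b h => by rw [dot_map g h2, ee_ne h]
  refine pairs (fun a => g.1 (e a)) h2 (by omega) (fun a _ => hn a) (fun a _ b _ h => ho a b h)
    fun a ha b hb hab σ hσ => ?_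
  by_contra h3
  push Not at h3
  change 2 < (supp (g.1 (e a) + σ • g.1 (e b))).card at h3
  set A' := (A.erase a).erase b
  have hA' : 5 ≤ A'.card := by
    have h1 := Finset.card_erase_of_mem ha
    have h2' : (A.erase a).card - 1 ≤ A'.card := Finset.pred_card_le_card_erase
    omega
  have hsub : ∀ c ∈ A', supp (g.1 (e c)) ⊆ supp (g.1 (e a) + σ • g.1 (e b)) ∧
      (supp (g.1 (e a) + σ • g.1 (e b))).card ≤ 4 := by
    intro c hc
    obtain ⟨d, hd, hdc⟩ := Finset.exists_mem_ne (show 1 < A'.card by omega) c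
    simp only [A', Finset.mem_erase] at hc hd
    exact quad_absorb g h2 hab hdc.symm hc.2.1.symm hd.2.1.symm hc.1.symm hd.1.symm hσ
      (fun τ hτ => hm a ha b hb c hc.2.2 d hd.2.2 hab hdc.symm hc.2.1.symm hd.2.1.symm hc.1.symm
        hd.1.symm σ τ hσ hτ) (by omega)
  have h1 := orth_card_le A' (fun c => g.1 (e c)) _ (fun c hc => (hsub c hc).1) (fun c _ => hn c)
    fun c _ d _ h => ho c d h
  obtain ⟨c, hc⟩ := Finset.card_pos.1 (show 0 < A'.card by omega)
  have := (hsub c hc).2
  omega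

end CfsgLib.Geo.OFrame
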