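import Cfsg.Agent.Geo.OrthFrame.Criterion
import Mathlib.GroupTheory.OrderOfElement

/-!
An overgroup of the monomial group, all of whose vectors related to the frame of small support are
roots: reduction to an involution negating a plane through a vector with two coordinates.
-/

set_option autoImplicit false
set_option linter.unusedSectionVars false

namespace CfsgLib.Geo.OFrame

open QuadraticMap CfsgLib.Forms CfsgLib.Quad Matrix

/-- Two non-conjugate involutions have a central involution in the group they generate. -/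
theorem exists_central_involution {G : Type*} [Group G] [Finite G] {a b : G} (ha : a * a = 1)
    (hb : b * b = 1) (hnc : ∀ g : G, g * a * g⁻¹ ≠ b) :
    ∃ m : ℕ, (a * b) ^ m ≠ 1 ∧ (a * b) ^ m * (a * b) ^ m = 1 ∧
      Commute ((a * b) ^ m) a ∧ Commute ((a * b) ^ m) b := by
  set r := a * b with hr
  have hinv : r⁻¹ = b * a := by
    rw [hr, _root_.mul_inv_rev, inv_eq_of_mul_eq_one_right ha, inv_eq_of_mul_eq_one_right hb]
  have hara : ∀ k : ℕ, a * r ^ k * a = (r ^ k)⁻¹ := fun k => by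
    induction k with
    | zero => simp [ha]
    | succ k ih =>
      rw [pow_succ, ← mul_assoc, show a * r ^ k * r * a = (a * r ^ k * a) * (a * r * a) by
        simp only [mul_assoc, ← mul_assoc a a, ha, one_mul]]
      rw [ih, hr, show a * (a * b) * a = b * a by rw [← mul_assoc a, ha, one_mul], ← hinv, ← hr,
        ← _root_.mul_inv_rev, ← pow_succ', pow_succ]
  obtain ⟨m, hm | hm⟩ : ∃ m, orderOf r = 2 * m ∨ orderOf r = 2 * m + 1 :=
    ⟨orderOf r / 2, by omega⟩
  · have hpos := orderOf_pos r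
    have hsq : r ^ m * r ^ m = 1 := by rw [← pow_add, ← two_mul, ← hm, pow_orderOf_eq_one]
    have hca : Commute (r ^ m) a := by
      have h := hara m
      rw [inv_eq_of_mul_eq_one_right hsq] at h
      calc r ^ m * a = a * (a * r ^ m * a) := by simp only [← mul_assoc, ha, one_mul]
        _ = a * r ^ m := by rw [h]
    refine ⟨m, pow_ne_one_of_lt_orderOf (by omega) (by omega), hsq, hca, ?_⟩
    have := (hca.mul_right ((Commute.refl r).pow_left m))
    rwa [hr, ← mul_assoc, ha, one_mul] at this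
  · refine absurd ?_ (hnc (r ^ m))
    have h1 : r ^ m * a * (r ^ m)⁻¹ = r ^ m * r ^ m * a := by
      rw [← hara m]; simp only [mul_assoc, ← mul_assoc a a, ha, one_mul]
    have h2 : r ^ m * r ^ m = r⁻¹ := eq_inv_of_mul_eq_one_left (by
      rw [← pow_add, ← pow_succ, ← two_mul, ← hm, pow_orderOf_eq_one])
    rw [h1, h2, hinv, mul_assoc, ha, mul_one]

variable {F : Type*} [Field F] [Finite F] [DecidableEq F] {n : ℕ}

instance : Finite (O F n) :=
  Finite.of_injective (fun g : O F n => fun i j => g.1 (e i) j) fun f g h =>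
    O_ext fun a => funext fun j => congrFun (congrFun h a) j

/-- The sign change on four coordinates. -/
noncomputable def eps4 (a b c d : Fin n) : O F n :=
  R (e a) * R (e b) * (R (e c) * R (e d))

theorem eps4_apply {a b c d : Fin n} (hab : a ≠ b) (hac : a ≠ c) (had : a ≠ d) (hbc : b ≠ c)
    (hbd : b ≠ d) (hcd : c ≠ d) (i : Fin n) :
    (eps4 (F := F) a b c d).1 (e i) =
      if i ∈ ({a, b, c, d} : Finset (Fin n)) then -e i else e i := by
  have hf : ∀ {p q : Fin n}, q ≠ p → (R (e (F := F) p)).1 (e q) = e q := fun h => R_fix (ee_ne h)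
  have hn : ∀ p : Fin n, (R (e (F := F) p)).1 (e p) = -e p := fun p =>
    R_neg (by rw [ee]; exact one_ne_zero)
  simp only [eps4, mul_apply, Finset.mem_insert, Finset.mem_singleton]
  by_cases h1 : i = a
  · subst h1; rw [hf had, hf hac, hf hab, hn]; simp
  by_cases h2 : i = b
  · subst h2; rw [hf hbd, hf hbc, hn, map_neg, hf h1]; simp
  by_cases h3 : i = c
  · subst h3; rw [hf hcd, hn, map_neg, map_neg, hf h2, hf h1]; simp
  by_cases h4 : i = d
  · subst h4; rw [hn, map_neg, map_neg, map_neg, hf h3, hf h2, hf h1]; simp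
  · rw [hf h4, hf h3, hf h2, hf h1, if_neg (by tauto)]

theorem eps4_coord {a b c d : Fin n} (hab : a ≠ b) (hac : a ≠ c) (had : a ≠ d) (hbc : b ≠ c)
    (hbd : b ≠ d) (hcd : c ≠ d) (h2 : (2 : F) ≠ 0) (v : Fin n → F) (i : Fin n) :
    (eps4 (F := F) a b c d).1 v i = if i ∈ ({a, b, c, d} : Finset (Fin n)) then -v i else v i := by
  have h := dot_map (eps4 (F := F) a b c d) h2 v (e i)
  rw [eps4_apply hab hac had hbc hbd hcd i, dot_e] at h
  split_ifs at h ⊢ with hi
  · rw [dotProduct_neg, dot_e] at h; linear_combination -h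
  · rwa [dot_e] at h

theorem R_e_coord' (p : Fin n) (v : Fin n → F) (k : Fin n) :
    (R (e p) : O F n).1 v k = if k = p then -v k else v k := by
  rw [R_apply, ee, dot_e, div_one, Pi.sub_apply, Pi.smul_apply, e_apply, smul_eq_mul]
  split_ifs with h
  · subst h; ring
  · ring

/-- The overgroup has no vector of small support related to the frame which is not a root. -/
structure Bad (H : Subgroup (O F n)) : Prop extends Over H where
  big : 7 ≤ n
  alt : 9 ≤ n ∨ n = 7
  three : (3 : F) = 0 → ∀ x : F, x * x ≠ -1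
  nosmall : ∀ v, InV H v → (supp v).card + 3 ≤ n → Root v

/-- A non-monomial involution of the overgroup negating a plane. -/
structure Inv2 (H : Subgroup (O F n)) (x y : Fin n → F) : Prop where
  pair : Pair x y
  rel : Rel H x y
  notMono : ¬ Mono (R x * R y)

theorem Pair.sq {x y : Fin n → F} (hp : Pair x y) : R x * R y * (R x * R y) = 1 := by
  calc R x * R y * (R x * R y) = R x * R y * (R y * R x) := by
        rw [← R_comm (dotProduct_comm y x ▸ hp.orth : y ⬝ᵥ x = 0)]
    _ = 1 := by rw [mul_assoc, ← mul_assoc (R y), R_sq, one_mul, R_sq]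

variable {H : Subgroup (O F n)}

theorem Over.inV_half (hH : Over H) {a b : Fin n} (hab : a ≠ b) {c σ : F} (hc : 2 * (c * c) = 1)
    (hσ : σ * σ = 1) : InV H (c • (e a + σ • e b)) := by
  have h2 := hH.two
  have hc0 : c ≠ 0 := fun h => by simp [h] at hc
  refine hH.inV_of_rel (a := a) (by
    rw [smul_dotProduct, dotProduct_smul, (root_norm h2 hab hσ).1, smul_eq_mul, smul_eq_mul]
    linear_combination hc) ?_
  rw [Rel, R_smul hc0]
  refine hH.pair (by rw [(root_norm h2 hab hσ).1]; exact h2) (by rw [ee]; exact one_ne_zero) ?_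
    (mono_R_root h2 hab hσ) (mono_R_e a)
  rw [(root_norm h2 hab hσ).1, ee, mul_one]
  exact ⟨1 / c, by field_simp; linear_combination hc⟩

/-- A root of norm one is related to the frame. -/
theorem Over.inV_root (hH : Over H) {v : Fin n → F} (hv : v ⬝ᵥ v = 1) (hr : Root v) : InV H v := by
  classical
  rcases hr with h | ⟨h, heq⟩
  · obtain ⟨a, ha⟩ := supp_nonempty (v := v) fun h0 => by simp [h0] at hv
    have hva : v = v a • e a := eq_smul_e fun i hi => not_mem_supp.1 fun h' =>
      hi (Finset.card_le_one.1 h i h' a ha)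
    refine hH.inV_of_rel (a := a) hv ?_
    rw [Rel, hva, R_smul (mem_supp.1 ha)]
    exact hH.rel_e a a
  · obtain ⟨a, b, hab, hs⟩ := Finset.card_eq_two.1 h
    have ha : v a ≠ 0 := mem_supp.1 (by rw [hs]; simp)
    have hb : v b * v b = v a * v a := heq b (by rw [hs]; simp) a (by rw [hs]; simp)
    have h1 := hv
    rw [dotProduct, ← Finset.sum_subset (Finset.subset_univ ({a, b} : Finset (Fin n))) fun i _ hi => by
      rw [(not_mem_supp (v := v)).1 (by rw [hs]; exact hi), zero_mul], Finset.sum_pair hab, hb] at h1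
    have hv' : v = v a • (e a + (v b / v a) • e b) := by
      funext i
      rw [Pi.smul_apply, Pi.add_apply, Pi.smul_apply, e_apply, e_apply, smul_eq_mul, smul_eq_mul]
      rcases eq_or_ne i a with rfl | hia
      · simp [hab]
      rcases eq_or_ne i b with rfl | hib
      · simp [hia, mul_div_cancel₀ _ ha]
      · have : v i = 0 := (not_mem_supp (v := v)).1 (by rw [hs]; simp [hia, hib])
        simp [hia, hib, this]
    rw [hv']
    refine hH.inV_half hab (by linear_combination h1) ?_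
    field_simp
    linear_combination hb

theorem fin_seven_cases : ∀ a k : Fin 7,
    k = a ∨ k = a + 1 ∨ k = a + 2 ∨ k = a + 3 ∨ k = a + 4 ∨ k = a + 5 ∨ k = a + 6 := by decide

/-- In odd dimension the reflections in frame vectors, negated, are in the monomial part, so the
overgroup keeps the related vectors. -/
theorem Over.image_inV (hH : Over H) (hn : n = 7) {g : O F n} (hg : g ∈ H) (a : Fin n) :
    InV H (g.1 (e a)) := by
  subst hn
  classical
  set N : O F 7 := R (e (a + 1)) * R (e (a + 2)) * (R (e (a + 3)) * R (e (a + 4))) *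
    (R (e (a + 5)) * R (e (a + 6))) with hN
  have hNH : N ∈ H := mul_mem (mul_mem (hH.rel_e _ _) (hH.rel_e _ _)) (hH.rel_e _ _)
  have hprod : ∀ v : Fin 7 → F, (R (e a) : O F 7).1 (N.1 v) = -v := fun v => by
    funext k
    have hk := fin_seven_cases a k
    simp only [hN, mul_apply, R_e_coord', Pi.neg_apply]
    rcases hk with rfl | rfl | rfl | rfl | rfl | rfl | rfl <;> simp [add_eq_left, eq_comm]
  -- the same for the image
  have hgN : g * N * g⁻¹ ∈ H := mul_mem (mul_mem hg hNH) (inv_mem hg)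
  have hgprod : ∀ v : Fin 7 → F, (R (g.1 (e a)) : O F 7).1 ((g * N * g⁻¹).1 v) = -v := fun v => by
    rw [← R_conj, mul_apply, mul_apply, mul_apply, mul_apply,
      show (g⁻¹).1 (g.1 (N.1 ((g⁻¹).1 v))) = N.1 ((g⁻¹).1 v) by rw [← mul_apply g⁻¹ g, inv_mul_cancel, one_apply],
      hprod, map_neg, ← mul_apply g g⁻¹, mul_inv_cancel, one_apply]
  have hRa : R (e a) * R (g.1 (e a)) = N * (g * N * g⁻¹)⁻¹ := by
    refine eq_mul_inv_of_mul_eq (O_ext fun k => ?_)
    rw [mul_apply, mul_apply, hgprod, map_neg]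
    have h1 := congrArg (R (e a) : O F 7).1 (hprod (e k))
    rw [← mul_apply, R_sq, one_apply, map_neg] at h1
    rw [← h1]
  refine hH.inV_of_rel (a := a) (by rw [self_map, ee]) (Rel.symm ?_)
  rw [Rel, hRa]
  exact mul_mem hNH (inv_mem hgN)

theorem Bad.inV_col (hB : Bad H) (hn : n = 7) {t : O F n} (ht : t ∈ H) (a : Fin n)
    (hs : (supp (t.1 (e a))).card ≤ 4) : Root (t.1 (e a)) :=
  hB.nosmall _ (hB.toOver.image_inV hn ht a) (by omega)

/-- An element of the overgroup sending one frame vector to a related one, with all columns of small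
support, is monomial. -/
theorem Bad.keep_mono (hB : Bad H) {t : O F n} (ht : t ∈ H) {k : Fin n} (hk : InV H (t.1 (e k)))
    (hsm : ∀ j, (supp (t.1 (e j))).card + 3 ≤ n) : Mono t := by
  classical
  by_contra hnm
  have h2 := hB.two
  have himg : ∀ u, InV H u → InV H (t.1 u) := fun u hu =>
    hB.inV_of_rel (a := k) (by rw [self_map]; exact hu.1) (((hu.2 k).map ht).trans (hk.2 k))
  have hroot : ∀ j, Root (t.1 (e j)) := fun j => hB.nosmall _ (himg _ (hB.inV_e j)) (hsm j)
  obtain ⟨j, hj⟩ : ∃ j, ¬ (supp (t.1 (e j))).card ≤ 1 := by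
    by_contra h
    push Not at h
    exact hnm h
  obtain ⟨c, hc⟩ : ∃ c : F, 2 * (c * c) = 1 := by
    rcases hroot j with h | ⟨h, heq⟩
    · exact absurd h hj
    obtain ⟨a, b, hab, hs⟩ := Finset.card_eq_two.1 h
    refine ⟨t.1 (e j) a, ?_⟩
    have h1 : t.1 (e j) ⬝ᵥ t.1 (e j) = 1 := by rw [self_map, ee]
    rw [dotProduct, ← Finset.sum_subset (Finset.subset_univ ({a, b} : Finset (Fin n))) fun i _ hi => by
      rw [(not_mem_supp (v := t.1 (e j))).1 (by rw [hs]; exact hi), zero_mul], Finset.sum_pair hab,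
      heq b (by rw [hs]; simp) a (by rw [hs]; simp)] at h1
    linear_combination h1
  have hc0 : c ≠ 0 := fun h => by simp [h] at hc
  refine hnm (fun a => pairs (fun i => t.1 (e i)) h2 (A := Finset.univ) (by simp; have := hB.big; omega)
    (fun i _ => by rw [self_map, ee]; exact one_ne_zero)
    (fun i _ l _ h => by rw [dot_map t h2, ee_ne h]) (fun a _ b _ hab σ hσ => ?_) a (Finset.mem_univ a))
  have hu : InV H (c • (e a + σ • e b)) := hB.inV_half hab hc hσ
  have hsupp : (supp (t.1 (e a) + σ • t.1 (e b))).card ≤ 4 := by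
    refine (Finset.card_le_card (supp_add _ _)).trans ((Finset.card_union_le _ _).trans ?_)
    rw [supp_smul (fun h0 => by simp [h0] at hσ)]
    have h1 : ∀ i, (supp (t.1 (e i))).card ≤ 2 := fun i => by
      rcases hroot i with h | ⟨h, -⟩ <;> omega
    have := h1 a; have := h1 b
    omega
  have heq : supp (t.1 (c • (e a + σ • e b))) = supp (t.1 (e a) + σ • t.1 (e b)) := by
    rw [map_smul, map_add, map_smul, supp_smul hc0]
  rcases hB.nosmall _ (himg _ hu) (by rw [heq]; have := hB.big; omega) with h | ⟨h, -⟩ <;>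
    rw [heq] at h <;> omega

theorem Bad.stuck (hB : Bad H) {x y : Fin n → F} (hp : Pair x y) (hr : Rel H x y)
    (hm : (mov (R x * R y)).card + 3 ≤ n) : Mono (R x * R y) := by
  classical
  have h2 := hB.two
  obtain ⟨k, -, hk⟩ := Finset.exists_mem_notMem_of_card_lt_card
    (show (mov (R x * R y)).card < (Finset.univ : Finset (Fin n)).card by simp; omega)
  rw [CfsgLib.Geo.OFrame.mem_mov, not_not] at hk
  refine hB.keep_mono hr (k := k) (by rw [hk]; exact hB.inV_e k) fun j => ?_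
  by_cases hj : j ∈ mov (R x * R y)
  · have : supp ((R x * R y).1 (e j)) ⊆ mov (R x * R y) := by
      rw [show (R x * R y).1 (e j) = e j - (e j - (R x * R y).1 (e j)) by abel]
      refine (supp_sub _ _).trans (Finset.union_subset (by rw [supp_e]; simpa using hj) ?_)
      exact hp.supp_le h2 (hp.diff _)
    have := Finset.card_le_card this
    omega
  · rw [CfsgLib.Geo.OFrame.mem_mov, not_not] at hj
    rw [hj, supp_e, Finset.card_singleton]
    have := hB.big
    omega

theorem Bad.mov_large (hB : Bad H) {x y : Fin n → F} (h : Inv2 H x y) :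
    n ≤ (mov (R x * R y)).card + 2 := by
  by_contra hlt
  exact h.notMono (hB.stuck h.pair h.rel (by omega))

theorem Bad.exists_inv2 (hB : Bad H) {g : O F n} (hg : g ∈ H) (hgm : ¬ Mono g) :
    ∃ x y, Inv2 H x y := by
  by_contra h
  push Not at h
  refine hgm fun a => mono_criterion g hB.two (A := Finset.univ) (by simp; have := hB.big; omega)
    (fun a _ b _ c _ d _ hab hcd hac had hbc hbd σ τ hσ hτ => ?_) a (Finset.mem_univ a)
  by_contra hm
  exact h _ _ ⟨conj_pair g hB.two hab hcd hac had hbc hbd hσ hτ, hB.conj_rel hg hab hcd hσ hτ, hm⟩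

theorem Bad.eps4_mem (hB : Bad H) (a b c d : Fin n) : eps4 a b c d ∈ H :=
  mul_mem (hB.rel_e a b) (hB.rel_e c d)

/-- Among five orthonormal vectors whose pairs give monomial products some is a root. -/
theorem exists_root_col (h2 : (2 : F) ≠ 0) {A : Finset (Fin n)} (hA : 5 ≤ A.card)
    (f : Fin n → Fin n → F) (h1 : ∀ a ∈ A, f a ⬝ᵥ f a = 1)
    (horth : ∀ a ∈ A, ∀ b ∈ A, a ≠ b → f a ⬝ᵥ f b = 0)
    (hm : ∀ a ∈ A, ∀ b ∈ A, a ≠ b → Mono (R (f a) * R (f b))) : ∃ a ∈ A, Root (f a) := by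
  classical
  by_contra hall
  push Not at hall
  have hp : ∀ a ∈ A, ∀ b ∈ A, a ≠ b → Pair (f a) (f b) := fun a ha b hb hab =>
    ⟨by rw [h1 a ha]; exact one_ne_zero, by rw [h1 b hb]; exact one_ne_zero, horth a ha b hb hab⟩
  obtain ⟨a, ha⟩ := Finset.card_pos.1 (show 0 < A.card by omega)
  have hne : ∀ b ∈ A, f b ⬝ᵥ f b ≠ 0 := fun b hb => by rw [h1 b hb]; exact one_ne_zero
  have hsub2 : (supp (f a)).card = 2 := by
    by_contra hne2
    have h3 : 3 ≤ (supp (f a)).card := by
      by_contra h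
      exact hall a ha (Or.inl (by omega))
    obtain ⟨b₀, hb₀, hab₀⟩ := Finset.exists_mem_ne (show 1 < A.card by omega) a
    have hsub : ∀ b ∈ A, supp (f b) ⊆ supp (f a) := fun b hb => by
      rcases eq_or_ne a b with rfl | hab
      · exact subset_rfl
      rw [(hp a ha b hb hab).supp_eq h2 (hm a ha b hb hab) (InSpan.left _ _) h3]
      exact (hp a ha b hb hab).supp_le h2 (InSpan.right _ _)
    have h4 := (hp a ha b₀ hb₀ hab₀.symm).mov_card h2 (hm a ha b₀ hb₀ hab₀.symm)
    rw [← (hp a ha b₀ hb₀ hab₀.symm).supp_eq h2 (hm a ha b₀ hb₀ hab₀.symm) (InSpan.left _ _) h3] at h4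
    have := orth_card_le A f (supp (f a)) hsub hne horth
    omega
  obtain ⟨i, j, hij, hs⟩ := Finset.card_eq_two.1 hsub2
  have hz : ∀ b ∈ A, a ≠ b → ∀ p q, p ≠ q → supp (f a) = {p, q} → f b p ≠ 0 := by
    intro b hb hab p q hpq hs hbp
    have hap : f a p ≠ 0 := mem_supp.1 (by rw [hs]; simp)
    have haq : f a q ≠ 0 := mem_supp.1 (by rw [hs]; simp)
    have hfix : (R (f a) * R (f b)).1 (e p) = e p - (2 * f a p) • f a := by
      rw [mul_apply, R_fix (d := f b) (x := e p) (by rw [e_dot]; exact hbp), R_apply, h1 a ha, e_dot, div_one]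
    have hcol := hm a ha b hb hab p
    rw [hfix] at hcol
    have hq' : q ∈ supp (e p - (2 * f a p) • f a) := by
      rw [mem_supp, Pi.sub_apply, Pi.smul_apply, e_apply, if_neg hpq.symm, zero_sub, neg_ne_zero,
        smul_eq_mul]
      exact mul_ne_zero (mul_ne_zero h2 hap) haq
    have hp' : p ∉ supp (e p - (2 * f a p) • f a) := fun h => hpq (Finset.card_le_one.1 hcol p h q hq')
    rw [mem_supp, Pi.sub_apply, Pi.smul_apply, e_apply, if_pos rfl, smul_eq_mul, not_not] at hp'
    have h1' := h1 a ha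
    rw [dotProduct, ← Finset.sum_subset (Finset.subset_univ ({p, q} : Finset (Fin n))) fun l _ hl => by
      rw [(not_mem_supp (v := f a)).1 (by rw [hs]; exact hl), zero_mul], Finset.sum_pair hpq] at h1'
    have heq : f a p * f a p = f a q * f a q :=
      mul_left_cancel₀ h2 (by linear_combination -2 * hp' - 2 * h1')
    refine hall a ha (Or.inr ⟨by rw [hs, Finset.card_pair hpq], fun k hk l hl => ?_⟩)
    rw [hs, Finset.mem_insert, Finset.mem_singleton] at hk hl
    rcases hk with rfl | rfl <;> rcases hl with rfl | rfl <;> first | rfl | exact heq | exact heq.symm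
  have hsub : ∀ b ∈ A, supp (f a) ⊆ supp (f b) := fun b hb => by
    rcases eq_or_ne a b with rfl | hab
    · exact subset_rfl
    rw [hs]
    intro l hl
    rw [Finset.mem_insert, Finset.mem_singleton] at hl
    rcases hl with rfl | rfl
    · exact mem_supp.2 (hz b hb hab _ _ hij hs)
    · exact mem_supp.2 (hz b hb hab _ _ hij.symm (by rw [hs, Finset.pair_comm]))
  have hall2 : ∀ b ∈ A, supp (f b) ⊆ supp (f a) := fun b hb => by
    rcases eq_or_ne a b with rfl | hab
    · exact subset_rfl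
    by_cases h3 : 3 ≤ (supp (f b)).card
    · have e1 := (hp a ha b hb hab).mov_card h2 (hm a ha b hb hab)
      have hsub' : ∀ d ∈ A, supp (f d) ⊆ supp (f b) := fun d hd => by
        rcases eq_or_ne b d with rfl | hbd
        · exact subset_rfl
        rw [(hp b hb d hd hbd).supp_eq h2 (hm b hb d hd hbd) (InSpan.left _ _) h3]
        exact (hp b hb d hd hbd).supp_le h2 (InSpan.right _ _)
      have h4 := orth_card_le A f (supp (f b)) hsub' hne horth
      rw [← (hp a ha b hb hab).supp_eq h2 (hm a ha b hb hab) (InSpan.right _ _) h3] at e1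
      omega
    · exact (Finset.eq_of_subset_of_card_le (hsub b hb) (by omega)).ge
  have := orth_card_le A f (supp (f a)) hall2 hne horth
  omega

/-- An element of the overgroup preserving a set of four coordinates and its complement is monomial. -/
theorem Bad.split_mono (hB : Bad H) {S : Finset (Fin n)} (hS : S.card = 4) {h : O F n} (hh : h ∈ H)
    (hside : ∀ i j, h.1 (e i) j ≠ 0 → (i ∈ S ↔ j ∈ S)) : Mono h := by
  classical
  have h2 := hB.two
  have hSc : Sᶜ.card = n - 4 := by rw [Finset.card_compl, Fintype.card_fin, hS]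
  rcases hB.alt with hn | h7
  swap
  · have hsm : ∀ j, (supp (h.1 (e j))).card ≤ 4 := fun j => by
      by_cases hj : j ∈ S
      · exact (Finset.card_le_card (show supp (h.1 (e j)) ⊆ S from fun m hm =>
          (hside j m (mem_supp.1 hm)).1 hj)).trans hS.le
      · refine (Finset.card_le_card (show supp (h.1 (e j)) ⊆ Sᶜ from fun m hm =>
          Finset.mem_compl.2 fun hmS => hj ((hside j m (mem_supp.1 hm)).2 hmS))).trans ?_
        omega
    exact hB.keep_mono hh (hB.toOver.image_inV h7 hh ⟨0, by omega⟩) fun j => by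
      have := hsm j
      omega
  have hout : ∀ i, i ∉ S → supp (h.1 (e i)) ⊆ Sᶜ := fun i hi j hj =>
    Finset.mem_compl.2 fun hjS => hi ((hside i j (mem_supp.1 hj)).2 hjS)
  have horth : ∀ a b, a ≠ b → h.1 (e a) ⬝ᵥ h.1 (e b) = 0 := fun a b hab => by
    rw [dot_map h h2, ee_ne hab]
  obtain ⟨k, -, hk⟩ := exists_root_col h2 (A := Sᶜ) (by omega) (fun a => h.1 (e a))
    (fun a _ => by rw [self_map, ee]) (fun a _ b _ hab => horth a b hab) fun a ha b hb hab => by
      have hp : Pair (h.1 (e a)) (h.1 (e b)) := ⟨by rw [self_map, ee]; exact one_ne_zero,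
        by rw [self_map, ee]; exact one_ne_zero, horth a b hab⟩
      refine hB.stuck hp ((hB.rel_e a b).map hh) ?_
      rw [hp.mov_eq h2]
      have := Finset.card_le_card (Finset.union_subset (hout a (Finset.mem_compl.1 ha))
        (hout b (Finset.mem_compl.1 hb)))
      omega
  refine hB.keep_mono hh (hB.inV_root (by rw [self_map, ee]) hk) fun j => ?_
  by_cases hj : j ∈ S
  · have := Finset.card_le_card (show supp (h.1 (e j)) ⊆ S from fun m hm =>
      (hside j m (mem_supp.1 hm)).1 hj)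
    omega
  · have := Finset.card_le_card (hout j hj)
    omega

/-- An element of the overgroup commuting with a sign change on four coordinates is monomial. -/
theorem Bad.commute_mono (hB : Bad H) {a b c d : Fin n} (hab : a ≠ b) (hac : a ≠ c) (had : a ≠ d)
    (hbc : b ≠ c) (hbd : b ≠ d) (hcd : c ≠ d) {h : O F n} (hh : h ∈ H)
    (hcomm : Commute h (eps4 a b c d)) :
    Mono h ∧ ∀ i j, h.1 (e i) j ≠ 0 →
      (i ∈ ({a, b, c, d} : Finset (Fin n)) ↔ j ∈ ({a, b, c, d} : Finset (Fin n))) := by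
  classical
  set S : Finset (Fin n) := {a, b, c, d} with hS
  have h2 := hB.two
  have hside : ∀ i j, h.1 (e i) j ≠ 0 → (i ∈ S ↔ j ∈ S) := by
    intro i j hij
    have h1 := congrArg (fun g : O F n => g.1 (e i) j) hcomm.eq
    simp only [mul_apply] at h1
    rw [eps4_apply hab hac had hbc hbd hcd, eps4_coord hab hac had hbc hbd hcd h2, ← hS] at h1
    by_cases hi : i ∈ S <;> by_cases hj : j ∈ S <;> simp only [hi, hj, if_true, if_false, map_neg,
      Pi.neg_apply, iff_self, iff_false, false_iff, not_true] at h1 ⊢ <;>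
      exact hij ((mul_eq_zero.1 (show (2 : F) * h.1 (e i) j = 0 by
        first | linear_combination h1 | linear_combination -h1)).resolve_left h2) |>.elim
  have hScard : S.card = 4 := by
    rw [hS, Finset.card_insert_of_notMem (by simp [hab, hac, had]),
      Finset.card_insert_of_notMem (by simp [hbc, hbd]), Finset.card_pair hcd]
  exact ⟨hB.split_mono hScard hh hside, hside⟩

/-- Up to the span of two vectors, fixed outside a set of coordinates. -/
def NearSpan (x y : Fin n → F) (S : Finset (Fin n)) (g : O F n) : Prop :=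
  ∀ v, ∃ α β : F, ∀ k ∉ S, v k - g.1 v k = α * x k + β * y k

theorem NearSpan.mul {x y : Fin n → F} {S : Finset (Fin n)} {g h : O F n} (hg : NearSpan x y S g)
    (hh : NearSpan x y S h) : NearSpan x y S (g * h) := fun v => by
  obtain ⟨a, b, ha⟩ := hh v
  obtain ⟨c, d, hc⟩ := hg (h.1 v)
  refine ⟨a + c, b + d, fun k hk => ?_⟩
  rw [mul_apply]
  linear_combination ha k hk + hc k hk

theorem NearSpan.pow {x y : Fin n → F} {S : Finset (Fin n)} {g : O F n} (hg : NearSpan x y S g) :
    ∀ m : ℕ, NearSpan x y S (g ^ m)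
  | 0 => fun v => ⟨0, 0, fun k _ => by simp [one_apply]⟩
  | m + 1 => by rw [pow_succ]; exact (NearSpan.pow hg m).mul hg

theorem NearSpan.no_three {x y : Fin n → F} {S : Finset (Fin n)} {g : O F n} (hg : NearSpan x y S g)
    {v₁ v₂ v₃ : Fin n → F} {k₁ k₂ k₃ : Fin n} (h₁ : k₁ ∉ S) (h₂ : k₂ ∉ S) (h₃ : k₃ ∉ S)
    (d11 : v₁ k₁ - g.1 v₁ k₁ ≠ 0) (d22 : v₂ k₂ - g.1 v₂ k₂ ≠ 0) (d33 : v₃ k₃ - g.1 v₃ k₃ ≠ 0)
    (d12 : v₁ k₂ - g.1 v₁ k₂ = 0) (d13 : v₁ k₃ - g.1 v₁ k₃ = 0)
    (d21 : v₂ k₁ - g.1 v₂ k₁ = 0) (d23 : v₂ k₃ - g.1 v₂ k₃ = 0)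
    (d31 : v₃ k₁ - g.1 v₃ k₁ = 0) (d32 : v₃ k₂ - g.1 v₃ k₂ = 0) : False := by
  obtain ⟨a1, b1, e1⟩ := hg v₁
  obtain ⟨a2, b2, e2⟩ := hg v₂
  obtain ⟨a3, b3, e3⟩ := hg v₃
  rw [e1 _ h₁] at d11; rw [e1 _ h₂] at d12; rw [e1 _ h₃] at d13
  rw [e2 _ h₁] at d21; rw [e2 _ h₂] at d22; rw [e2 _ h₃] at d23
  rw [e3 _ h₁] at d31; rw [e3 _ h₂] at d32; rw [e3 _ h₃] at d33
  have hdet : (a1 * x k₁ + b1 * y k₁) * ((a2 * x k₂ + b2 * y k₂) * (a3 * x k₃ + b3 * y k₃) -
      (a2 * x k₃ + b2 * y k₃) * (a3 * x k₂ + b3 * y k₂)) -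
      (a1 * x k₂ + b1 * y k₂) * ((a2 * x k₁ + b2 * y k₁) * (a3 * x k₃ + b3 * y k₃) -
        (a2 * x k₃ + b2 * y k₃) * (a3 * x k₁ + b3 * y k₁)) +
      (a1 * x k₃ + b1 * y k₃) * ((a2 * x k₁ + b2 * y k₁) * (a3 * x k₂ + b3 * y k₂) -
        (a2 * x k₂ + b2 * y k₂) * (a3 * x k₁ + b3 * y k₁)) = 0 := by ring
  rw [d12, d13, d23, d21, d31, d32] at hdet
  simp only [zero_mul, mul_zero, sub_zero, sub_self, add_zero] at hdet
  exact mul_ne_zero d11 (mul_ne_zero d22 d33) hdet

/-- The central involution obtained from a non-monomial involution and a sign change. -/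
theorem Bad.exists_z (hB : Bad H) {x y : Fin n → F} (h : Inv2 H x y) {a b c d : Fin n} (hab : a ≠ b)
    (hac : a ≠ c) (had : a ≠ d) (hbc : b ≠ c) (hbd : b ≠ d) (hcd : c ≠ d) :
    ∃ z ∈ H, ∃ m : ℕ, z = (R x * R y * eps4 a b c d) ^ m ∧ z ≠ 1 ∧ z * z = 1 ∧
      Commute z (R x * R y) ∧ Mono z ∧
      (∀ i j, z.1 (e i) j ≠ 0 →
        (i ∈ ({a, b, c, d} : Finset (Fin n)) ↔ j ∈ ({a, b, c, d} : Finset (Fin n)))) ∧
      NearSpan x y ({a, b, c, d} : Finset (Fin n)) z := by
  classical
  set t := R x * R y with ht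
  set ε : O F n := eps4 a b c d
  have hεap := eps4_apply (F := F) hab hac had hbc hbd hcd
  have hεsq : ε * ε = 1 := O_ext fun i => by
    rw [mul_apply, one_apply, hεap]
    split_ifs with hi
    · rw [map_neg, hεap, if_pos hi, neg_neg]
    · rw [hεap, if_neg hi]
  have hnc : ∀ g : O F n, g * ε * g⁻¹ ≠ t := by
    intro g hg
    have hneg : ∀ i ∈ ({a, b, c, d} : Finset (Fin n)), InSpan x y (g.1 (e i)) := fun i hi =>
      h.pair.of_neg hB.two (by
        rw [← ht, ← hg, mul_apply, mul_apply,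
          show (g⁻¹).1 (g.1 (e i)) = e i by rw [← mul_apply, inv_mul_cancel, one_apply],
          hεap, if_pos hi, map_neg])
    have hpos : (g.1 (e a)) ⬝ᵥ (g.1 (e a)) ≠ 0 := by rw [self_map, ee]; exact one_ne_zero
    obtain ⟨p1, q1, e1⟩ := hneg a (by simp)
    obtain ⟨p2, q2, e2⟩ := hneg b (by simp)
    obtain ⟨p3, q3, e3⟩ := hneg c (by simp)
    have o : ∀ {i j : Fin n}, i ≠ j → g.1 (e i) ⬝ᵥ g.1 (e j) = 0 := fun hij => by
      rw [dot_map g hB.two, ee_ne hij]
    have o1 : ∀ i, g.1 (e i) ⬝ᵥ g.1 (e i) = 1 := fun i => by rw [self_map, ee]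
    -- a combination of three orthonormal vectors in a plane vanishes
    have key : ∀ r1 r2 r3 : F, r1 • g.1 (e a) + r2 • g.1 (e b) + r3 • g.1 (e c) = 0 →
        r1 = 0 ∧ r2 = 0 ∧ r3 = 0 := fun r1 r2 r3 hr => by
      have k1 := congrArg (· ⬝ᵥ g.1 (e a)) hr
      have k2 := congrArg (· ⬝ᵥ g.1 (e b)) hr
      have k3 := congrArg (· ⬝ᵥ g.1 (e c)) hr
      simp only [add_dotProduct, smul_dotProduct, o hab, o hac, o hab.symm, o hac.symm, o hbc,
        o hbc.symm, o1, smul_eq_mul, mul_one, mul_zero, add_zero, zero_add, zero_dotProduct] at k1 k2 k3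
      exact ⟨k1, k2, k3⟩
    have hz : (p2 * q3 - q2 * p3) • g.1 (e a) + (p3 * q1 - q3 * p1) • g.1 (e b) +
        (p1 * q2 - q1 * p2) • g.1 (e c) = 0 := by
      rw [e1, e2, e3]
      module
    obtain ⟨-, -, h12⟩ := key _ _ _ hz
    obtain ⟨k1, k2, -⟩ := key p2 (-p1) 0 (by rw [e1, e2, zero_smul, add_zero]; linear_combination (norm := module) (0 : F) • (0 : Fin n → F) + (-h12) • y)
    obtain ⟨l1, l2, -⟩ := key q2 (-q1) 0 (by rw [e1, e2, zero_smul, add_zero]; linear_combination (norm := module) h12 • x)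
    exact hpos (by rw [e1, neg_eq_zero.1 k2, neg_eq_zero.1 l2]; simp)
  obtain ⟨m, hne, hsq, hct, hce⟩ := exists_central_involution (a := t) (b := ε) h.pair.sq hεsq
    fun g hg => hnc g⁻¹ (by rw [← hg]; group)
  have hmem : (t * ε) ^ m ∈ H := pow_mem (mul_mem h.rel (hB.eps4_mem a b c d)) m
  obtain ⟨hmono, hside⟩ := hB.commute_mono hab hac had hbc hbd hcd hmem hce
  refine ⟨_, hmem, m, rfl, hne, hsq, hct, hmono, hside, NearSpan.pow (NearSpan.mul ?_ ?_) m⟩
  · intro v
    obtain ⟨α, β, hv⟩ := h.pair.diff v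
    exact ⟨α, β, fun k _ => congrFun hv k⟩
  · intro v
    exact ⟨0, 0, fun k hk => by
      rw [eps4_coord hab hac had hbc hbd hcd hB.two, if_neg hk]; ring⟩

theorem mono_eigen {z : O F n} (h2 : (2 : F) ≠ 0) {v : Fin n → F} {ρ : F} (hv : z.1 v = ρ • v)
    {k l : Fin n} {s : F} (hk : z.1 (e k) = s • e l) : ρ * (s * v l) = v k := by
  have h := dot_map z h2 v (e k)
  rw [hv, hk, smul_dotProduct, dotProduct_smul, dot_e, dot_e] at h
  simpa using h

theorem exists_zero_at {x y : Fin n → F} (hp : Pair x y) (k : Fin n) :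
    ∃ w, InSpan x y w ∧ w ≠ 0 ∧ w k = 0 := by
  by_cases h : x k = 0
  · exact ⟨x, InSpan.left x y, fun e => hp.left (by rw [e]; simp), h⟩
  refine ⟨y k • x + (-x k) • y, ⟨_, _, rfl⟩, fun e' => ?_, by simp [mul_comm]⟩
  have := congrArg (· ⬝ᵥ y) e'
  simp only [add_dotProduct, smul_dotProduct, hp.orth, smul_eq_mul, mul_zero, zero_add,
    zero_dotProduct, mul_eq_zero, neg_eq_zero] at this
  exact this.elim h hp.right

theorem R_root_apply (h2 : (2 : F) ≠ 0) {p q : Fin n} (hpq : p ≠ q) {σ : F} (hσ : σ * σ = 1) :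
    (R (e p + (-σ) • e q) : O F n).1 (e p) = σ • e q ∧
      (R (e p + (-σ) • e q) : O F n).1 (e q) = σ • e p ∧
      ∀ m, m ≠ p → m ≠ q → (R (e p + (-σ) • e q) : O F n).1 (e m) = e m := by
  have hr := (root_norm h2 hpq (show -σ * -σ = 1 by linear_combination hσ)).1
  refine ⟨?_, ?_, fun m hmp hmq => ?_⟩
  · rw [R_apply, hr, dotProduct_add, dotProduct_smul, dot_e, dot_e, e_apply, if_pos rfl, e_apply,
      if_neg hpq.symm, smul_eq_mul, mul_zero, add_zero, mul_one, div_self h2]
    module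
  · rw [R_apply, hr, dotProduct_add, dotProduct_smul, dot_e, dot_e, e_apply, if_neg hpq, e_apply,
      if_pos rfl, smul_eq_mul, mul_one, zero_add, mul_div_cancel_left₀ _ h2]
    funext r
    simp only [Pi.sub_apply, Pi.add_apply, Pi.smul_apply, smul_eq_mul]
    linear_combination -(e q r) * hσ
  · refine R_fix ?_
    rw [dotProduct_add, dotProduct_smul, dot_e, dot_e, e_apply, if_neg (Ne.symm hmp), e_apply,
      if_neg (Ne.symm hmq), smul_zero, add_zero]

set_option maxHeartbeats 1000000 in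
/-- The negated plane contains a vector with two zero coordinates. -/
theorem Bad.exists_two_zeros (hB : Bad H) {x y : Fin n → F} (h : Inv2 H x y) :
    ∃ w i j, InSpan x y w ∧ w ≠ 0 ∧ i ≠ j ∧ w i = 0 ∧ w j = 0 := by
  classical
  have hn := hB.big
  have h2 := hB.two
  set a : Fin n := ⟨0, by omega⟩
  set b : Fin n := ⟨1, by omega⟩
  set c : Fin n := ⟨2, by omega⟩
  set d : Fin n := ⟨3, by omega⟩
  obtain ⟨z, hz, -, -, hne, hsq, hct, hmono, hside, hnear⟩ := hB.exists_z h (a := a) (b := b) (c := c)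
    (d := d) (by simp [a, b]) (by simp [a, c]) (by simp [a, d]) (by simp [b, c]) (by simp [b, d])
    (by simp [c, d])
  set S : Finset (Fin n) := {a, b, c, d}
  have zeros : ∀ w, InSpan x y w → w ≠ 0 → (supp w).card + 2 ≤ n →
      ∃ w i j, InSpan x y w ∧ w ≠ 0 ∧ i ≠ j ∧ w i = 0 ∧ w j = 0 := fun w hw hw0 hc => by
    obtain ⟨i, hi, j, hj, hij⟩ := Finset.one_lt_card.1 (show 1 < (supp w)ᶜ.card by
      rw [Finset.card_compl, Fintype.card_fin]; omega)
    rw [Finset.mem_compl, not_mem_supp] at hi hj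
    exact ⟨w, i, j, hw, hw0, hij, hi, hj⟩
  have hS4 : S.card ≤ 4 := Finset.card_le_four
  choose π s hs hπ using fun k => hmono.image k
  by_cases hplus : ∀ v, InSpan x y v → z.1 v = v
  · obtain ⟨k, hk⟩ : ∃ k, z.1 (e k) ≠ e k := by
      by_contra hc
      push Not at hc
      exact hne (O_ext fun k => by rw [hc, one_apply])
    by_cases hπk : π k = k
    · have hvk : ∀ v, InSpan x y v → v k = 0 := fun v hv => by
        have e1 := mono_eigen h2 (ρ := (1 : F)) (by rw [hplus v hv, one_smul]) (hπ k)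
        rw [hπk] at e1
        refine (mul_eq_zero.1 (show (s k - 1) * v k = 0 by linear_combination e1)).resolve_left ?_
        exact sub_ne_zero.2 fun h1 => hk (by rw [hπ, hπk, h1, one_smul])
      obtain ⟨l, -, hlk⟩ := Finset.exists_mem_ne
        (show 1 < (Finset.univ : Finset (Fin n)).card by simp; omega) k
      obtain ⟨w, hw, hw0, hwl⟩ := exists_zero_at h.pair l
      exact ⟨w, k, l, hw, hw0, hlk.symm, hvk w hw, hwl⟩
    · obtain ⟨w, hw, hw0, hwk⟩ := exists_zero_at h.pair k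
      refine ⟨w, k, π k, hw, hw0, Ne.symm hπk, hwk, ?_⟩
      have e1 := mono_eigen h2 (ρ := (1 : F)) (by rw [hplus w hw, one_smul]) (hπ k)
      rw [hwk, one_mul, mul_eq_zero] at e1
      exact e1.resolve_left fun h0 => by simpa [h0] using hs k
  push Not at hplus
  obtain ⟨v, hv, hvz⟩ := hplus
  have hzv : InSpan x y (z.1 v) := h.pair.of_neg h2 (by
    rw [← mul_apply, ← hct.eq, mul_apply, h.pair.neg hv, map_neg])
  obtain ⟨p, q, hpq⟩ := hv
  obtain ⟨p', q', hpq'⟩ := hzv
  have hwspan : InSpan x y (v - z.1 v) := ⟨p - p', q - q', by rw [hpq', hpq]; module⟩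
  have hw0 : v - z.1 v ≠ 0 := fun h0 => hvz (sub_eq_zero.1 h0).symm
  have hwfix : ∀ m, z.1 (e m) = e m → (v - z.1 v) m = 0 := fun m hm => by
    have e1 := dot_map z h2 v (e m)
    rw [hm, dot_e, dot_e] at e1
    rw [Pi.sub_apply, e1, sub_self]
  by_cases hfix : ∀ k, k ∉ S → z.1 (e k) = e k
  · refine zeros _ hwspan hw0 ?_
    have hsub : supp (v - z.1 v) ⊆ S := fun m hm => by
      by_contra hm'
      exact mem_supp.1 hm (hwfix m (hfix m hm'))
    have := Finset.card_le_card hsub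
    omega
  push Not at hfix
  have hout : ∀ k, k ∉ S → z.1 (e k) ≠ e k →
      (π k ≠ k → 9 ≤ n) → ∃ w i j, InSpan x y w ∧ w ≠ 0 ∧ i ≠ j ∧ w i = 0 ∧ w j = 0 := by
    intro k hk hkz hsmall
    obtain ⟨α, β, hd⟩ := hnear (e k)
    have hkS' : π k ∉ S := fun h' => hk ((hside k (π k) (by
      rw [hπ, Pi.smul_apply, e_apply, if_pos rfl, smul_eq_mul, mul_one]
      exact fun h0 => by simpa [h0] using hs k)).2 h')
    refine zeros _ ⟨α, β, rfl⟩ (fun h0 => ?_) ?_
    · have := hd k hk
      rw [show α * x k + β * y k = 0 by simpa using congrFun h0 k, hπ, e_apply, if_pos rfl,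
        Pi.smul_apply, e_apply, sub_eq_zero] at this
      split_ifs at this with h'
      · exact hkz (by rw [hπ, ← h', show s k = 1 by simpa using this.symm, one_smul])
      · simp at this
    · have hsub : supp (α • x + β • y) ⊆ S ∪ {k, π k} := fun m hm => by
        by_contra hm'
        simp only [Finset.mem_union, Finset.mem_insert, Finset.mem_singleton, not_or] at hm'
        have := hd m hm'.1
        rw [hπ, Pi.smul_apply, e_apply, e_apply, if_neg hm'.2.1, if_neg hm'.2.2, smul_zero, sub_zero]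
          at this
        exact mem_supp.1 hm (by simpa using this.symm)
      have := Finset.card_le_card hsub
      have := Finset.card_union_le S {k, π k}
      by_cases hkk : π k = k
      · have h1 : ({k, π k} : Finset (Fin n)).card = 1 := by rw [hkk]; simp
        omega
      · have := hsmall hkk
        have := Finset.card_le_two (a := k) (b := π k)
        omega
  obtain ⟨k, hk, hkz⟩ := hfix
  rcases hB.alt with h9 | h7
  · exact hout k hk hkz fun _ => h9
  by_cases hkk : π k = k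
  · exact hout k hk hkz fun h' => absurd hkk h'
  have hπ2 : ∀ m, π (π m) = m ∧ s (π m) = s m := fun m => by
    have e1 : z.1 (z.1 (e m)) = e m := by rw [← mul_apply, hsq, one_apply]
    rw [hπ, map_smul, hπ, smul_smul] at e1
    have hm : π (π m) = m := by
      by_contra hne'
      have := congrFun e1 m
      simp [e_apply, Ne.symm hne'] at this
    refine ⟨hm, ?_⟩
    rw [hm] at e1
    have := congrFun e1 m
    simp [e_apply] at this
    linear_combination s m * this - s (π m) * hs m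
  have hπS : ∀ m, m ∈ S ↔ π m ∈ S := fun m => hside m (π m) (by
    rw [hπ, Pi.smul_apply, e_apply, if_pos rfl, smul_eq_mul, mul_one]
    exact fun h' => by simpa [h'] using hs m)
  obtain ⟨m, hm, hmk, hmk'⟩ : ∃ m, m ∉ S ∧ m ≠ k ∧ m ≠ π k := by
    obtain ⟨m, -, hm⟩ := Finset.exists_mem_notMem_of_card_lt_card
      (show (S ∪ {k, π k}).card < (Finset.univ : Finset (Fin n)).card by
        have := Finset.card_union_le S {k, π k}
        have := Finset.card_le_two (a := k) (b := π k)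
        rw [Finset.card_univ, Fintype.card_fin]
        omega)
    simp only [Finset.mem_union, Finset.mem_insert, Finset.mem_singleton, not_or] at hm
    exact ⟨m, hm.1, hm.2.1, hm.2.2⟩
  have hcard : (insert m (S ∪ {k, π k})).card = n := by
    have hS' : S.card = 4 := by simp [S, a, b, c, d]
    rw [Finset.card_insert_of_notMem (by simp [hm, hmk, hmk']), Finset.card_union_of_disjoint (by
        simp [Finset.disjoint_insert_right, hk, (hπS k).not.1 hk]),
      Finset.card_pair (Ne.symm hkk), hS']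
    omega
  have hall : ∀ r, r ∈ S ∨ r = k ∨ r = π k ∨ r = m := fun r => by
    have : r ∈ insert m (S ∪ {k, π k}) := by
      rw [Finset.eq_univ_of_card (insert m (S ∪ {k, π k})) (by rw [hcard, Fintype.card_fin])]
      exact Finset.mem_univ r
    simp only [Finset.mem_insert, Finset.mem_union, Finset.mem_singleton] at this
    rcases this with h' | h' | h' | h'
    exacts [Or.inr (Or.inr (Or.inr h')), Or.inl h', Or.inr (Or.inl h'), Or.inr (Or.inr (Or.inl h'))]
  have hmm : π m = m := by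
    rcases hall (π m) with h' | h' | h' | h'
    · exact absurd ((hπS m).2 h') hm
    · exact absurd (by rw [← h', (hπ2 m).1]) hmk'
    · exact absurd (by rw [← (hπ2 k).1, ← h', (hπ2 m).1]) hmk
    · exact h'
  by_cases hmz : z.1 (e m) = e m
  swap
  · exact hout m hm hmz fun h' => absurd hmm h'
  by_cases hpfix : ∃ p ∈ S, z.1 (e p) = e p
  · obtain ⟨p, hp, hpz⟩ := hpfix
    exact ⟨_, m, p, hwspan, hw0, fun e' => hm (e' ▸ hp), hwfix m hmz, hwfix p hpz⟩
  push Not at hpfix
  by_cases hPm : ∀ v', InSpan x y v' → v' m = 0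
  · obtain ⟨l, -, hlm⟩ := Finset.exists_mem_ne
      (show 1 < (Finset.univ : Finset (Fin n)).card by simp; omega) m
    obtain ⟨w, hw, hw0', hwl⟩ := exists_zero_at h.pair l
    exact ⟨w, m, l, hw, hw0', hlm.symm, hPm w hw, hwl⟩
  push Not at hPm
  obtain ⟨v', hv', hv'm⟩ := hPm
  have hzv' : InSpan x y (z.1 v') := h.pair.of_neg h2 (by
    rw [← mul_apply, ← hct.eq, mul_apply, h.pair.neg hv', map_neg])
  set wp := v' + z.1 v' with hwp
  have hwps : InSpan x y wp := by
    obtain ⟨p1, q1, e1⟩ := hv'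
    obtain ⟨p2, q2, e2⟩ := hzv'
    exact ⟨p1 + p2, q1 + q2, by rw [hwp, e2, e1]; module⟩
  have hwpz : z.1 wp = (1 : F) • wp := by
    rw [one_smul, hwp, map_add, show z.1 (z.1 v') = v' by rw [← mul_apply, hsq, one_apply], add_comm]
  have hwp0 : wp ≠ 0 := fun h0 => hv'm (by
    have e1 := dot_map z h2 v' (e m)
    rw [hmz, dot_e, dot_e] at e1
    have e2 := congrFun h0 m
    rw [hwp, Pi.add_apply, e1, ← two_mul, Pi.zero_apply, mul_eq_zero] at e2
    exact e2.resolve_left h2)
  have hneg : ∀ p ∈ S, π p = p → wp p = 0 := fun p hp hpp => by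
    have e1 := mono_eigen h2 hwpz (hπ p)
    rw [hpp] at e1
    refine (mul_eq_zero.1 (show (s p - 1) * wp p = 0 by linear_combination e1)).resolve_left ?_
    exact sub_ne_zero.2 fun h1 => hpfix p hp (by rw [hπ, hpp, h1, one_smul])
  by_cases htwo : ∃ p ∈ S, ∃ q ∈ S, p ≠ q ∧ π p = p ∧ π q = q
  · obtain ⟨p, hp, q, hq, hpq', hpp, hqq⟩ := htwo
    exact ⟨wp, p, q, hwps, hwp0, hpq', hneg p hp hpp, hneg q hq hqq⟩
  push Not at htwo
  exfalso
  have hS' : S.card = 4 := by simp [S, a, b, c, d]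
  obtain ⟨p₁, hp₁, hq₁⟩ : ∃ p ∈ S, π p ≠ p := by
    obtain ⟨p, hp, q, hq, hpq'⟩ := Finset.one_lt_card.1 (show 1 < S.card by omega)
    by_cases hpp : π p = p
    · exact ⟨q, hq, htwo p hp q hq hpq' hpp⟩
    · exact ⟨p, hp, hpp⟩
  obtain ⟨r₁, r₂, hr, hSeq⟩ := Finset.card_eq_two.1 (show ((S.erase p₁).erase (π p₁)).card = 2 by
    rw [Finset.card_erase_of_mem (Finset.mem_erase.2 ⟨hq₁, (hπS p₁).1 hp₁⟩),
      Finset.card_erase_of_mem hp₁, hS'])
  have hr' : ∀ r, r = r₁ ∨ r = r₂ ↔ r ∈ S ∧ r ≠ p₁ ∧ r ≠ π p₁ := fun r => by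
    have : r ∈ ({r₁, r₂} : Finset (Fin n)) ↔ r ∈ (S.erase p₁).erase (π p₁) := by rw [hSeq]
    simp only [Finset.mem_insert, Finset.mem_singleton, Finset.mem_erase] at this
    exact ⟨fun h' => ⟨(this.1 h').2.2, (this.1 h').2.1, (this.1 h').1⟩,
      fun h' => this.2 ⟨h'.2.2, h'.2.1, h'.1⟩⟩
  have hpair : ∀ r, (r = r₁ ∨ r = r₂) → π r = r₁ ∨ π r = r₂ := fun r h' => by
    obtain ⟨h3, h4, h5⟩ := (hr' r).1 h'
    exact (hr' _).2 ⟨(hπS r).1 h3, fun e' => h5 (by rw [← e', (hπ2 r).1]),
      fun e' => h4 (by rw [← (hπ2 r).1, e', (hπ2 p₁).1])⟩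
  have hr12 : π r₁ = r₂ := by
    refine (hpair r₁ (Or.inl rfl)).resolve_left fun h' => ?_
    refine htwo r₁ ((hr' r₁).1 (Or.inl rfl)).1 r₂ ((hr' r₂).1 (Or.inr rfl)).1 hr h' ?_
    exact (hpair r₂ (Or.inr rfl)).resolve_left fun e' => hr (by rw [← (hπ2 r₂).1, e', h'])
  set d₁ : Fin n → F := e p₁ + (-s p₁) • e (π p₁)
  set d₂ : Fin n → F := e r₁ + (-s r₁) • e r₂
  set d₃ : Fin n → F := e k + (-s k) • e (π k)
  obtain ⟨A1, A2, A3⟩ := R_root_apply (n := n) h2 hq₁.symm (hs p₁)
  obtain ⟨B1, B2, B3⟩ := R_root_apply (n := n) h2 hr (hs r₁)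
  obtain ⟨C1, C2, C3⟩ := R_root_apply (n := n) h2 (Ne.symm hkk) (hs k)
  have hkS' : π k ∉ S := (hπS k).not.1 hk
  have hne' : ∀ r, r ∈ S → r ≠ k ∧ r ≠ π k := fun r hrS =>
    ⟨fun e' => hk (e' ▸ hrS), fun e' => hkS' (e' ▸ hrS)⟩
  have h12 : ∀ r, r = r₁ ∨ r = r₂ → r ∈ S ∧ r ≠ p₁ ∧ r ≠ π p₁ := fun r => (hr' r).1
  have hz3 : z = R d₁ * R d₂ * R d₃ := O_ext fun r => by
    simp only [mul_apply]
    rcases hall r with hrS | rfl | rfl | rfl
    · rw [C3 r (hne' r hrS).1 (hne' r hrS).2]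
      by_cases h1 : r = p₁
      · subst h1
        rw [B3 r (fun e' => (h12 _ (Or.inl rfl)).2.1 e'.symm) (fun e' => (h12 _ (Or.inr rfl)).2.1 e'.symm),
          A1, hπ]
      by_cases h1' : r = π p₁
      · subst h1'
        rw [B3 _ (fun e' => (h12 _ (Or.inl rfl)).2.2 e'.symm) (fun e' => (h12 _ (Or.inr rfl)).2.2 e'.symm),
          A2, hπ, (hπ2 p₁).1, (hπ2 p₁).2]
      rcases (hr' r).2 ⟨hrS, h1, h1'⟩ with rfl | rfl
      · rw [B1, map_smul, A3 _ (h12 _ (Or.inr rfl)).2.1 (h12 _ (Or.inr rfl)).2.2, hπ, hr12]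
      · rw [B2, map_smul, A3 _ (h12 _ (Or.inl rfl)).2.1 (h12 _ (Or.inl rfl)).2.2, hπ, ← hr12,
          (hπ2 r₁).1, (hπ2 r₁).2]
    · rw [C1, map_smul, map_smul, B3 _ (hne' _ (h12 _ (Or.inl rfl)).1).2.symm
        (hne' _ (h12 _ (Or.inr rfl)).1).2.symm, A3 _ (hne' _ hp₁).2.symm
        (hne' _ ((hπS p₁).1 hp₁)).2.symm, hπ]
    · rw [C2, map_smul, map_smul, B3 _ (hne' _ (h12 _ (Or.inl rfl)).1).1.symm
        (hne' _ (h12 _ (Or.inr rfl)).1).1.symm, A3 _ (hne' _ hp₁).1.symm
        (hne' _ ((hπS p₁).1 hp₁)).1.symm, hπ, (hπ2 k).1, (hπ2 k).2]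
    · rw [C3 r hmk hmk', B3 r (fun e' => hm (e' ▸ (h12 _ (Or.inl rfl)).1))
        (fun e' => hm (e' ▸ (h12 _ (Or.inr rfl)).1)), A3 r (fun e' => hm (e' ▸ hp₁))
        (fun e' => hm (e' ▸ (hπS p₁).1 hp₁)), hmz]
  refine single_not_mem h2 (x := d₃) ?_ (hB.le ?_)
  · rw [(root_norm h2 (Ne.symm hkk) (show -s k * -s k = 1 by linear_combination hs k)).1]
    exact h2
  · have h12' : R d₁ * R d₂ ∈ H :=
      hB.rel_root hq₁.symm hr (by linear_combination hs p₁) (by linear_combination hs r₁)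
    have := mul_mem (inv_mem h12') hz
    rwa [hz3, inv_mul_cancel_left] at this

end CfsgLib.Geo.OFrame
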