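import Cfsg.Agent.Geo.OrthFrame.Swaps

/-!
The field of three elements: one small non-root vector related to the frame gives all unit vectors.
-/

set_option autoImplicit false
set_option linter.unusedSectionVars false

namespace CfsgLib.Geo.OFrame

open QuadraticMap CfsgLib.Forms CfsgLib.Quad Matrix

variable {F : Type*} [Field F] [Finite F] [DecidableEq F] {n : ℕ} {H : Subgroup (O F n)}
variable [CharP F 3]

theorem three_cases (hcard : Nat.card F = 3) (x : F) : x = 0 ∨ x = 1 ∨ x = -1 := by
  by_cases hx : x = 0
  · exact Or.inl hx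
  right
  have : Fintype F := Fintype.ofFinite F
  have h := FiniteField.pow_card_sub_one_eq_one x hx
  rw [← Nat.card_eq_fintype_card, hcard] at h
  exact mul_self_eq_one_iff.1 (by linear_combination h)

theorem three_eq_zero : (3 : F) = 0 := by exact_mod_cast CharP.cast_eq_zero F 3

theorem sq_one_of_ne (hcard : Nat.card F = 3) {x : F} (hx : x ≠ 0) : x * x = 1 := by
  rcases three_cases hcard x with rfl | rfl | rfl
  · exact absurd rfl hx
  · exact one_mul 1
  · ring

/-- The indicator vector. -/
def ind (S : Finset (Fin n)) : Fin n → F := fun t => if t ∈ S then 1 else 0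

theorem supp_ind (S : Finset (Fin n)) : supp (ind (F := F) S) = S := by
  ext t; simp [mem_supp, ind]

theorem Over.inV_of_supp (hH : Over H) (hcard : Nat.card F = 3) {u w : Fin n → F}
    (hs : supp u = supp w) (hu : InV H u) : InV H w := by
  convert hH.inV_signs hu (Finset.univ.filter fun t => u t ≠ w t) using 1
  funext t
  simp only [Finset.mem_filter, Finset.mem_univ, true_and]
  by_cases h : u t = w t
  · rw [if_neg (not_not.2 h), h]
  rw [if_pos h]
  have h0 : u t ≠ 0 ↔ w t ≠ 0 := by rw [← mem_supp, ← mem_supp, hs]
  rcases three_cases hcard (u t) with hu' | hu' | hu' <;>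
    rcases three_cases hcard (w t) with hw' | hw' | hw' <;>
      rw [hu', hw'] at h h0 <;> rw [hu', hw'] <;> simp_all

theorem Over.inV_card (hH : Over H) (hn : 7 ≤ n) (hcard : Nat.card F = 3) :
    ∀ (d : ℕ) (u w : Fin n → F), (supp w \ supp u).card = d → (supp u).card = (supp w).card →
      InV H u → InV H w
  | 0, u, w, hd, hc, hu => by
    refine hH.inV_of_supp hcard (Finset.eq_of_subset_of_card_le ?_ hc.le).symm hu
    exact Finset.sdiff_eq_empty_iff_subset.1 (Finset.card_eq_zero.1 hd)
  | d + 1, u, w, hd, hc, hu => by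
    obtain ⟨b, hb⟩ := Finset.card_pos.1 (show 0 < (supp w \ supp u).card by omega)
    have h' : (supp u \ supp w).card = d + 1 := by
      have e1 := Finset.card_sdiff_add_card_inter (supp w) (supp u)
      have e2 := Finset.card_sdiff_add_card_inter (supp u) (supp w)
      rw [Finset.inter_comm] at e2
      omega
    obtain ⟨a, ha⟩ := Finset.card_pos.1 (show 0 < (supp u \ supp w).card by omega)
    rw [Finset.mem_sdiff] at ha hb
    have hab : a ≠ b := fun h => ha.2 (h ▸ hb.1)
    obtain ⟨p, q, hpq, hpa, hpb, hqa, hqb, hiff⟩ : ∃ p q, p ≠ q ∧ p ≠ a ∧ p ≠ b ∧ q ≠ a ∧ q ≠ b ∧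
        (p ∈ supp u ↔ q ∈ supp u) := by
      set A := (supp u).erase a
      set B := ((supp u)ᶜ).erase b
      have hA : A.card + B.card + 2 ≥ n := by
        have e1 : (supp u).card - 1 ≤ A.card := Finset.pred_card_le_card_erase
        have e2 : (supp u)ᶜ.card - 1 ≤ B.card := Finset.pred_card_le_card_erase
        have e3 := Finset.card_compl (supp u)
        have e4 := Finset.card_le_univ (supp u)
        rw [Fintype.card_fin] at e3 e4
        omega
      rcases Nat.lt_or_ge 1 A.card with h | h
      · obtain ⟨p, hp, q, hq, hpq⟩ := Finset.one_lt_card.1 h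
        simp only [A, Finset.mem_erase] at hp hq
        exact ⟨p, q, hpq, hp.1, fun e => hb.2 (e ▸ hp.2), hq.1, fun e => hb.2 (e ▸ hq.2),
          iff_of_true hp.2 hq.2⟩
      · obtain ⟨p, hp, q, hq, hpq⟩ := Finset.one_lt_card.1 (show 1 < B.card by omega)
        simp only [B, Finset.mem_erase, Finset.mem_compl] at hp hq
        exact ⟨p, q, hpq, fun e => hp.2 (e ▸ ha.1), hp.1, fun e => hq.2 (e ▸ ha.1), hq.1,
          iff_of_false hp.2 hq.2⟩
    set σ := Equiv.swap a b * Equiv.swap p q
    set u' := fun t => u (σ t) with hu'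
    have hu'V : InV H u' := hH.inV_perm (hH.permutes_swaps hab hpq) hu
    have hsupp : supp u' = insert b ((supp u).erase a) := by
      ext t
      simp only [Finset.mem_insert, Finset.mem_erase, mem_supp, hu', σ, Equiv.Perm.mul_apply]
      rcases eq_or_ne t b with rfl | htb
      · rw [Equiv.swap_apply_of_ne_of_ne hpb.symm hqb.symm, Equiv.swap_apply_right]
        simpa using mem_supp.1 ha.1
      rcases eq_or_ne t a with rfl | hta
      · rw [Equiv.swap_apply_of_ne_of_ne hpa.symm hqa.symm, Equiv.swap_apply_left]
        simp [not_mem_supp.1 hb.2, hab]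
      simp only [mem_supp] at hiff
      rcases eq_or_ne t p with rfl | htp
      · rw [Equiv.swap_apply_left, Equiv.swap_apply_of_ne_of_ne hqa hqb]
        simp [hta, htb, hiff]
      rcases eq_or_ne t q with rfl | htq
      · rw [Equiv.swap_apply_right, Equiv.swap_apply_of_ne_of_ne hpa hpb]
        simp [hta, htb, hiff]
      rw [Equiv.swap_apply_of_ne_of_ne htp htq, Equiv.swap_apply_of_ne_of_ne hta htb]
      simp [hta, htb]
    refine Over.inV_card hH hn hcard d u' w ?_ ?_ hu'V
    · have : supp w \ supp u' = (supp w \ supp u).erase b := by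
        ext t
        simp only [hsupp, Finset.mem_sdiff, Finset.mem_insert, Finset.mem_erase, not_or, not_and]
        constructor
        · rintro ⟨h1, h2, h3⟩
          exact ⟨h2, h1, h3 fun e => ha.2 (e ▸ h1)⟩
        · rintro ⟨h1, h2, h3⟩
          exact ⟨h2, h1, fun _ => h3⟩
      rw [this, Finset.card_erase_of_mem (Finset.mem_sdiff.2 hb), hd]
      rfl
    · rw [hsupp, Finset.card_insert_of_notMem (fun h => hb.2 (Finset.mem_of_mem_erase h)),
        Finset.card_erase_of_mem ha.1, ← hc]
      have := Finset.card_pos.2 ⟨a, ha.1⟩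
      omega

theorem card_unit (hcard : Nat.card F = 3) {w : Fin n → F} (hw : w ⬝ᵥ w = 1) :
    (supp w).card % 3 = 1 := by
  have h : ((supp w).card : F) = ((1 : ℕ) : F) := by
    rw [dotProduct, ← Finset.sum_subset (Finset.subset_univ (supp w)) (fun j _ hj => by
      rw [not_mem_supp.1 hj, mul_zero]), Finset.sum_congr rfl fun j hj => sq_one_of_ne hcard (mem_supp.1 hj),
      Finset.sum_const, nsmul_one] at hw
    rw [hw, Nat.cast_one]
  rw [CharP.natCast_eq_natCast F 3] at h
  exact h

/-- Characteristic three: every unit vector is related to the frame. -/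
theorem Over.all_units_of_three (hH : Over H) (hn : 7 ≤ n) (hcard : Nat.card F = 3) {v : Fin n → F}
    (hv : InV H v) (hnr : ¬ Root v) : ∀ w : Fin n → F, w ⬝ᵥ w = 1 → InV H w := by
  classical
  have h30 : (3 : F) = 0 := three_eq_zero
  have hs4 : 4 ≤ (supp v).card := by
    have h1 := card_unit hcard hv.1
    by_contra h
    exact hnr (Or.inl (by omega))
  -- descend to weight four
  obtain ⟨v₄, hv₄, hv₄c⟩ : ∃ u, InV H u ∧ (supp u).card = 4 := by
    obtain ⟨T, hT, hTc⟩ := Finset.exists_subset_card_eq hs4
    set v' := fun t => if t ∈ T then -v t else v t with hv'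
    have hv'V : InV H v' := hH.inV_signs hv T
    refine ⟨(R v : O F n).1 v', hH.inV_refl hv'V hv, ?_⟩
    have hdot : v' ⬝ᵥ v = -1 := by
      have hsum : (v' - v) ⬝ᵥ v = -8 := by
        rw [dotProduct, ← Finset.sum_subset (Finset.subset_univ T) (fun j _ hj => by
          rw [Pi.sub_apply, hv']; simp [hj]), Finset.sum_congr rfl (g := fun _ => (-2 : F)) fun j hj => by
            rw [Pi.sub_apply, hv']
            simp only [if_pos hj]
            linear_combination -2 * sq_one_of_ne hcard (mem_supp.1 (hT hj)),
          Finset.sum_const, hTc, nsmul_eq_mul]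
        push_cast; ring
      rw [sub_dotProduct, hv.1] at hsum
      linear_combination hsum - 2 * h30
    have : supp ((R v : O F n).1 v') = T := by
      ext t
      rw [mem_supp, R_apply, hdot, hv.1, Pi.sub_apply, Pi.smul_apply, smul_eq_mul, div_one, hv']
      by_cases ht : t ∈ T
      · simp only [ht, if_true, iff_true]
        intro h0
        exact mem_supp.1 (hT ht) (by linear_combination h0)
      · simp only [ht, if_false, iff_false, not_not]
        linear_combination (v t) * h30
    rw [this, hTc]
  -- every weight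
  suffices ∀ s : ℕ, ∀ w : Fin n → F, (supp w).card = s → w ⬝ᵥ w = 1 → InV H w from fun w => this _ w rfl
  intro s
  induction s using Nat.strong_induction_on with
  | _ s ih =>
    intro w hws hw
    have hmod := card_unit hcard hw
    rw [hws] at hmod
    rcases Nat.lt_or_ge s 4 with hs | hs
    · obtain ⟨a, ha⟩ := Finset.card_eq_one.1 (show (supp w).card = 1 by omega)
      exact hH.inV_of_supp hcard (by rw [supp_e, ha]) (hH.inV_e a)
    · obtain ⟨T, hT, hTc⟩ := Finset.exists_subset_card_eq (show 3 ≤ (supp w).card by omega)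
      obtain ⟨a, ha⟩ := Finset.card_pos.1 (show 0 < (supp w \ T).card by
        rw [Finset.card_sdiff_of_subset hT]; omega)
      rw [Finset.mem_sdiff] at ha
      set u : Fin n → F := ind (supp w \ T) with hu
      set x : Fin n → F := ind (insert a T) with hx
      have hu1 : u ⬝ᵥ u = 1 := by
        rw [dotProduct, ← Finset.sum_subset (Finset.subset_univ (supp w \ T)) (fun j _ hj => by
          simp [hu, ind, hj]), Finset.sum_congr rfl (g := fun _ => (1 : F)) fun j hj => by
            simp [hu, ind, Finset.mem_sdiff.1 hj],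
          Finset.sum_const, Finset.card_sdiff_of_subset hT, hTc, hws, nsmul_one]
        rw [show (1 : F) = ((1 : ℕ) : F) from Nat.cast_one.symm, CharP.natCast_eq_natCast F 3]
        show (s - 3) % 3 = 1 % 3
        omega
      have huV : InV H u := ih (s - 3) (by omega) u (by
        rw [hu, supp_ind, Finset.card_sdiff_of_subset hT, hTc, hws]) hu1
      have hx1 : x ⬝ᵥ x = 1 := by
        rw [dotProduct, ← Finset.sum_subset (Finset.subset_univ (insert a T)) (fun j _ hj => by
          simp only [hx, ind, if_neg hj, mul_zero]), Finset.sum_congr rfl (g := fun _ => (1 : F))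
            fun j hj => by simp only [hx, ind, if_pos hj, mul_one],
          Finset.sum_const, Finset.card_insert_of_notMem ha.2, hTc, nsmul_one]
        push_cast
        linear_combination h30
      have hxV : InV H x := hH.inV_card hn hcard _ v₄ x rfl (by
        rw [hv₄c, hx, supp_ind, Finset.card_insert_of_notMem ha.2, hTc]) hv₄
      have hux : u ⬝ᵥ x = 1 := by
        rw [dotProduct, Finset.sum_eq_single a]
        · simp [hu, hx, ind, ha.1, ha.2]
        · intro j _ hj
          by_cases hjT : j ∈ T <;> simp [hu, hx, ind, hjT, hj]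
        · simp
      refine hH.inV_of_supp hcard ?_ (hH.inV_refl hxV huV)
      ext t
      rw [R_apply, hu1, dotProduct_comm x u, hux, mem_supp, mem_supp, Pi.sub_apply, Pi.smul_apply,
        smul_eq_mul, div_one, mul_one]
      by_cases htT : t ∈ T
      · have := mem_supp.1 (hT htT)
        simp [hu, hx, ind, htT, this]
      · rcases eq_or_ne t a with rfl | hta
        · have h21 : (1 : F) - 2 ≠ 0 := fun h0 => one_ne_zero (show (1 : F) = 0 by linear_combination -h0)
          simp [hu, hx, ind, ha.2, ha.1, mem_supp.1 ha.1, h21]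
        · by_cases htw : w t = 0 <;> simp [hu, hx, ind, htT, hta, htw, mem_supp, hH.two]

end CfsgLib.Geo.OFrame
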