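import Cfsg.Agent.Geo.OrthFrame.Units
import Cfsg.Agent.Geo.OrthFrame.Three
import Cfsg.Agent.Quad.SimpleOmega

/-!
The monomial subgroup of the commutator subgroup of the orthogonal group over a prime field is maximal.
-/

set_option autoImplicit false
set_option linter.unusedSectionVars false

namespace CfsgLib.Geo.OFrame

open QuadraticMap CfsgLib.Forms CfsgLib.Quad Matrix
open scoped commutatorElement

variable {F : Type*} [Field F] [Finite F] [DecidableEq F] {n : ℕ} {H : Subgroup (O F n)}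

theorem Over.eq_commutator_of_units (hH : Over H) (hn : 7 ≤ n)
    (hall : ∀ w : Fin n → F, w ⬝ᵥ w = 1 → InV H w) : H = commutator (O F n) := by
  have hQ := nondeg (F := F) (n := n) hH.two
  have hfr : 5 ≤ Module.finrank F (Fin n → F) := by rw [Module.finrank_fin_fun]; omega
  set S : Set (O F n) := {g | ∃ u w : Fin n → F, u ⬝ᵥ u = 1 ∧ w ⬝ᵥ w = 1 ∧ g = R u * R w} with hS
  set P := Subgroup.closure S with hP
  have hPH : P ≤ H := (Subgroup.closure_le _).2 fun g ⟨u, w, hu, hw, hg⟩ =>
    hg ▸ ((hall u hu).2 ⟨0, by omega⟩).trans ((hall w hw).2 ⟨0, by omega⟩).symm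
  refine le_antisymm hH.le (le_trans ?_ hPH)
  have hnorm : P.Normal := by
    refine ⟨fun x hx g => ?_⟩
    induction hx using Subgroup.closure_induction with
    | mem y hy =>
      obtain ⟨u, w, hu, hw, rfl⟩ := hy
      refine Subgroup.subset_closure ⟨g.1 u, g.1 w, by rw [self_map, hu], by rw [self_map, hw], ?_⟩
      rw [← R_conj, ← R_conj]
      group
    | one => rw [mul_one, mul_inv_cancel]; exact one_mem _
    | mul y z _ _ hy hz =>
      rw [show g * (y * z) * g⁻¹ = g * y * g⁻¹ * (g * z * g⁻¹) by group]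
      exact mul_mem hy hz
    | inv y _ hy =>
      rw [show g * y⁻¹ * g⁻¹ = (g * y * g⁻¹)⁻¹ by group]
      exact inv_mem hy
  set N := P.subgroupOf (commutator (O F n))
  have hNn : N.Normal := hnorm.subgroupOf _
  set q := QuotientGroup.mk' (Subgroup.center ↥(commutator (O F n)))
  have hmap : (N.map q).Normal := hNn.map _ (QuotientGroup.mk'_surjective _)
  intro x hx
  have : (⟨x, hx⟩ : commutator (O F n)) ∈ N := by
    rcases (isSimpleGroup_omega hQ hfr).eq_bot_or_eq_top_of_normal _ hmap with hbot | htop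
    · exfalso
      obtain ⟨a, b, c, hab, hac, hbc⟩ : ∃ a b c : Fin n, a ≠ b ∧ a ≠ c ∧ b ≠ c :=
        ⟨⟨0, by omega⟩, ⟨1, by omega⟩, ⟨2, by omega⟩, by simp, by simp, by simp⟩
      have hmem : R (e a) * R (e b) ∈ commutator (O F n) := hH.le (hH.rel_e a b)
      have hN : (⟨_, hmem⟩ : commutator (O F n)) ∈ N :=
        Subgroup.subset_closure ⟨e a, e b, ee a, ee b, rfl⟩
      have := Subgroup.mem_map_of_mem q hN
      rw [hbot, Subgroup.mem_bot, QuotientGroup.mk'_apply, QuotientGroup.eq_one_iff,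
        center_iff hQ hfr] at this
      obtain ⟨t, -, ht⟩ := this
      have h1 : (R (e a) * R (e b) : O F n).1 (e a) = -e a := by
        rw [mul_apply, R_fix (ee_ne hab), R_neg (by rw [ee]; exact one_ne_zero)]
      have h2 : (R (e a) * R (e b) : O F n).1 (e c) = e c := by
        rw [mul_apply, R_fix (ee_ne hbc.symm), R_fix (ee_ne hac.symm)]
      have e1 := congrFun ((ht (e a)).symm.trans h1) a
      have e2 := congrFun ((ht (e c)).symm.trans h2) c
      simp [e_apply] at e1 e2
      exact hH.two (by linear_combination e1 - e2)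
    · have hsup : N ⊔ Subgroup.center ↥(commutator (O F n)) = ⊤ := by
        rw [← Subgroup.map_eq_range_iff.trans codisjoint_iff |>.1 (htop.trans
          (MonoidHom.range_eq_top.2 (QuotientGroup.mk'_surjective _)).symm), QuotientGroup.ker_mk']
      refine (?_ : (⊤ : Subgroup ↥(commutator (O F n))) ≤ N) trivial
      refine le_trans (commutator_commutator_eq_top hQ hfr).ge ?_
      rw [commutator_def ↥(commutator (O F n)), Subgroup.commutator_le]
      intro y _ z _
      have hy : y ∈ N ⊔ Subgroup.center ↥(commutator (O F n)) := hsup ▸ Subgroup.mem_top y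
      have hz : z ∈ N ⊔ Subgroup.center ↥(commutator (O F n)) := hsup ▸ Subgroup.mem_top z
      rw [Subgroup.mem_sup_of_normal_left] at hy hz
      obtain ⟨a, ha, c, hc, rfl⟩ := hy
      obtain ⟨b, hb, d, hd, rfl⟩ := hz
      rw [Subgroup.mem_center_iff] at hc hd
      have hcomm : ⁅a * c, b * d⁆ = ⁅a, b⁆ := by
        simp only [commutatorElement_def, _root_.mul_inv_rev]
        calc a * c * (b * d) * (c⁻¹ * a⁻¹) * (d⁻¹ * b⁻¹)
            = a * (c * (b * d)) * c⁻¹ * a⁻¹ * (d⁻¹ * b⁻¹) := by group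
          _ = a * b * d * a⁻¹ * d⁻¹ * b⁻¹ := by rw [← hc (b * d)]; group
          _ = a * b * (d * a⁻¹) * d⁻¹ * b⁻¹ := by group
          _ = a * b * a⁻¹ * b⁻¹ := by rw [← hd a⁻¹]; group
      rw [hcomm, commutatorElement_def]
      exact mul_mem (mul_mem (mul_mem ha hb) (inv_mem ha)) (inv_mem hb)
  exact this

theorem not_sq_neg_one_of_three (p : ℕ) [Fact p.Prime] [CharP F p] (hcard : Nat.card F = p)
    (h : (3 : F) = 0) (x : F) : x * x ≠ -1 := by
  have hp : p.Prime := Fact.out
  have h' : ((3 : ℕ) : F) = 0 := by exact_mod_cast h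
  rw [CharP.cast_eq_zero_iff F p] at h'
  obtain rfl : p = 3 := (Nat.prime_three.eq_one_or_self_of_dvd _ h').resolve_left hp.one_lt.ne'
  intro hx
  rcases three_cases hcard x with rfl | rfl | rfl
  · exact one_ne_zero (show (1 : F) = 0 by linear_combination hx)
  · exact one_ne_zero (show (1 : F) = 0 by linear_combination h - hx)
  · exact one_ne_zero (show (1 : F) = 0 by linear_combination h - hx)

/-- A proper overgroup of the monomial part consists of monomial elements. -/
theorem frame_key (p : ℕ) [Fact p.Prime] [CharP F p] (hcard : Nat.card F = p) (hH : Over H)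
    (hn : 9 ≤ n ∨ n = 7) {g : O F n} (hg : g ∈ H) (hgm : ¬ Mono g) : H = commutator (O F n) := by
  obtain ⟨v, hv, hvs, hnr⟩ := hH.exists_small hn (fun h => not_sq_neg_one_of_three p hcard h) hg hgm
  have hn7 : 7 ≤ n := by omega
  refine hH.eq_commutator_of_units hn7 ?_
  have hp : p.Prime := Fact.out
  by_cases h3 : p = 3
  · subst h3
    exact hH.all_units_of_three hn7 hcard hv hnr
  · have hp2 : p ≠ 2 := by
      rintro rfl
      exact hH.two (by rw [← Nat.cast_two, CharP.cast_eq_zero F 2])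
    have hp5 : 5 ≤ p := by
      have h2 := hp.two_le
      by_contra h
      interval_cases p
      · exact hp2 rfl
      · exact h3 rfl
      · exact absurd hp (by decide)
    exact hH.all_units_of_five_le p hn7 hcard hp5 hv hvs hnr

/-- The commutator subgroup is not monomial. -/
theorem exists_not_mono (p : ℕ) [Fact p.Prime] [CharP F p] (h2 : (2 : F) ≠ 0) (hn : 7 ≤ n) :
    ∃ g ∈ commutator (O F n), ¬ Mono g := by
  obtain ⟨a, b, c, d, hab, hac, had, hbc, hbd, hcd⟩ :
      ∃ a b c d : Fin n, a ≠ b ∧ a ≠ c ∧ a ≠ d ∧ b ≠ c ∧ b ≠ d ∧ c ≠ d :=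
    ⟨⟨0, by omega⟩, ⟨1, by omega⟩, ⟨2, by omega⟩, ⟨3, by omega⟩, by simp, by simp, by simp, by simp,
      by simp, by simp⟩
  -- a unit vector with at least three nonzero coordinates
  obtain ⟨u, hu, hua, hub, huc⟩ : ∃ u : Fin n → F, u ⬝ᵥ u = 1 ∧ u a ≠ 0 ∧ u b ≠ 0 ∧ u c ≠ 0 := by
    by_cases h3 : (3 : F) = 0
    · refine ⟨e a + e b + e c + e d, ?_, ?_, ?_, ?_⟩
      · simp [add_dotProduct, dotProduct_add, ee, ee_ne hab, ee_ne hac, ee_ne had, ee_ne hbc, ee_ne hbd,
          ee_ne hcd, ee_ne hab.symm, ee_ne hac.symm, ee_ne had.symm, ee_ne hbc.symm, ee_ne hbd.symm,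
          ee_ne hcd.symm]
        linear_combination h3
      all_goals simp [e_apply, hab, hac, had, hbc, hbd, hcd, hab.symm, hac.symm, hbc.symm]
    · refine ⟨(2 / 3 : F) • e a + (2 / 3 : F) • e b + (1 / 3 : F) • e c, ?_, ?_, ?_, ?_⟩
      · rw [dot_three hab hac hbc]
        field_simp
        ring
      all_goals simp [e_apply, hab, hac, hbc, hab.symm, hac.symm, hbc.symm, h2, h3]
  refine ⟨R u * R (e a), (pair_mem_iff h2 (by rw [hu]; exact one_ne_zero)
    (by rw [ee]; exact one_ne_zero)).2 (by rw [hu, ee]; simp), fun hm => ?_⟩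
  have hle := hm b
  rw [mul_apply, R_fix (ee_ne hab.symm)] at hle
  have h1 : a ∈ supp ((R u : O F n).1 (e b)) ∧ c ∈ supp ((R u : O F n).1 (e b)) := by
    constructor <;>
      simp [mem_supp, R_apply, hu, e_dot, e_apply, hab, hac, hbc, hab.symm, hbc.symm, hua, hub, huc,
        h2]
  exact hac (Finset.card_le_one.1 hle a h1.1 c h1.2)

end CfsgLib.Geo.OFrame
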