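import Cfsg.Agent.Geo.OrthFrame.Descent

/-!
An overgroup of the monomial group without non-root vectors of small support related to the frame is
monomial.
-/

set_option autoImplicit false
set_option linter.unusedSectionVars false

namespace CfsgLib.Geo.OFrame

open QuadraticMap CfsgLib.Forms CfsgLib.Quad Matrix

variable {F : Type*} [Field F] [Finite F] [DecidableEq F] {n : ℕ} {H : Subgroup (O F n)}

theorem InSpan.smul {x y v : Fin n → F} (t : F) (h : InSpan x y v) : InSpan x y (t • v) := by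
  obtain ⟨a, b, rfl⟩ := h
  exact ⟨t * a, t * b, by rw [smul_add, smul_smul, smul_smul]⟩

theorem InSpan.sub {x y u v : Fin n → F} (hu : InSpan x y u) (hv : InSpan x y v) :
    InSpan x y (u - v) := by
  obtain ⟨a, b, rfl⟩ := hu
  obtain ⟨c, d, rfl⟩ := hv
  exact ⟨a - c, b - d, by module⟩

theorem Pair.dot {x y : Fin n → F} (hp : Pair x y) (a b c d : F) :
    (a • x + b • y) ⬝ᵥ (c • x + d • y) = a * c * (x ⬝ᵥ x) + b * d * (y ⬝ᵥ y) := by
  simp only [add_dotProduct, dotProduct_add, smul_dotProduct, dotProduct_smul, hp.orth,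
    dotProduct_comm y x, smul_eq_mul]
  ring

theorem Pair.perp_zero {x y u c v : Fin n → F} (hp : Pair x y) (hq : Pair u c) (hu : InSpan x y u)
    (hc : InSpan x y c) (hv : InSpan x y v) (h1 : v ⬝ᵥ u = 0) (h2 : v ⬝ᵥ c = 0) : v = 0 := by
  obtain ⟨p, q, rfl⟩ := hu
  obtain ⟨r, s, rfl⟩ := hc
  obtain ⟨a, b, rfl⟩ := hv
  have hl := hq.left
  have hr := hq.right
  have ho := hq.orth
  rw [hp.dot] at h1 h2 hl hr ho
  have hdet : p * s - q * r ≠ 0 := fun h0 => mul_ne_zero hl hr (by
    linear_combination (p * r * (x ⬝ᵥ x) + q * s * (y ⬝ᵥ y)) * ho +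
      (p * s - q * r) * (x ⬝ᵥ x) * (y ⬝ᵥ y) * h0)
  have ha : a = 0 := by
    have : (p * s - q * r) * (x ⬝ᵥ x) * a = 0 := by linear_combination s * h1 - q * h2
    simpa [hdet, hp.left] using this
  have hb : b = 0 := by
    have : (p * s - q * r) * (y ⬝ᵥ y) * b = 0 := by linear_combination p * h2 - r * h1
    simpa [hdet, hp.right] using this
  simp [ha, hb]

/-- Orthogonal bases of the same plane give the same involution. -/
theorem Pair.rebase {x y u c : Fin n → F} (hp : Pair x y) (h2 : (2 : F) ≠ 0) (hq : Pair u c)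
    (hu : InSpan x y u) (hc : InSpan x y c) : R u * R c = R x * R y := by
  refine O_ext fun i => ?_
  set g := R u * R c
  set t := R x * R y
  have hd : InSpan x y (g.1 (e i) - t.1 (e i)) := by
    have h1 : InSpan x y (e i - g.1 (e i)) := by
      obtain ⟨a, b, hab⟩ := hq.diff (e i)
      obtain ⟨p, q, rfl⟩ := hu
      obtain ⟨r, s, rfl⟩ := hc
      exact ⟨a * p + b * r, a * q + b * s, by rw [hab]; module⟩
    have := (hp.diff (e i)).sub h1
    rwa [sub_sub_sub_cancel_left] at this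
  have key : ∀ v, InSpan x y v → InSpan u c v → (g.1 (e i) - t.1 (e i)) ⬝ᵥ v = 0 := fun v hv hv' => by
    have e1 := dot_map g h2 (e i) v
    have e2 := dot_map t h2 (e i) v
    rw [hq.neg hv', dotProduct_neg] at e1
    rw [hp.neg hv, dotProduct_neg] at e2
    rw [sub_dotProduct]
    linear_combination -e1 + e2
  exact sub_eq_zero.1 (hp.perp_zero hq hu hc hd (key u hu (InSpan.left _ _)) (key c hc (InSpan.right _ _)))

/-- The orthogonal line of a vector inside a plane. -/
theorem Pair.orth_vec {x y w : Fin n → F} (hp : Pair x y) (hw : InSpan x y w) (hw0 : w ≠ 0) :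
    ∃ l, InSpan x y l ∧ l ≠ 0 ∧ l ⬝ᵥ w = 0 ∧
      ∀ v, InSpan x y v → v ⬝ᵥ w = 0 → ∃ μ : F, v = μ • l := by
  obtain ⟨a, b, rfl⟩ := hw
  refine ⟨(b * (y ⬝ᵥ y)) • x + (-(a * (x ⬝ᵥ x))) • y, ⟨_, _, rfl⟩, fun h0 => hw0 ?_,
    by rw [hp.dot]; ring, ?_⟩
  · have h1 := congrArg (· ⬝ᵥ x) h0
    have h2 := congrArg (· ⬝ᵥ y) h0
    simp only [add_dotProduct, smul_dotProduct, hp.orth, dotProduct_comm y x, smul_eq_mul,
      zero_dotProduct, mul_zero, add_zero, zero_add, mul_eq_zero, neg_eq_zero, hp.left, hp.right,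
      or_false] at h1 h2
    simp [h1, h2]
  · rintro _ ⟨p, q, rfl⟩ hv
    rw [hp.dot] at hv
    by_cases hb : b = 0
    · have ha : a ≠ 0 := fun ha => hw0 (by simp [ha, hb])
      have hp0 : p = 0 := by simpa [hb, ha, hp.left] using hv
      refine ⟨-q / (a * (x ⬝ᵥ x)), ?_⟩
      simp only [hp0, hb, zero_mul, zero_smul, zero_add, smul_smul]
      congr 1
      field_simp [hp.left]
    · have hne := mul_ne_zero hb hp.right
      refine ⟨p / (b * (y ⬝ᵥ y)), ?_⟩
      rw [smul_add, smul_smul, smul_smul, div_mul_cancel₀ _ hne]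
      congr 2
      field_simp [hp.right]
      linear_combination hv

theorem Pair.line_aniso {x y w l : Fin n → F} (hp : Pair x y) (hw : InSpan x y w)
    (hww : w ⬝ᵥ w ≠ 0) (hl : InSpan x y l) (hl0 : l ≠ 0) (hlw : l ⬝ᵥ w = 0) : l ⬝ᵥ l ≠ 0 := by
  obtain ⟨a, b, rfl⟩ := hw
  obtain ⟨p, q, rfl⟩ := hl
  intro hll
  rw [hp.dot] at hww hlw hll
  have hD : p * b - q * a = 0 := by
    have : (p * b - q * a) * (p * b - q * a) * ((x ⬝ᵥ x) * (y ⬝ᵥ y)) = 0 := by
      linear_combination (a * a * (x ⬝ᵥ x) + b * b * (y ⬝ᵥ y)) * hll -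
        (p * a * (x ⬝ᵥ x) + q * b * (y ⬝ᵥ y)) * hlw
    simpa [hp.left, hp.right] using this
  have hp0 : p = 0 := by
    have : (a * a * (x ⬝ᵥ x) + b * b * (y ⬝ᵥ y)) * p = 0 := by
      linear_combination a * hlw + b * (y ⬝ᵥ y) * hD
    exact (mul_eq_zero.1 this).resolve_left hww
  have hq0 : q = 0 := by
    have : (a * a * (x ⬝ᵥ x) + b * b * (y ⬝ᵥ y)) * q = 0 := by
      linear_combination b * hlw - a * (x ⬝ᵥ x) * hD
    exact (mul_eq_zero.1 this).resolve_left hww
  exact hl0 (by simp [hp0, hq0])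

theorem Over.inv2_comm {x y : Fin n → F} (h : Inv2 H x y) : Inv2 H y x :=
  ⟨⟨h.pair.right, h.pair.left, dotProduct_comm x y ▸ h.pair.orth⟩, h.rel.symm, by
    rw [R_comm h.pair.orth]; exact h.notMono⟩

theorem Bad.rebase (hB : Bad H) {x y u c : Fin n → F} (h : Inv2 H x y) (hq : Pair u c)
    (hu : InSpan x y u) (hc : InSpan x y c) : Inv2 H u c :=
  ⟨hq, by have := h.rel; rwa [Rel, ← h.pair.rebase hB.two hq hu hc] at this,
    by rw [h.pair.rebase hB.two hq hu hc]; exact h.notMono⟩

/-- Moving to the images of two frame vectors at which a vector of the plane vanishes. -/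
theorem Bad.move (hB : Bad H) {x y w l : Fin n → F} (h : Inv2 H x y) (hw : InSpan x y w) (hw0 : w ≠ 0)
    (hl : InSpan x y l) (hl0 : l ≠ 0)
    (huniq : ∀ v, InSpan x y v → v ⬝ᵥ w = 0 → ∃ μ : F, v = μ • l)
    (hcase : w ⬝ᵥ w = 0 ∨ (l ⬝ᵥ l ≠ 0 ∧ 5 ≤ (supp l).card))
    {i j : Fin n} (hij : i ≠ j) (hwi : w i = 0) (hwj : w j = 0)
    (hmv : i ∈ mov (R x * R y) ∨ j ∈ mov (R x * R y)) :
    ∃ μ ν : F, e i - (R x * R y).1 (e i) = μ • l ∧ e j - (R x * R y).1 (e j) = ν • l ∧
      (ν • e i + (-μ) • e j : Fin n → F) ≠ 0 ∧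
      InSpan ((R x * R y).1 (e i)) ((R x * R y).1 (e j)) (ν • e i + (-μ) • e j) ∧
      Inv2 H ((R x * R y).1 (e i)) ((R x * R y).1 (e j)) := by
  classical
  have h2 := hB.two
  set t := R x * R y with ht
  have hd : ∀ k, w k = 0 → ∃ μ : F, e k - t.1 (e k) = μ • l := fun k hk => huniq _ (h.pair.diff _) (by
    have e1 := dot_map t h2 (e k) w
    rw [h.pair.neg hw, dotProduct_neg, e_dot, hk, neg_eq_zero] at e1
    rw [sub_dotProduct, e_dot, hk, e1, sub_zero])
  obtain ⟨μ, hμ⟩ := hd i hwi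
  obtain ⟨ν, hν⟩ := hd j hwj
  have hμν : μ ≠ 0 ∨ ν ≠ 0 := by
    by_contra hc
    push Not at hc
    rw [hc.1, zero_smul, sub_eq_zero, eq_comm] at hμ
    rw [hc.2, zero_smul, sub_eq_zero, eq_comm] at hν
    exact hmv.elim (fun h' => CfsgLib.Geo.OFrame.mem_mov.1 h' hμ) fun h' => CfsgLib.Geo.OFrame.mem_mov.1 h' hν
  have hp' : Pair (t.1 (e i)) (t.1 (e j)) := ⟨by rw [self_map, ee]; exact one_ne_zero,
    by rw [self_map, ee]; exact one_ne_zero, by rw [dot_map t h2, ee_ne hij]⟩
  have hte : t.1 (e i) = e i - μ • l := by rw [← hμ]; abel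
  have hte' : t.1 (e j) = e j - ν • l := by rw [← hν]; abel
  refine ⟨μ, ν, hμ, hν, fun h0 => ?_, ⟨ν, -μ, ?_⟩, hp', (hB.rel_e i j).map h.rel, fun hm => ?_⟩
  · have e1 := congrFun h0 i
    have e2 := congrFun h0 j
    simp [e_apply, hij, hij.symm] at e1 e2
    exact hμν.elim (fun h' => h' e2) fun h' => h' e1
  · rw [hte, hte']; module
  have hmc := hp'.mov_card h2 hm
  rw [hp'.mov_eq h2] at hmc
  have hci : ∀ k, t.1 (e i) k = (if k = i then 1 else 0) - μ * l k := fun k => by
    rw [hte, Pi.sub_apply, e_apply, Pi.smul_apply, smul_eq_mul]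
  have hcj : ∀ k, t.1 (e j) k = (if k = j then 1 else 0) - ν * l k := fun k => by
    rw [hte', Pi.sub_apply, e_apply, Pi.smul_apply, smul_eq_mul]
  rcases hcase with hiso | ⟨hll, h5⟩
  · -- the vector is isotropic, so the line is spanned by it
    obtain ⟨κ, hκ⟩ := huniq w hw hiso
    have hκ0 : κ ≠ 0 := fun h' => hw0 (by rw [hκ, h', zero_smul])
    have hli : l i = 0 := by simpa [hκ, hκ0] using hwi
    have hlj : l j = 0 := by simpa [hκ, hκ0] using hwj
    have hs2 : 2 ≤ (supp l).card := by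
      by_contra hlt
      obtain ⟨k, hk⟩ := supp_nonempty hl0
      have hlk : l = l k • e k := eq_smul_e fun m hm' => not_mem_supp.1 fun hm'' =>
        hm' (Finset.card_le_one.1 (by omega) m hm'' k hk)
      rw [hκ, smul_dotProduct, dotProduct_smul, hlk, smul_dotProduct, dotProduct_smul, ee] at hiso
      simp [hκ0, mem_supp.1 hk] at hiso
    have one : ∀ (a b : Fin n) (ρ σ : F), a ≠ b → l a = 0 → l b = 0 → ρ ≠ 0 →
        t.1 (e a) = e a - ρ • l → t.1 (e b) = e b - σ • l → Pair (t.1 (e a)) (t.1 (e b)) →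
        Mono (R (t.1 (e a)) * R (t.1 (e b))) → False := by
      intro a b ρ σ hab hla hlb hρ ha hb hpab hmab
      have hsub : insert a (supp l) ⊆ supp (t.1 (e a)) := fun k hk => by
        rw [mem_supp, ha, Pi.sub_apply, e_apply, Pi.smul_apply, smul_eq_mul]
        rcases Finset.mem_insert.1 hk with rfl | hk
        · simp [hla]
        · rw [if_neg (show k ≠ a from fun hka => mem_supp.1 hk (hka ▸ hla))]
          simpa [hρ] using mem_supp.1 hk
      have h3 : 3 ≤ (supp (t.1 (e a))).card := by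
        have := Finset.card_le_card hsub
        rw [Finset.card_insert_of_notMem (not_mem_supp.2 hla)] at this
        omega
      have hb' : b ∈ supp (t.1 (e a)) := by
        rw [hpab.supp_eq h2 hmab (InSpan.left _ _) h3]
        exact hpab.supp_le h2 (InSpan.right _ _) (by
          rw [mem_supp, hb, Pi.sub_apply, e_apply, Pi.smul_apply, smul_eq_mul, hlb]; simp)
      rw [mem_supp, ha, Pi.sub_apply, e_apply, Pi.smul_apply, smul_eq_mul, hlb, if_neg hab.symm] at hb'
      simp at hb'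
    rcases hμν with h' | h'
    · exact one i j μ ν hij hli hlj h' hte hte' hp' hm
    · exact one j i ν μ hij.symm hlj hli h' hte' hte
        ⟨hp'.right, hp'.left, dotProduct_comm (t.1 (e i)) (t.1 (e j)) ▸ hp'.orth⟩
        (by rw [R_comm hp'.orth]; exact hm)
  · -- the vector is anisotropic
    have hdl : ∀ k (ρ : F), e k - t.1 (e k) = ρ • l → (ρ ≠ 0 ↔ l k ≠ 0) := fun k ρ hρ => by
      have e1 := dot_map t h2 (e k) l
      rw [h.pair.neg hl, dotProduct_neg, e_dot] at e1
      have e2 : ρ * (l ⬝ᵥ l) = 2 * l k := by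
        rw [← smul_eq_mul, ← smul_dotProduct, ← hρ, sub_dotProduct, e_dot]
        linear_combination e1
      constructor <;> intro hne h0
      · exact mul_ne_zero hne hll (by rw [e2, h0, mul_zero])
      · exact mul_ne_zero h2 hne (by rw [← e2, h0, zero_mul])
    set U := supp (t.1 (e i)) ∪ supp (t.1 (e j))
    have hgen : ∀ k ∈ supp l, k ≠ i → k ≠ j → k ∈ U := fun k hk hki hkj => by
      rw [Finset.mem_union, mem_supp, mem_supp, hci, hcj, if_neg hki, if_neg hkj]
      rcases hμν with h' | h'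
      · exact Or.inl (by simpa [h'] using mem_supp.1 hk)
      · exact Or.inr (by simpa [h'] using mem_supp.1 hk)
    have hiU : l i ≠ 0 → ν ≠ 0 → i ∈ U := fun hl' hν' => by
      rw [Finset.mem_union, mem_supp, mem_supp, hcj, if_neg hij]
      exact Or.inr (by simp [hl', hν'])
    have hjU : l j ≠ 0 → μ ≠ 0 → j ∈ U := fun hl' hμ' => by
      rw [Finset.mem_union, mem_supp, mem_supp, hci, if_neg hij.symm]
      exact Or.inl (by simp [hl', hμ'])
    have : 5 ≤ U.card := by
      by_cases hν0 : ν = 0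
      · have hlj : l j = 0 := not_not.1 fun h' => (hdl j ν hν).2 h' hν0
        have hjin : j ∈ U := by
          rw [Finset.mem_union, mem_supp, mem_supp, hcj, if_pos rfl, hν0]
          exact Or.inr (by simp)
        have hsub : insert j ((supp l).erase i) ⊆ U := Finset.insert_subset hjin fun k hk =>
          hgen k (Finset.mem_erase.1 hk).2 (Finset.mem_erase.1 hk).1
            fun h' => mem_supp.1 (Finset.mem_erase.1 hk).2 (h' ▸ hlj)
        have h1 := Finset.card_le_card hsub
        rw [Finset.card_insert_of_notMem (fun h' => mem_supp.1 (Finset.mem_erase.1 h').2 hlj)] at h1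
        have h3 : (supp l).card - 1 ≤ ((supp l).erase i).card := Finset.pred_card_le_card_erase
        omega
      by_cases hμ0 : μ = 0
      · have hli : l i = 0 := not_not.1 fun h' => (hdl i μ hμ).2 h' hμ0
        have hiin : i ∈ U := by
          rw [Finset.mem_union, mem_supp, mem_supp, hci, if_pos rfl, hμ0]
          exact Or.inl (by simp)
        have hsub : insert i ((supp l).erase j) ⊆ U := Finset.insert_subset hiin fun k hk =>
          hgen k (Finset.mem_erase.1 hk).2 (fun h' => mem_supp.1 (Finset.mem_erase.1 hk).2 (h' ▸ hli))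
            (Finset.mem_erase.1 hk).1
        have h1 := Finset.card_le_card hsub
        rw [Finset.card_insert_of_notMem (fun h' => mem_supp.1 (Finset.mem_erase.1 h').2 hli)] at h1
        have h3 : (supp l).card - 1 ≤ ((supp l).erase j).card := Finset.pred_card_le_card_erase
        omega
      · refine le_trans h5 (Finset.card_le_card fun k hk => ?_)
        by_cases hki : k = i
        · subst hki; exact hiU (mem_supp.1 hk) hν0
        by_cases hkj : k = j
        · subst hkj; exact hjU (mem_supp.1 hk) hμ0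
        exact hgen k hk hki hkj
    omega

/-- With seven coordinates, the columns of an involution restrict vectors of small support. -/
theorem Bad.side_three (hB : Bad H) (h7 : n = 7) {v o : Fin n → F} (hq : Pair v o) (hr : Rel H v o)
    (h4 : (supp v).card ≤ 4) {m : Fin n} (hm : v m ≠ 0) (ho : o m = 0) :
    (supp v).card ≤ 3 ∧ ((supp v).card = 3 → 2 * (v m * v m) = v ⬝ᵥ v) := by
  classical
  set r := (R v * R o : O F n).1 (e m) with hr'
  have hk : ∀ k, r k = (if k = m then 1 else 0) - 2 * v m / (v ⬝ᵥ v) * v k := fun k => by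
    rw [hr', hq.apply, e_dot, e_dot, ho, Pi.sub_apply, Pi.sub_apply, Pi.smul_apply, Pi.smul_apply,
      e_apply, smul_eq_mul, smul_eq_mul]
    ring
  have hc : 2 * v m / (v ⬝ᵥ v) ≠ 0 := div_ne_zero (mul_ne_zero hB.two hm) hq.left
  have hsub : supp r ⊆ supp v := fun k hk' => by
    rw [mem_supp, hk] at hk'
    rw [mem_supp]
    intro h0
    refine hk' ?_
    rw [h0, mul_zero, sub_zero, if_neg fun h' : k = m => hm (h' ▸ h0)]
  have hsup : (supp v).erase m ⊆ supp r := fun k hk' => by
    rw [Finset.mem_erase, mem_supp] at hk'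
    rw [mem_supp, hk, if_neg hk'.1, zero_sub, neg_ne_zero]
    exact mul_ne_zero hc hk'.2
  have hroot : Root r := hB.inV_col h7 hr m ((Finset.card_le_card hsub).trans h4)
  have h2' : (supp r).card ≤ 2 := by rcases hroot with h' | ⟨h', -⟩ <;> omega
  have h1 := (Finset.card_le_card hsup).trans h2'
  rw [Finset.card_erase_of_mem (mem_supp.2 hm)] at h1
  refine ⟨by omega, fun h3 => ?_⟩
  by_contra hne
  have h5 : supp v ⊆ supp r := fun k hk' => by
    rcases eq_or_ne k m with rfl | hkm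
    · rw [mem_supp, hk, if_pos rfl]
      intro h0
      have := hq.left
      field_simp at h0
      exact hne (by linear_combination -h0)
    · exact hsup (Finset.mem_erase.2 ⟨hkm, hk'⟩)
  have := Finset.card_le_card h5
  omega

/-- The negated plane has no orthogonal basis of two vectors of small support. -/
theorem Bad.no_small_basis (hB : Bad H) {x y w l : Fin n → F} (h : Inv2 H x y) (hw : InSpan x y w)
    (hl : InSpan x y l) (hlw : l ⬝ᵥ w = 0) (hll : l ⬝ᵥ l ≠ 0) (hww : w ⬝ᵥ w ≠ 0)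
    (hw4 : (supp w).card < 5) (hl4 : (supp l).card < 5) : False := by
  classical
  have hn := hB.big
  have h2 := hB.two
  set t := R x * R y with ht
  have hlarge : n ≤ (mov t).card + 2 := hB.mov_large h
  have hq : Pair l w := ⟨hll, hww, hlw⟩
  have ht' : R l * R w = t := h.pair.rebase h2 hq hl hw
  have hmov : mov t = supp l ∪ supp w := by rw [← ht', hq.mov_eq h2]
  have hcu := Finset.card_union_add_card_inter (supp l) (supp w)
  rw [hmov] at hlarge
  rcases hB.alt with hn9 | h7
  swap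
  · have hrel : Rel H l w := by rw [Rel, ht']; exact h.rel
    have hq' : Pair w l := ⟨hww, hll, dotProduct_comm l w ▸ hlw⟩
    have el := Finset.card_sdiff_add_card_inter (supp l) (supp w)
    have ew := Finset.card_sdiff_add_card_inter (supp w) (supp l)
    rw [Finset.inter_comm] at ew
    obtain ⟨m, hm⟩ := Finset.card_pos.1 (show 0 < (supp l \ supp w).card by omega)
    obtain ⟨m', hm'⟩ := Finset.card_pos.1 (show 0 < (supp w \ supp l).card by omega)
    rw [Finset.mem_sdiff, mem_supp, not_mem_supp] at hm hm'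
    have hl3 := (hB.side_three h7 hq hrel (by omega) hm.1 hm.2).1
    have hw3 := (hB.side_three h7 hq' hrel.symm (by omega) hm'.1 hm'.2).1
    have hi1 : (supp l ∩ supp w).card ≠ 1 := fun h1 => by
      obtain ⟨i, hi⟩ := Finset.card_eq_one.1 h1
      have hi' : i ∈ supp l ∩ supp w := by rw [hi]; exact Finset.mem_singleton_self i
      simp only [Finset.mem_inter, mem_supp] at hi'
      rw [dotProduct, Finset.sum_eq_single i] at hlw
      · exact mul_ne_zero hi'.1 hi'.2 hlw
      · intro j _ hj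
        by_contra hne
        have : j ∈ supp l ∩ supp w := by
          simp only [Finset.mem_inter, mem_supp]
          exact ⟨left_ne_zero_of_mul hne, right_ne_zero_of_mul hne⟩
        rw [hi, Finset.mem_singleton] at this
        exact hj this
      · simp
    have hall : ∀ (v o : Fin n → F), Pair v o → Rel H v o → (supp v).card = 3 →
        (∀ k ∈ supp v, o k = 0) → False := fun v o hvo hr h3 hz => by
      have hsum : v ⬝ᵥ v = ∑ k ∈ supp v, v k * v k :=
        (Finset.sum_subset (Finset.subset_univ _) fun k _ hk => by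
          rw [not_mem_supp.1 hk, mul_zero]).symm
      have h6 : ∀ k ∈ supp v, 2 * (v k * v k) = v ⬝ᵥ v := fun k hk =>
        (hB.side_three h7 hvo hr (by omega) (mem_supp.1 hk) (hz k hk)).2 h3
      have e1 : 2 * (v ⬝ᵥ v) = 3 * (v ⬝ᵥ v) := by
        conv_lhs => rw [hsum, Finset.mul_sum, Finset.sum_congr rfl h6, Finset.sum_const, h3]
        rw [nsmul_eq_mul]; norm_num
      exact hvo.left (by linear_combination -e1)
    have hint0 : (supp l ∩ supp w).card = 0 := by omega
    rw [Finset.card_eq_zero] at hint0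
    have hdj : ∀ k, l k = 0 ∨ w k = 0 := fun k => by
      by_contra hc
      push Not at hc
      have : k ∈ supp l ∩ supp w := Finset.mem_inter.2 ⟨mem_supp.2 hc.1, mem_supp.2 hc.2⟩
      rw [hint0] at this
      simp at this
    rcases (show (supp l).card = 3 ∨ (supp w).card = 3 by
      rw [hint0, Finset.card_empty] at hcu; omega) with h3 | h3
    · exact hall l w hq hrel h3 fun k hk => (hdj k).resolve_left (mem_supp.1 hk)
    · exact hall w l hq' hrel.symm h3 fun k hk => (hdj k).resolve_right (mem_supp.1 hk)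
  -- orthogonal vectors cannot share exactly one coordinate, so the supports are disjoint
  have hint : supp l ∩ supp w = ∅ := by
    refine Finset.card_eq_zero.1 ?_
    by_contra hne
    have h1 : (supp l ∩ supp w).card = 1 := by omega
    obtain ⟨i, hi⟩ := Finset.card_eq_one.1 h1
    have hi' : i ∈ supp l ∩ supp w := by rw [hi]; exact Finset.mem_singleton_self i
    simp only [Finset.mem_inter, mem_supp] at hi'
    rw [dotProduct, Finset.sum_eq_single i] at hlw
    · exact mul_ne_zero hi'.1 hi'.2 hlw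
    · intro j _ hj
      by_contra hne
      have : j ∈ supp l ∩ supp w := by
        simp only [Finset.mem_inter, mem_supp]
        exact ⟨left_ne_zero_of_mul hne, right_ne_zero_of_mul hne⟩
      rw [hi, Finset.mem_singleton] at this
      exact hj this
    · simp
  have hd : Disjoint (supp l) (supp w) := Finset.disjoint_iff_inter_eq_empty.2 hint
  obtain ⟨S, hlS, hwS, hS⟩ : ∃ S, supp l ⊆ S ∧ Disjoint S (supp w) ∧ S.card = 4 := by
    obtain ⟨S, h1, h3, h4⟩ := Finset.exists_subsuperset_card_eq (n := 4)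
      (show supp l ⊆ (supp w)ᶜ from fun i hi => Finset.mem_compl.2 (Finset.disjoint_left.1 hd hi))
      (by omega) (by rw [Finset.card_compl, Fintype.card_fin]; omega)
    exact ⟨S, h1, Finset.disjoint_left.2 fun i hi hi' => Finset.mem_compl.1 (h3 hi) hi', h4⟩
  refine h.notMono (hB.split_mono hS h.rel fun i j hij => ?_)
  rcases eq_or_ne i j with rfl | hne
  · exact Iff.rfl
  rw [← ht, ← ht', hq.apply, Pi.sub_apply, Pi.sub_apply, Pi.smul_apply, Pi.smul_apply, e_apply,
    if_neg hne.symm, e_dot, e_dot] at hij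
  by_contra hiff
  have hz : ∀ p q, p ∈ S → q ∉ S → l q = 0 ∧ w p = 0 := fun p q hp hq' =>
    ⟨not_mem_supp.1 fun h' => hq' (hlS h'), not_mem_supp.1 fun h' => Finset.disjoint_left.1 hwS hp h'⟩
  by_cases hi : i ∈ S
  · obtain ⟨e1, e2⟩ := hz i j hi fun hj => hiff (iff_of_true hi hj)
    simp [e1, e2] at hij
  · obtain ⟨e1, e2⟩ := hz j i (by by_contra hj; exact hiff (iff_of_false hi hj)) hi
    simp [e1, e2] at hij

/-- The negated plane of some non-monomial involution contains an anisotropic vector supported on two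
coordinates. -/
theorem Bad.exists_short (hB : Bad H) {x y : Fin n → F} (h : Inv2 H x y) :
    ∃ u c i j, Inv2 H u c ∧ i ≠ j ∧ supp u ⊆ {i, j} := by
  classical
  have hn := hB.big
  have h2 := hB.two
  set t := R x * R y with ht
  have hlarge : n ≤ (mov t).card + 2 := hB.mov_large h
  -- a vector with two zeros, one of them at a moved coordinate
  obtain ⟨w, hw, hw0, i, j, hij, hwi, hwj, hmv⟩ : ∃ w, InSpan x y w ∧ w ≠ 0 ∧ ∃ i j, i ≠ j ∧
      w i = 0 ∧ w j = 0 ∧ (i ∈ mov t ∨ j ∈ mov t) := by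
    obtain ⟨w, i, j, hw, hw0, hij, hwi, hwj⟩ := hB.exists_two_zeros h
    by_cases hmv : i ∈ mov t ∨ j ∈ mov t
    · exact ⟨w, hw, hw0, i, j, hij, hwi, hwj, hmv⟩
    push Not at hmv
    obtain ⟨m, hm⟩ := Finset.card_pos.1 (show 0 < (mov t).card by omega)
    obtain ⟨w', hw', hw'0, hw'm⟩ := exists_zero_at h.pair m
    refine ⟨w', hw', hw'0, i, m, fun e' => hmv.1 (e' ▸ hm), ?_, hw'm, Or.inr hm⟩
    exact not_mem_supp.1 fun h' => hmv.1 (h.pair.supp_le h2 hw' h')
  -- make the orthogonal line of large support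
  obtain ⟨w, hw, hw0, l, hl, hl0, huniq, hcase, i, j, hij, hwi, hwj, hmv⟩ :
      ∃ w, InSpan x y w ∧ w ≠ 0 ∧ ∃ l, InSpan x y l ∧ l ≠ 0 ∧
        (∀ v, InSpan x y v → v ⬝ᵥ w = 0 → ∃ μ : F, v = μ • l) ∧
        (w ⬝ᵥ w = 0 ∨ (l ⬝ᵥ l ≠ 0 ∧ 5 ≤ (supp l).card)) ∧
        ∃ i j, i ≠ j ∧ w i = 0 ∧ w j = 0 ∧ (i ∈ mov t ∨ j ∈ mov t) := by
    obtain ⟨l, hl, hl0, hlw, huniq⟩ := h.pair.orth_vec hw hw0
    by_cases hiso : w ⬝ᵥ w = 0
    · exact ⟨w, hw, hw0, l, hl, hl0, huniq, Or.inl hiso, i, j, hij, hwi, hwj, hmv⟩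
    have hll := h.pair.line_aniso hw hiso hl hl0 hlw
    by_cases h5 : 5 ≤ (supp l).card
    · exact ⟨w, hw, hw0, l, hl, hl0, huniq, Or.inr ⟨hll, h5⟩, i, j, hij, hwi, hwj, hmv⟩
    obtain ⟨m, hm, hm0, hml, hmu⟩ := h.pair.orth_vec hl hl0
    have hmov : mov t ⊆ supp w ∪ supp l := fun k hk => by
      by_contra hk'
      simp only [Finset.mem_union, not_or, not_mem_supp] at hk'
      have hd := h.pair.diff (e k)
      have hz : ∀ v, InSpan x y v → v k = 0 → (e k - t.1 (e k)) ⬝ᵥ v = 0 := fun v hv hvk => by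
        have e1 := dot_map t h2 (e k) v
        rw [h.pair.neg hv, dotProduct_neg, e_dot, hvk, neg_eq_zero] at e1
        rw [sub_dotProduct, e_dot, hvk, e1, sub_zero]
      have h0 := h.pair.perp_zero (u := w) (c := l) ⟨hiso, hll, dotProduct_comm l w ▸ hlw⟩ hw hl hd
        (hz w hw hk'.1) (hz l hl hk'.2)
      exact CfsgLib.Geo.OFrame.mem_mov.1 hk (sub_eq_zero.1 h0).symm
    obtain ⟨κ, hκ⟩ := hmu w hw (dotProduct_comm l w ▸ hlw)
    have hκ0 : κ ≠ 0 := fun h' => hw0 (by rw [hκ, h', zero_smul])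
    have hlmov : supp l ⊆ mov t := h.pair.supp_le h2 hl
    have hm5 : (supp w).card + (supp l).card + 2 ≥ n := by
      have h1 := (Finset.card_le_card hmov).trans (Finset.card_union_le _ _)
      omega
    by_cases h5' : ¬ 5 ≤ (supp m).card
    · exfalso
      exact hB.no_small_basis h hw hl (hlw) hll hiso (by rwa [hκ, supp_smul hκ0, ← not_le]) (by omega)
    rw [not_not] at h5'
    have hmm := h.pair.line_aniso hl hll hm hm0 hml
    obtain ⟨i', hi', hi''⟩ := Finset.exists_mem_notMem_of_card_lt_card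
      (show (supp l).card < (mov t).card by omega)
    obtain ⟨j', -, hj'⟩ := Finset.exists_mem_notMem_of_card_lt_card
      (show (insert i' (supp l)).card < (Finset.univ : Finset (Fin n)).card from
        lt_of_le_of_lt (Finset.card_insert_le _ _) (by simp; omega))
    rw [Finset.mem_insert, not_or] at hj'
    exact ⟨l, hl, hl0, m, hm, hm0, hmu, Or.inr ⟨hmm, h5'⟩, i', j', Ne.symm hj'.1,
      not_mem_supp.1 hi'', not_mem_supp.1 hj'.2, Or.inl hi'⟩
  obtain ⟨μ, ν, -, -, hu0, huS, hI⟩ := hB.move h hw hw0 hl hl0 huniq hcase hij hwi hwj hmv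
  set x' := t.1 (e i)
  set y' := t.1 (e j)
  set u : Fin n → F := ν • e i + (-μ) • e j with hu
  have hsupp : ∀ (a b : Fin n) (p q : F), supp (p • e a + q • e b : Fin n → F) ⊆ {a, b} := fun a b p q k hk => by
    rw [mem_supp, Pi.add_apply, Pi.smul_apply, Pi.smul_apply, e_apply, e_apply] at hk
    rw [Finset.mem_insert, Finset.mem_singleton]
    by_contra hne
    push Not at hne
    simp [hne.1, hne.2] at hk
  by_cases huu : u ⬝ᵥ u = 0
  swap
  · obtain ⟨c, hc, hc0, hcu, -⟩ := hI.pair.orth_vec huS hu0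
    exact ⟨u, c, i, j, hB.rebase hI ⟨huu, hI.pair.line_aniso huS huu hc hc0 hcu,
      dotProduct_comm c u ▸ hcu⟩ huS hc, hij, hsupp i j ν (-μ)⟩
  -- a second step from an isotropic vector
  obtain ⟨l', hl', hl'0, hl'u, huniq'⟩ := hI.pair.orth_vec huS hu0
  set t' := R x' * R y' with ht'
  have hlarge' : n ≤ (mov t').card + 2 := hB.mov_large hI
  set K := ((mov t').erase i).erase j with hK
  have hKu : ∀ k ∈ K, u k = 0 := fun k hk => by
    simp only [K, Finset.mem_erase] at hk
    exact not_mem_supp.1 fun h' => by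
      have := hsupp i j ν (-μ) h'
      simp [hk.1, hk.2.1] at this
  have hd : ∀ k ∈ K, ∃ ρ : F, ρ ≠ 0 ∧ e k - t'.1 (e k) = ρ • l' := fun k hk => by
    obtain ⟨ρ, hρ⟩ := huniq' _ (hI.pair.diff (e k)) (by
      have e1 := dot_map t' h2 (e k) u
      rw [hI.pair.neg huS, dotProduct_neg, e_dot, hKu k hk, neg_eq_zero] at e1
      rw [sub_dotProduct, e_dot, hKu k hk, e1, sub_zero])
    refine ⟨ρ, fun h0 => ?_, hρ⟩
    rw [h0, zero_smul, sub_eq_zero, eq_comm] at hρ
    exact CfsgLib.Geo.OFrame.mem_mov.1 (Finset.mem_of_mem_erase (Finset.mem_of_mem_erase hk)) hρ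
  have hKc : 3 ≤ K.card := by
    have h1 : ((mov t').erase i).card - 1 ≤ K.card := Finset.pred_card_le_card_erase
    have h3 : (mov t').card - 1 ≤ ((mov t').erase i).card := Finset.pred_card_le_card_erase
    omega
  obtain ⟨a, b, c, ha, hb, hc, hab, hac, hbc⟩ := Finset.two_lt_card_iff.1 (show 2 < K.card by omega)
  obtain ⟨ρa, hρa0, hρa⟩ := hd a ha
  obtain ⟨ρb, -, hρb⟩ := hd b hb
  obtain ⟨ρc, -, hρc⟩ := hd c hc
  have main : ∀ (p q : Fin n) (ρ σ : F), p ∈ K → q ∈ K → p ≠ q → e p - t'.1 (e p) = ρ • l' →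
      e q - t'.1 (e q) = σ • l' → ρ * ρ + σ * σ ≠ 0 →
      ∃ u c i j, Inv2 H u c ∧ i ≠ j ∧ supp u ⊆ {i, j} := by
    intro p q ρ σ hp hq hpq hρ hσ hne
    obtain ⟨ρ', σ', hρ', hσ', hu0', huS', hI'⟩ := hB.move hI huS hu0 hl' hl'0 huniq' (Or.inl huu) hpq
      (hKu p hp) (hKu q hq) (Or.inl (Finset.mem_of_mem_erase (Finset.mem_of_mem_erase hp)))
    obtain ⟨m, hm⟩ := supp_nonempty hl'0
    have e1 : ρ' = ρ := mul_right_cancel₀ (mem_supp.1 hm)
      (by simpa using congrFun (hρ'.symm.trans hρ) m)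
    have e2 : σ' = σ := mul_right_cancel₀ (mem_supp.1 hm)
      (by simpa using congrFun (hσ'.symm.trans hσ) m)
    subst e1 e2
    have haniso : (σ' • e p + (-ρ') • e q : Fin n → F) ⬝ᵥ (σ' • e p + (-ρ') • e q) ≠ 0 := by
      simp only [add_dotProduct, dotProduct_add, smul_dotProduct, dotProduct_smul, ee, ee_ne hpq,
        ee_ne hpq.symm, smul_eq_mul, mul_one, mul_zero, add_zero, zero_add]
      exact fun h0 => hne (by linear_combination h0)
    obtain ⟨c', hc', hc'0, hc'u, -⟩ := hI'.pair.orth_vec huS' hu0'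
    exact ⟨_, c', p, q, hB.rebase hI' ⟨haniso, hI'.pair.line_aniso huS' haniso hc' hc'0 hc'u,
      dotProduct_comm c' _ ▸ hc'u⟩ huS' hc', hpq, hsupp p q σ' (-ρ')⟩
  by_cases h1 : ρa * ρa + ρb * ρb = 0
  swap
  · exact main a b _ _ ha hb hab hρa hρb h1
  by_cases h3 : ρa * ρa + ρc * ρc = 0
  swap
  · exact main a c _ _ ha hc hac hρa hρc h3
  refine main b c _ _ hb hc hbc hρb hρc fun h4 => hρa0 ?_
  have : 2 * (ρa * ρa) = 0 := by linear_combination h1 + h3 - h4
  simpa [h2] using this

end CfsgLib.Geo.OFrame
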