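import Cfsg.Agent.Geo.OrthFrame.Shape

/-!
Seven coordinates: an involution negating a plane through a vector on two coordinates leads to a small
non-root vector related to the frame.
-/

set_option autoImplicit false
set_option linter.unusedSectionVars false

namespace CfsgLib.Geo.OFrame

open QuadraticMap CfsgLib.Forms CfsgLib.Quad Matrix

variable {F : Type*} [Field F] [Finite F] [DecidableEq F] {n : ℕ} {H : Subgroup (O F n)}

theorem Over.inv2_of_inV (hH : Over H) {v : Fin n → F} (hv : InV H v) (h5 : 5 ≤ (supp v).card)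
    {a : Fin n} (ha : v a = 0) : Inv2 H (e a) v := by
  have hp : Pair (e a) v := ⟨by rw [ee]; exact one_ne_zero, by rw [hv.1]; exact one_ne_zero,
    by rw [e_dot, ha]⟩
  refine ⟨hp, (hv.2 a).symm, fun hm => ?_⟩
  have h1 := hp.mov_card hH.two hm
  rw [hp.mov_eq hH.two] at h1
  have h2 := Finset.card_le_card (Finset.subset_union_right (s₁ := supp (e (F := F) a)) (s₂ := supp v))
  omega

theorem Over.inV_signs' (hH : Over H) {v : Fin n → F} (hv : InV H v) (S : Finset (Fin n)) :
    InV H fun t => if t ∈ S then -v t else v t := by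
  induction S using Finset.induction_on with
  | empty => simpa using hv
  | insert a S ha ih =>
    have h := hH.inV_refl ih (hH.inV_e a)
    convert h using 1
    funext t
    rw [R_e_coord']
    by_cases h' : t = a
    · subst h'; simp [ha]
    · simp [h']

/-- Five nonzero coordinates have equal squares. -/
theorem Bad.five_eq (hB : Bad H) (h7 : n = 7) {v : Fin n → F} (hv : InV H v) (h5 : (supp v).card = 5)
    {p q : Fin n} (hp : v p ≠ 0) (hq : v q ≠ 0) : v p * v p = v q * v q := by
  classical
  rcases eq_or_ne p q with rfl | hpq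
  · rfl
  obtain ⟨a, o, hao, hz⟩ := Finset.card_eq_two.1 (show (supp v)ᶜ.card = 2 by
    rw [Finset.card_compl, Fintype.card_fin]; omega)
  have hzero : ∀ m, v m = 0 ↔ m = a ∨ m = o := fun m => by
    have : m ∈ (supp v)ᶜ ↔ m ∈ ({a, o} : Finset (Fin n)) := by rw [hz]
    simpa [not_mem_supp] using this
  have hva : v a = 0 := (hzero a).2 (Or.inl rfl)
  have hvo : v o = 0 := (hzero o).2 (Or.inr rfl)
  have hap : a ≠ p := fun h => hp (h ▸ hva)
  have haq : a ≠ q := fun h => hq (h ▸ hva)
  have hop : o ≠ p := fun h => hp (h ▸ hvo)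
  have hoq : o ≠ q := fun h => hq (h ▸ hvo)
  have hI := hB.toOver.inv2_of_inV hv (by omega) hva
  obtain ⟨z, hzH, hz1, hout, π, s, hs, hπ, hπ2, hπS, hπu, hπc⟩ :=
    hB.central' hI hao hap haq hop hoq hpq (by rw [supp_e]; simp) (by
      have hsub : ((supp v).erase p).erase q ⊆ supp v \ ({a, o, p, q} : Finset (Fin n)) := fun m hm => by
        simp only [Finset.mem_erase, mem_supp] at hm
        simp only [Finset.mem_sdiff, Finset.mem_insert, Finset.mem_singleton, mem_supp]
        refine ⟨hm.2.2, ?_⟩
        rintro (h | h | h | h)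
        exacts [hm.2.2 ((hzero m).2 (Or.inl h)), hm.2.2 ((hzero m).2 (Or.inr h)), hm.2.1 h, hm.1 h]
      have h3 := Finset.card_le_card hsub
      rw [Finset.card_erase_of_mem (Finset.mem_erase.2 ⟨hpq.symm, mem_supp.2 hq⟩),
        Finset.card_erase_of_mem (mem_supp.2 hp)] at h3
      omega)
  have hπa : π a = a := by
    by_contra h
    have e1 := hπu a
    rw [e_apply, e_apply, if_neg h, mul_zero, if_pos rfl] at e1
    exact zero_ne_one e1
  have hfa : z.1 (e a) = e a := fixed_of hπ hπu hπa (by simp [e_apply])
  have hπo : π o = o := by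
    have e1 := hπc o
    rw [hvo, mul_eq_zero] at e1
    refine ((hzero _).1 (e1.resolve_left fun h => by simpa [h] using hs o)).resolve_left fun h => hao ?_
    rw [← hπ2 o, h, hπa]
  have hπp : π p = p ∨ π p = q := by
    have h := hπS p (by simp)
    simp only [Finset.mem_insert, Finset.mem_singleton] at h
    rcases h with h | h | h | h
    · exact absurd (by rw [← hπ2 p, h, hπa]) hap
    · exact absurd (by rw [← hπ2 p, h, hπo]) hop
    · exact Or.inl h
    · exact Or.inr h
  rcases hπp with h | h
  · exfalso
    have hπq : π q = q := by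
      have h' := hπS q (by simp)
      simp only [Finset.mem_insert, Finset.mem_singleton] at h'
      rcases h' with h' | h' | h' | h'
      · exact absurd (by rw [← hπ2 q, h', hπa]) haq
      · exact absurd (by rw [← hπ2 q, h', hπo]) hoq
      · exact absurd (by rw [← hπ2 q, h', h]) hpq
      · exact h'
    have hfp := fixed_of hπ hπc h hp
    have hfq := fixed_of hπ hπc hπq hq
    have hrest : ∀ m, m ≠ o → z.1 (e m) = e m := fun m hm => by
      by_cases h1 : m = a
      · rw [h1, hfa]
      by_cases h2 : m = p
      · rw [h2, hfp]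
      by_cases h3 : m = q
      · rw [h3, hfq]
      exact hout m (by simp [h1, hm, h2, h3])
    rcases mul_self_eq_one_iff.1 (hs o) with e1 | e1
    · refine hz1 (O_ext fun m => ?_)
      rw [one_apply]
      by_cases hm : m = o
      · rw [hm, hπ, hπo, e1, one_smul]
      · exact hrest m hm
    · exact hB.single_neg z o hzH (by rw [hπ, hπo, e1, neg_one_smul]) hrest
  · have e1 := hπc p
    rw [h] at e1
    linear_combination (-(v p) - s p * v q) * e1 + v q * v q * hs p

/-- A vector related to the frame with five or more nonzero coordinates has no zero coordinate. -/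
theorem Bad.no_zero (hB : Bad H) (h7 : n = 7) {v : Fin n → F} (hv : InV H v)
    (h5 : 5 ≤ (supp v).card) {a : Fin n} (hva : v a = 0) : False := by
  classical
  have h2 := hB.two
  have hsle : supp v ⊆ Finset.univ.erase a := fun m hm =>
    Finset.mem_erase.2 ⟨fun h => mem_supp.1 hm (h ▸ hva), Finset.mem_univ m⟩
  have hle := Finset.card_le_card hsle
  rw [Finset.card_erase_of_mem (Finset.mem_univ a), Finset.card_univ, Fintype.card_fin] at hle
  rcases (show (supp v).card = 5 ∨ (supp v).card = 6 by omega) with h | h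
  swap
  · -- six coordinates
    obtain ⟨p, q, r, hp, hq, hr, hpq, hpr, hqr⟩ :=
      Finset.two_lt_card_iff.1 (show 2 < (supp v).card by omega)
    have hne : ∀ m ∈ supp v, a ≠ m := fun m hm h => mem_supp.1 hm (h ▸ hva)
    obtain ⟨z, hzH, hz1, hout, π, s, hs, hπ, hπ2, hπS, hπu, hπc⟩ :=
      hB.central' (hB.toOver.inv2_of_inV hv (by omega) hva) (hne p hp) (hne q hq) (hne r hr) hpq hpr
        hqr (by rw [supp_e]; simp) (by
        have hsub : (((supp v).erase p).erase q).erase r ⊆ supp v \ ({a, p, q, r} : Finset (Fin n)) :=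
          fun m hm => by
            simp only [Finset.mem_erase] at hm
            simp only [Finset.mem_sdiff, Finset.mem_insert, Finset.mem_singleton]
            refine ⟨hm.2.2.2, ?_⟩
            rintro (h' | h' | h' | h')
            exacts [hne m hm.2.2.2 h'.symm, hm.2.2.1 h', hm.2.1 h', hm.1 h']
        have h3 := Finset.card_le_card hsub
        rw [Finset.card_erase_of_mem (by simp [hr, hqr.symm, hpr.symm]),
          Finset.card_erase_of_mem (by simp [hq, hpq.symm]), Finset.card_erase_of_mem hp] at h3
        omega)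
    have hπa : π a = a := by
      by_contra h'
      have e1 := hπu a
      rw [e_apply, e_apply, if_neg h', mul_zero, if_pos rfl] at e1
      exact zero_ne_one e1
    have hfa : z.1 (e a) = e a := fixed_of hπ hπu hπa (by simp [e_apply])
    have h3 : ∀ m, m = p ∨ m = q ∨ m = r → π m = p ∨ π m = q ∨ π m = r := fun m hm => by
      have h' := hπS m (by rcases hm with rfl | rfl | rfl <;> simp)
      simp only [Finset.mem_insert, Finset.mem_singleton] at h'
      refine h'.resolve_left fun h' => ?_
      have e1 : m = a := by rw [← hπ2 m, h', hπa]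
      rcases hm with rfl | rfl | rfl
      exacts [hne _ hp e1.symm, hne _ hq e1.symm, hne _ hr e1.symm]
    have hv3 : ∀ m, m = p ∨ m = q ∨ m = r → v m ≠ 0 := by
      rintro m (rfl | rfl | rfl)
      exacts [mem_supp.1 hp, mem_supp.1 hq, mem_supp.1 hr]
    have hfix : ∀ m, (m = p ∨ m = q ∨ m = r → π m = m) → z.1 (e m) = e m := fun m hm => by
      by_cases h1 : m = a
      · rw [h1, hfa]
      by_cases h' : m = p ∨ m = q ∨ m = r
      · exact fixed_of hπ hπc (hm h') (hv3 m h')
      · simp only [not_or] at h'
        exact hout m (by simp [h1, h'.1, h'.2.1, h'.2.2])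
    by_cases hall : ∀ m, m = p ∨ m = q ∨ m = r → π m = m
    · exact hz1 (O_ext fun m => by rw [one_apply, hfix m (hall m)])
    push Not at hall
    obtain ⟨x, hx, hxx⟩ := hall
    refine hB.swap_only z x (π x) (s x) hzH (Ne.symm hxx) (hs x) (hπ x) ?_ fun m hmx hmy =>
      hfix m fun hm => ?_
    · rw [hπ, hπ2, sign_eq hs hπ2 hπc rfl (hv3 x hx)]
    · have h4 := h3 m hm
      have h6 := h3 x hx
      have h7' : π m ≠ x := fun h' => hmy (by rw [← h', hπ2])
      have h8 : π m ≠ π x := fun h' => hmx (by rw [← hπ2 m, h', hπ2])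
      grind
  -- five coordinates
  obtain ⟨p, hp, q, hq, hpq⟩ := Finset.one_lt_card.1 (show 1 < (supp v).card by omega)
  set A := v p * v p
  have hA : ∀ m ∈ supp v, v m * v m = A := fun m hm =>
    hB.five_eq h7 hv h (mem_supp.1 hm) (mem_supp.1 hp)
  have hA0 : A ≠ 0 := mul_ne_zero (mem_supp.1 hp) (mem_supp.1 hp)
  have h5A : (5 : F) * A = 1 := by
    rw [← hv.1, dotProduct, ← Finset.sum_subset (Finset.subset_univ (supp v)) fun j _ hj => by
      rw [not_mem_supp.1 hj, mul_zero], Finset.sum_congr rfl hA, Finset.sum_const, h, nsmul_eq_mul]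
    norm_num
  set T : Finset (Fin n) := {p, q}
  set v' : Fin n → F := fun t => if t ∈ T then -v t else v t with hv'
  have hvv : v' ⬝ᵥ v = A := by
    have hd : (v' - v) ⬝ᵥ v = -4 * A := by
      rw [dotProduct, ← Finset.sum_subset (Finset.subset_univ T) fun j _ hj => by simp [hv', hj],
        Finset.sum_pair hpq]
      simp only [hv', T, Pi.sub_apply, Finset.mem_insert, Finset.mem_singleton, or_true, true_or,
        if_true]
      linear_combination -2 * hA q hq
    rw [sub_dotProduct, hv.1] at hd
    linear_combination hd - h5A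
  set d := (R v : O F n).1 v' with hd
  have hdV : InV H d := hB.inV_refl (hB.toOver.inV_signs' hv T) hv
  have hdk : ∀ k, d k = v' k - 2 * A * v k := fun k => by
    rw [hd, R_apply, hvv, hv.1, div_one, Pi.sub_apply, Pi.smul_apply, smul_eq_mul]
  have hdT : ∀ k ∈ T, d k = -(7 * A * v k) := fun k hk => by
    rw [hdk, hv']; simp only [if_pos hk]; linear_combination (v k) * h5A
  have hdN : ∀ k, k ∉ T → d k = 3 * A * v k := fun k hk => by
    rw [hdk, hv']; simp only [if_neg hk]; linear_combination -(v k) * h5A
  have hdsub : supp d ⊆ supp v := fun k hk => by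
    rw [mem_supp] at hk ⊢
    intro h0
    by_cases hkT : k ∈ T
    · exact hk (by rw [hdT k hkT, h0, mul_zero, neg_zero])
    · exact hk (by rw [hdN k hkT, h0, mul_zero])
  have h30 : (3 : F) ≠ 0 := fun h0 => by
    refine hB.three h0 (v p) ?_
    linear_combination -h5A + 2 * A * h0
  have hTsub : T ⊆ supp v := by
    simp only [T, Finset.insert_subset_iff, Finset.singleton_subset_iff]
    exact ⟨hp, hq⟩
  have h3sub : supp v \ T ⊆ supp d := fun k hk => by
    rw [Finset.mem_sdiff, mem_supp] at hk
    rw [mem_supp, hdN k hk.2]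
    exact mul_ne_zero (mul_ne_zero h30 hA0) hk.1
  have h3card : 3 ≤ (supp d).card := by
    have := Finset.card_le_card h3sub
    rw [Finset.card_sdiff_of_subset hTsub, Finset.card_pair hpq, h] at this
    omega
  by_cases h4 : (supp d).card ≤ 4
  · exact not_root_of_three h3card (hB.nosmall d hdV (by omega))
  have hd5 : (supp d).card = 5 := by have := Finset.card_le_card hdsub; omega
  have heq := Finset.eq_of_subset_of_card_le hdsub (by omega)
  obtain ⟨r, hr⟩ := Finset.card_pos.1 (show 0 < (supp v \ T).card by
    rw [Finset.card_sdiff_of_subset hTsub, Finset.card_pair hpq, h]; omega)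
  rw [Finset.mem_sdiff] at hr
  have hpT : p ∈ T := by simp [T]
  have e1 := hB.five_eq h7 hdV hd5 (p := p) (q := r) (mem_supp.1 (heq.symm ▸ hp))
    (mem_supp.1 (heq.symm ▸ hr.1))
  rw [hdT p hpT, hdN r hr.2] at e1
  have h40 : (2 * 2 * 2 * 5 : F) * (A * A * A) = 0 := by
    linear_combination e1 + 9 * A * A * hA r hr.1
  have h50 : (5 : F) ≠ 0 := left_ne_zero_of_mul_eq_one h5A
  simp [h2, h50, hA0] at h40

/-- With seven coordinates no non-monomial involution negates a plane through a vector on two
coordinates. -/
theorem Bad.no_short_seven (hB : Bad H) (h7 : n = 7) {u c : Fin n → F} (h : Inv2 H u c) {i j : Fin n}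
    (hij : i ≠ j) (hu : supp u ⊆ {i, j}) : False := by
  classical
  have h2 := hB.two
  have hlarge : n ≤ (mov (R u * R c)).card + 2 := hB.mov_large h
  rw [h.pair.mov_eq h2] at hlarge
  have hcout : 3 ≤ (supp c \ {i, j}).card := by
    have h1 := Finset.card_le_card (show supp u ∪ supp c ⊆ {i, j} ∪ (supp c \ {i, j}) by
      rw [Finset.union_sdiff_self_eq_union]
      exact Finset.union_subset_union hu subset_rfl)
    have h3 := Finset.card_union_le ({i, j} : Finset (Fin n)) (supp c \ {i, j})
    have h4 := Finset.card_le_two (a := i) (b := j)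
    omega
  have hu0 : ∀ m, m ≠ i → m ≠ j → u m = 0 := fun m h1 h3 => not_mem_supp.1 fun h' => by
    have := hu h'
    simp [h1, h3] at this
  by_cases hfull : ∀ o, c o ≠ 0
  swap
  · push Not at hfull
    obtain ⟨o, ho⟩ := hfull
    have hk : ∀ k ∈ supp c \ {i, j}, (supp c).card = 3 ∧ 2 * (c k * c k) = c ⬝ᵥ c := by
      intro k hk
      simp only [Finset.mem_sdiff, Finset.mem_insert, Finset.mem_singleton, not_or, mem_supp] at hk
      obtain ⟨hck, hki, hkj⟩ := hk
      set r := (R u * R c : O F n).1 (e k) with hr
      have hrV : InV H r := hB.toOver.image_inV h7 h.rel k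
      have hrm : ∀ m, r m = (if m = k then 1 else 0) - 2 * c k / (c ⬝ᵥ c) * c m := fun m => by
        rw [hr, h.pair.apply, e_dot, e_dot, hu0 k hki hkj, Pi.sub_apply, Pi.sub_apply, Pi.smul_apply,
          Pi.smul_apply, e_apply, smul_eq_mul, smul_eq_mul]
        ring
      have hro : r o = 0 := by rw [hrm, if_neg (show o ≠ k from fun h' => hck (h' ▸ ho)), ho]; ring
      have hsup : (supp c).erase k ⊆ supp r := fun m hm => by
        rw [Finset.mem_erase, mem_supp] at hm
        rw [mem_supp, hrm, if_neg hm.1, zero_sub, neg_ne_zero]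
        exact mul_ne_zero (div_ne_zero (mul_ne_zero h2 hck) h.pair.right) hm.2
      have h4 : (supp r).card ≤ 4 := by
        by_contra h5
        exact hB.no_zero h7 hrV (by omega) hro
      have h2r : (supp r).card ≤ 2 := by
        rcases hB.nosmall r hrV (by omega) with h' | ⟨h', -⟩ <;> omega
      have h1 := (Finset.card_le_card hsup).trans h2r
      rw [Finset.card_erase_of_mem (mem_supp.2 hck)] at h1
      have h3 : 3 ≤ (supp c).card := le_trans hcout (Finset.card_le_card Finset.sdiff_subset)
      refine ⟨by omega, ?_⟩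
      by_contra hne
      have h5 : supp c ⊆ supp r := fun m hm => by
        rcases eq_or_ne m k with rfl | hmk
        · rw [mem_supp, hrm, if_pos rfl]
          intro h0
          have := h.pair.right
          field_simp at h0
          exact hne (by linear_combination -h0)
        · exact hsup (Finset.mem_erase.2 ⟨hmk, hm⟩)
      have := Finset.card_le_card h5
      omega
    obtain ⟨k0, hk0⟩ := Finset.card_pos.1 (show 0 < (supp c \ {i, j}).card by omega)
    have hc3 := (hk k0 hk0).1
    have hS : supp c \ {i, j} = supp c :=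
      Finset.eq_of_subset_of_card_le Finset.sdiff_subset (by omega)
    have hsum : c ⬝ᵥ c = ∑ k ∈ supp c, c k * c k :=
      (Finset.sum_subset (Finset.subset_univ _) fun k _ hk' => by
        rw [not_mem_supp.1 hk', mul_zero]).symm
    have e1 : 2 * (c ⬝ᵥ c) = 3 * (c ⬝ᵥ c) := by
      conv_lhs => rw [hsum, Finset.mul_sum,
        Finset.sum_congr rfl fun k hk' => (hk k (by rw [hS]; exact hk')).2, Finset.sum_const, hc3]
      rw [nsmul_eq_mul]; norm_num
    exact h.pair.right (by linear_combination -e1)
  -- all coordinates of `c` are nonzero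
  have horth : u i * c i + u j * c j = 0 := by
    have := h.pair.orth
    rw [dotProduct, ← Finset.sum_subset (Finset.subset_univ ({i, j} : Finset (Fin n))) fun m _ hm => by
      rw [not_mem_supp.1 fun h' => hm (hu h'), zero_mul], Finset.sum_pair hij] at this
    exact this
  have hune : u i ≠ 0 ∧ u j ≠ 0 := by
    have hne : ¬ (u i = 0 ∧ u j = 0) := fun h' => h.pair.left (by
      have : u = 0 := funext fun m => by
        by_cases h1 : m = i
        · rw [h1, h'.1]; rfl
        by_cases h3 : m = j
        · rw [h3, h'.2]; rfl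
        exact hu0 m h1 h3
      rw [this]; simp)
    constructor <;> intro h0 <;> refine hne ?_
    · exact ⟨h0, by simpa [h0, hfull j] using horth⟩
    · exact ⟨by simpa [h0, hfull i] using horth, h0⟩
  obtain ⟨k, l, hki, hkj, hli, hlj, hkl⟩ :
      ∃ k l, k ≠ i ∧ k ≠ j ∧ l ≠ i ∧ l ≠ j ∧ k ≠ l := by
    obtain ⟨k, hk, l, hl, hkl⟩ := Finset.one_lt_card.1 (show 1 < (supp c \ {i, j}).card by omega)
    simp only [Finset.mem_sdiff, Finset.mem_insert, Finset.mem_singleton, not_or] at hk hl
    exact ⟨k, l, hk.2.1, hk.2.2, hl.2.1, hl.2.2, hkl⟩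
  obtain ⟨z, hzH, hz1, hout, π, s, hs, hπ, hπ2, hπS, hπu, hπc⟩ :=
    hB.central' h hij hki.symm hli.symm hkj.symm hlj.symm hkl hu (by
      have hsc : supp c = Finset.univ := Finset.eq_univ_iff_forall.2 fun m => mem_supp.2 (hfull m)
      rw [hsc, Finset.card_sdiff_of_subset (Finset.subset_univ _), Finset.card_univ, Fintype.card_fin]
      have : ({i, j, k, l} : Finset (Fin n)).card ≤ 4 := Finset.card_le_four
      omega)
  have huv : ∀ m, m = i ∨ m = j → π m = i ∨ π m = j := fun m hm => by
    by_contra h'
    simp only [not_or] at h'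
    have e1 := hπu m
    rw [hu0 _ h'.1 h'.2, mul_zero] at e1
    rcases hm with rfl | rfl
    exacts [hune.1 e1.symm, hune.2 e1.symm]
  have hi' : π i = i := by
    refine (huv i (Or.inl rfl)).resolve_right fun h' => ?_
    have e1 := hπu i
    have e3 := hπc i
    rw [h'] at e1 e3
    have : 2 * (u j * c j) = 0 := by
      rw [← e1, ← e3] at horth
      linear_combination horth - u j * c j * hs i
    simp [h2, hune.2, hfull j] at this
  have hj' : π j = j := (huv j (Or.inr rfl)).resolve_left fun h' => hij (by rw [← hπ2 j, h', hi'])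
  have hrest : ∀ m, (m = k ∨ m = l → π m = m) → z.1 (e m) = e m := fun m hm => by
    by_cases h1 : m = i ∨ m = j ∨ ((m = k ∨ m = l) ∧ π m = m)
    · refine fixed_of hπ hπc ?_ (hfull m)
      rcases h1 with h1 | h1 | ⟨-, h1⟩
      exacts [by rw [h1, hi'], by rw [h1, hj'], h1]
    · simp only [not_or, not_and] at h1
      refine hout m ?_
      simp only [Finset.mem_insert, Finset.mem_singleton]
      rintro (h' | h' | h' | h')
      exacts [h1.1 h', h1.2.1 h', h1.2.2 (Or.inl h') (hm (Or.inl h')),
        h1.2.2 (Or.inr h') (hm (Or.inr h'))]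
  have hkl' : ∀ m, m = k ∨ m = l → π m = k ∨ π m = l := fun m hm => by
    have h1 := hπS m (by rcases hm with rfl | rfl <;> simp)
    simp only [Finset.mem_insert, Finset.mem_singleton] at h1
    rcases h1 with h1 | h1 | h1
    · have e1 : m = i := by rw [← hπ2 m, h1, hi']
      rcases hm with rfl | rfl
      exacts [absurd e1 hki, absurd e1 hli]
    · have e1 : m = j := by rw [← hπ2 m, h1, hj']
      rcases hm with rfl | rfl
      exacts [absurd e1 hkj, absurd e1 hlj]
    · exact h1
  rcases hkl' k (Or.inl rfl) with hk' | hk'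
  · have hl' : π l = l := (hkl' l (Or.inr rfl)).resolve_left fun h' => hkl (by rw [← hπ2 l, h', hk'])
    refine hz1 (O_ext fun m => ?_)
    rw [one_apply]
    exact hrest m (by rintro (rfl | rfl) <;> assumption)
  · refine hB.swap_only z k l (s k) hzH hkl (hs k) (by rw [hπ, hk'])
      (by rw [hπ, ← hk', hπ2, hk', sign_eq hs hπ2 hπc hk' (hfull k)]) fun m hmk hml =>
        hrest m (by rintro (rfl | rfl) <;> contradiction)

end CfsgLib.Geo.OFrame
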