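import Cfsg.Agent.Geo.OrthFrame.Rigid

/-!
The shape of a non-monomial involution negating a plane through a vector on two coordinates.
-/

set_option autoImplicit false
set_option linter.unusedSectionVars false

namespace CfsgLib.Geo.OFrame

open QuadraticMap CfsgLib.Forms CfsgLib.Quad Matrix

variable {F : Type*} [Field F] [Finite F] [DecidableEq F] {n : ℕ} {H : Subgroup (O F n)}

theorem Over.refl_not_mem (hH : Over H) {d : Fin n → F} (hd : d ⬝ᵥ d ≠ 0) : R d ∉ H :=
  fun h => single_not_mem hH.two hd (hH.le h)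

/-- A fixed coordinate in the support of a fixed vector carries the sign one. -/
theorem fixed_of {z : O F n} {π : Fin n → Fin n} {s : Fin n → F} {v : Fin n → F}
    (hπ : ∀ m, z.1 (e m) = s m • e (π m)) (hv : ∀ m, s m * v (π m) = v m) {m : Fin n}
    (hm : π m = m) (hvm : v m ≠ 0) : z.1 (e m) = e m := by
  have := hv m
  rw [hm] at this
  rw [hπ, hm, show s m = 1 from mul_right_cancel₀ hvm (by rw [this, one_mul]), one_smul]

theorem sign_eq {π : Fin n → Fin n} {s : Fin n → F} {v : Fin n → F} (hs : ∀ m, s m * s m = 1)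
    (hπ2 : ∀ m, π (π m) = m) (hv : ∀ m, s m * v (π m) = v m) {p q : Fin n} (hpq : π p = q)
    (hne : v p ≠ 0) : s q = s p := by
  have hq : π q = p := by rw [← hpq, hπ2]
  have e1 := hv p
  have e2 := hv q
  rw [hpq] at e1; rw [hq] at e2
  have : (s p * s q - 1) * v p = 0 := by rw [← e2] at e1; linear_combination e1
  have h' := (mul_eq_zero.1 this).resolve_right hne
  linear_combination s p * h' - s q * hs p

theorem Over.swap_only (hH : Over H) (z : O F n) (p q : Fin n) (σ : F) (hz : z ∈ H) (hpq : p ≠ q)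
    (hσ : σ * σ = 1) (hp : z.1 (e p) = σ • e q) (hq : z.1 (e q) = σ • e p)
    (hf : ∀ m, m ≠ p → m ≠ q → z.1 (e m) = e m) : False := by
  have h2 := hH.two
  have hr := root_norm h2 hpq (show -σ * -σ = 1 by linear_combination hσ)
  refine hH.refl_not_mem (d := e p + (-σ) • e q) (by rw [hr.1]; exact h2) ?_
  convert hz using 1
  refine O_ext fun m => ?_
  rw [R_apply, hr.1, dotProduct_add, dotProduct_smul, dot_e, dot_e, smul_eq_mul]
  rcases eq_or_ne m p with rfl | hmp
  · rw [hp, e_apply, if_pos rfl, e_apply, if_neg hpq.symm, mul_zero, add_zero, mul_one, div_self h2]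
    module
  rcases eq_or_ne m q with rfl | hmq
  · rw [hq, e_apply, if_neg hpq, e_apply, if_pos rfl, mul_one, zero_add, mul_div_cancel_left₀ _ h2]
    funext r
    simp only [Pi.sub_apply, Pi.add_apply, Pi.smul_apply, smul_eq_mul]
    linear_combination -(e m r) * hσ
  · rw [hf m hmp hmq, e_apply, if_neg (Ne.symm hmp), e_apply, if_neg (Ne.symm hmq)]
    simp

theorem Over.single_neg (hH : Over H) (z : O F n) (p : Fin n) (hz : z ∈ H) (hp : z.1 (e p) = -e p)
    (hf : ∀ m, m ≠ p → z.1 (e m) = e m) : False := by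
  refine hH.refl_not_mem (d := e p) (by rw [ee]; exact one_ne_zero) ?_
  convert hz using 1
  refine O_ext fun m => ?_
  rcases eq_or_ne m p with rfl | hmp
  · rw [hp, R_neg (by rw [ee]; exact one_ne_zero)]
  · rw [hf m hmp, R_fix (ee_ne hmp)]

/-- The central involution for a sign change on four coordinates containing those of `u`. -/
theorem Bad.central' (hB : Bad H) {u c : Fin n → F} (h : Inv2 H u c) {a b k l : Fin n} (hab : a ≠ b)
    (hak : a ≠ k) (hal : a ≠ l) (hbk : b ≠ k) (hbl : b ≠ l) (hkl : k ≠ l) (hsub : supp u ⊆ {a, b})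
    (hcout : 3 ≤ (supp c \ ({a, b, k, l} : Finset (Fin n))).card) :
    ∃ z ∈ H, z ≠ 1 ∧
      (∀ m, m ∉ ({a, b, k, l} : Finset (Fin n)) → z.1 (e m) = e m) ∧
      ∃ π : Fin n → Fin n, ∃ s : Fin n → F, (∀ m, s m * s m = 1) ∧ (∀ m, z.1 (e m) = s m • e (π m)) ∧
        (∀ m, π (π m) = m) ∧
        (∀ m ∈ ({a, b, k, l} : Finset (Fin n)), π m ∈ ({a, b, k, l} : Finset (Fin n))) ∧
        (∀ m, s m * u (π m) = u m) ∧ ∀ m, s m * c (π m) = c m := by
  classical
  have h2 := hB.two
  obtain ⟨z, hz, m, hzm, hne, hsq, hct, hmono, hside, hnear⟩ := hB.exists_z h hab hak hal hbk hbl hkl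
  set S : Finset (Fin n) := {a, b, k, l} with hS
  have huS : ∀ m, m ∉ S → u m = 0 := fun m hm => not_mem_supp.1 fun h' => hm (by
    have := hsub h'
    simp only [hS, Finset.mem_insert, Finset.mem_singleton] at this ⊢
    tauto)
  have hεu : (eps4 (F := F) a b k l).1 u = -u := funext fun m => by
    rw [eps4_coord hab hak hal hbk hbl hkl h2, Pi.neg_apply]
    split_ifs with hm
    · rfl
    · rw [huS m hm, neg_zero]
  have hzu : z.1 u = u := by
    have hstep : (R u * R c * eps4 a b k l).1 u = u := by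
      rw [mul_apply, hεu, map_neg, h.pair.neg (InSpan.left _ _), neg_neg]
    rw [hzm]
    clear hzm
    induction m with
    | zero => rfl
    | succ m ih => rw [pow_succ, mul_apply, hstep, ih]
  have hzz : ∀ v, z.1 (z.1 v) = v := fun v => by rw [← mul_apply, hsq, one_apply]
  obtain ⟨α, β, hzc⟩ : InSpan u c (z.1 c) := h.pair.of_neg h2 (by
    rw [← mul_apply, ← hct.eq, mul_apply, h.pair.neg (InSpan.right _ _), map_neg])
  have hα : α = 0 := by
    have e1 := dot_map z h2 c u
    rw [hzc, hzu, add_dotProduct, smul_dotProduct, smul_dotProduct, dotProduct_comm c u, h.pair.orth,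
      smul_zero, add_zero, smul_eq_mul, mul_eq_zero] at e1
    exact e1.resolve_right h.pair.left
  rw [hα, zero_smul, zero_add] at hzc
  choose π s hs hπ using fun m => hmono.image m
  have hπ2 : ∀ m, π (π m) = m := fun m => by
    have e1 := hzz (e m)
    rw [hπ, map_smul, hπ, smul_smul] at e1
    by_contra hne'
    have := congrFun e1 m
    simp [e_apply, Ne.symm hne'] at this
  have hπS : ∀ m, m ∈ S ↔ π m ∈ S := fun m => hside m (π m) (by
    rw [hπ, Pi.smul_apply, e_apply, if_pos rfl, smul_eq_mul, mul_one]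
    exact fun h' => by simpa [h'] using hs m)
  have hcout : 3 ≤ (supp c \ S).card := hcout
  have hfix : ∀ m, m ∉ S → z.1 (e m) = e m := by
    intro m hm
    obtain ⟨p, q, hpq⟩ := hnear (e m)
    have hq : q = 0 := by
      by_contra hq
      have hsub' : supp c \ S ⊆ {m, π m} := fun r hr => by
        rw [Finset.mem_sdiff] at hr
        rw [Finset.mem_insert, Finset.mem_singleton]
        by_contra hne'
        push Not at hne'
        have := hpq r hr.2
        rw [huS r hr.2, hπ, Pi.smul_apply, e_apply, e_apply, if_neg hne'.1, if_neg hne'.2, smul_zero,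
          sub_zero, mul_zero, zero_add, eq_comm, mul_eq_zero] at this
        exact mem_supp.1 hr.1 (this.resolve_left hq)
      have := (Finset.card_le_card hsub').trans Finset.card_le_two
      omega
    funext r
    by_cases hr : r ∈ S
    · rw [hπ, Pi.smul_apply, e_apply, e_apply, if_neg (show r ≠ π m from fun h' => hm ((hπS m).2 (h' ▸ hr))),
        if_neg (show r ≠ m from fun h' => hm (h' ▸ hr)), smul_zero]
    · have := hpq r hr
      rw [huS r hr, hq, mul_zero, zero_mul, add_zero, sub_eq_zero] at this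
      exact this.symm
  obtain ⟨r, hr⟩ := Finset.card_pos.1 (show 0 < (supp c \ S).card by omega)
  rw [Finset.mem_sdiff] at hr
  have hβ : β = 1 := by
    have e1 := dot_map z h2 c (e r)
    rw [hzc, hfix r hr.2, smul_dotProduct, dot_e, smul_eq_mul] at e1
    exact mul_right_cancel₀ (mem_supp.1 hr.1) (by rw [e1, one_mul])
  rw [hβ, one_smul] at hzc
  refine ⟨z, hz, hne, hfix, π, s, hs, hπ, hπ2, fun m hm => (hπS m).1 hm, fun m => ?_, fun m => ?_⟩
  · simpa using mono_eigen h2 (ρ := 1) (by rw [hzu, one_smul]) (hπ m)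
  · simpa using mono_eigen h2 (ρ := 1) (by rw [hzc, one_smul]) (hπ m)

/-- The same for at least nine coordinates; the involution for a sign change on four coordinates containing those of `u`. -/
theorem Bad.central (hB : Bad H) {u c : Fin n → F} (h : Inv2 H u c) {a b k l : Fin n} (hab : a ≠ b)
    (hak : a ≠ k) (hal : a ≠ l) (hbk : b ≠ k) (hbl : b ≠ l) (hkl : k ≠ l) (hsub : supp u ⊆ {a, b}) (hn : 9 ≤ n) :
    ∃ z ∈ H, z ≠ 1 ∧
      (∀ m, m ∉ ({a, b, k, l} : Finset (Fin n)) → z.1 (e m) = e m) ∧
      ∃ π : Fin n → Fin n, ∃ s : Fin n → F, (∀ m, s m * s m = 1) ∧ (∀ m, z.1 (e m) = s m • e (π m)) ∧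
        (∀ m, π (π m) = m) ∧
        (∀ m ∈ ({a, b, k, l} : Finset (Fin n)), π m ∈ ({a, b, k, l} : Finset (Fin n))) ∧
        (∀ m, s m * u (π m) = u m) ∧ ∀ m, s m * c (π m) = c m := by
  classical
  have h2 := hB.two
  have hlarge : n ≤ (mov (R u * R c)).card + 2 := hB.mov_large h
  rw [h.pair.mov_eq h2] at hlarge
  set S : Finset (Fin n) := {a, b, k, l} with hS
  have huS : ∀ m, m ∉ S → u m = 0 := fun m hm => not_mem_supp.1 fun h' => hm (by
    have := hsub h'
    simp only [hS, Finset.mem_insert, Finset.mem_singleton] at this ⊢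
    tauto)
  have hcout : 3 ≤ (supp c \ S).card := by
    have h1 : (supp u ∪ supp c).card ≤ S.card + (supp c \ S).card := by
      refine (Finset.card_le_card (t := S ∪ (supp c \ S)) fun m hm => ?_).trans (Finset.card_union_le _ _)
      rw [Finset.mem_union, Finset.mem_sdiff]
      by_cases hmS : m ∈ S
      · exact Or.inl hmS
      · refine Or.inr ⟨(Finset.mem_union.1 hm).resolve_left fun h' => mem_supp.1 h' (huS m hmS), hmS⟩
    have : S.card ≤ 4 := Finset.card_le_four
    omega
  exact hB.central' h hab hak hal hbk hbl hkl hsub hcout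

theorem Bad.noaxis (hB : Bad H) {u c : Fin n → F} (h : Inv2 H u c) {a b : Fin n}
    (hsub : supp u ⊆ {a, b}) (hab : a ≠ b) (hn : 9 ≤ n) : u b ≠ 0 := by
  classical
  intro hb
  have h2 := hB.two
  have hlarge : n ≤ (mov (R u * R c)).card + 2 := hB.mov_large h
  rw [h.pair.mov_eq h2] at hlarge
  have hu0 : u ≠ 0 := fun h0 => h.pair.left (by rw [h0]; simp)
  obtain ⟨hua, hca⟩ : u a ≠ 0 ∧ c a = 0 := by
    have ha : ∀ m, m ≠ a → u m = 0 := fun m hm => not_mem_supp.1 fun h' => by
      have := hsub h'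
      rw [Finset.mem_insert, Finset.mem_singleton] at this
      rcases this with rfl | rfl
      · exact hm rfl
      · exact mem_supp.1 h' hb
    have hu' : u = u a • e a := eq_smul_e ha
    have hua : u a ≠ 0 := fun h0 => hu0 (by rw [hu', h0, zero_smul])
    refine ⟨hua, ?_⟩
    have := h.pair.orth
    rw [hu', smul_dotProduct, e_dot, smul_eq_mul, mul_eq_zero] at this
    exact this.resolve_left hua
  have ha : supp u ⊆ {a} := fun m hm => by
    have := hsub hm
    simp only [Finset.mem_insert, Finset.mem_singleton] at this ⊢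
    exact this.resolve_right fun (h' : m = b) => mem_supp.1 hm (h' ▸ hb)
  have hcc : 3 ≤ (supp c).card := by
    have := (Finset.card_union_le (supp u) (supp c))
    have := (Finset.card_le_card ha).trans (Finset.card_singleton a).le
    omega
  obtain ⟨p, q, r, hp, hq, hr, hpq, hpr, hqr⟩ := Finset.two_lt_card_iff.1 (show 2 < (supp c).card by omega)
  have hne : ∀ m ∈ supp c, a ≠ m := fun m hm h' => mem_supp.1 hm (h' ▸ hca)
  obtain ⟨z, hz, hz1, hout, π, s, hs, hπ, hπ2, hπS, hπu, hπc⟩ := hB.central h (hne p hp) (hne q hq)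
    (hne r hr) hpq hpr hqr (ha.trans (by simp)) hn
  have hπa : π a = a := by
    have h1 := hπu a
    have : π a ∈ supp u := mem_supp.2 fun h' => hua (by rw [← h1, h', mul_zero])
    simpa using ha this
  have hfa := fixed_of hπ hπu hπa hua
  have hS3 : ∀ m, m = p ∨ m = q ∨ m = r → π m = p ∨ π m = q ∨ π m = r := fun m hm => by
    have := hπS m (by rcases hm with rfl | rfl | rfl <;> simp)
    simp only [Finset.mem_insert, Finset.mem_singleton] at this
    rcases this with h' | h'
    · have e1 : m = a := by rw [← hπ2 m, h', hπa]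
      rcases hm with rfl | rfl | rfl
      · exact absurd e1.symm (hne m hp)
      · exact absurd e1.symm (hne m hq)
      · exact absurd e1.symm (hne m hr)
    · exact h'
  have hfix3 : ∀ m, m ∈ supp c → π m = m → z.1 (e m) = e m := fun m hm hmm =>
    fixed_of hπ hπc hmm (mem_supp.1 hm)
  have hother : ∀ m, m ≠ p → m ≠ q → m ≠ r → z.1 (e m) = e m := fun m h1 h2' h3 => by
    by_cases hma : m = a
    · exact hma ▸ hfa
    · exact hout m (by simp [hma, h1, h2', h3])
  have hswap : ∀ x y w : Fin n, x ≠ y → x ∈ supp c → π x = y → π w = w → w ∈ supp c →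
      (∀ m, m ≠ x → m ≠ y → m ≠ w → z.1 (e m) = e m) → False := fun x y w hxy hxc hx hw hwc hf => by
    have hy : π y = x := by rw [← hx, hπ2]
    have hsy : s y = s x := sign_eq hs hπ2 hπc hx (mem_supp.1 hxc)
    exact hB.swap_only z x y (s x) hz hxy (hs x) (by rw [hπ, hx]) (by rw [hπ, hy, hsy]) fun m h1 h2' => by
      by_cases hmw : m = w
      · exact hmw ▸ hfix3 w hwc hw
      · exact hf m h1 h2' hmw
  rcases hS3 p (Or.inl rfl) with hp' | hp' | hp'
  · rcases hS3 q (Or.inr (Or.inl rfl)) with hq' | hq' | hq'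
    · exact hpq (by rw [← hπ2 q, hq', hp'])
    · have hr' : π r = r := by
        rcases hS3 r (Or.inr (Or.inr rfl)) with h' | h' | h'
        · exact absurd (by rw [← hπ2 r, h', hp'] : r = p) hpr.symm
        · exact absurd (by rw [← hπ2 r, h', hq'] : r = q) hqr.symm
        · exact h'
      refine hz1 (O_ext fun m => ?_)
      rw [one_apply]
      by_cases h1 : m = p
      · exact h1 ▸ hfix3 p hp hp'
      by_cases h2' : m = q
      · exact h2' ▸ hfix3 q hq hq'
      by_cases h3 : m = r
      · exact h3 ▸ hfix3 r hr hr'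
      exact hother m h1 h2' h3
    · exact hswap q r p hqr hq hq' hp' hp fun m h1 h2' h3 => hother m h3 h1 h2'
  · refine hswap p q r hpq hp hp' ?_ hr hother
    rcases hS3 r (Or.inr (Or.inr rfl)) with h' | h' | h'
    · exact absurd (by rw [← hπ2 r, h', hp'] : r = q) hqr.symm
    · exact absurd (by rw [← hπ2 r, h', ← hp', hπ2] : r = p) hpr.symm
    · exact h'
  · refine hswap p r q hpr hp hp' ?_ hq fun m h1 h2' h3 => hother m h1 h3 h2'
    rcases hS3 q (Or.inr (Or.inl rfl)) with h' | h' | h'
    · exact absurd (by rw [← hπ2 q, h', hp'] : q = r) hqr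
    · exact h'
    · exact absurd (by rw [← hπ2 q, h', ← hp', hπ2] : q = p) hpq.symm

theorem Bad.analyse (hB : Bad H) {u c : Fin n → F} (h : Inv2 H u c) {i j k l : Fin n} (hij : i ≠ j)
    (hu : supp u ⊆ {i, j}) (hki : k ≠ i) (hkj : k ≠ j) (hli : l ≠ i) (hlj : l ≠ j) (hkl : k ≠ l)
    (hcl : c l ≠ 0) (hn : 9 ≤ n) :
    u i * u i = u j * u j ∧ c i = 0 ∧ c j = 0 ∧ c k ≠ 0 ∧ c k * c k = c l * c l := by
  classical
  have h2 := hB.two
  have hlarge : n ≤ (mov (R u * R c)).card + 2 := hB.mov_large h
  rw [h.pair.mov_eq h2] at hlarge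
  have huj : u j ≠ 0 := hB.noaxis h hu hij hn
  have hui : u i ≠ 0 := hB.noaxis h (by rwa [Finset.pair_comm]) hij.symm hn
  obtain ⟨z, hz, hz1, hout, π, s, hs, hπ, hπ2, hπS, hπu, hπc⟩ :=
    hB.central h hij hki.symm hli.symm hkj.symm hlj.symm hkl hu hn
  have hother : ∀ m, m ≠ i → m ≠ j → m ≠ k → m ≠ l → z.1 (e m) = e m := fun m h1 h2' h3 h4 =>
    hout m (by simp [h1, h2', h3, h4])
  have huv : ∀ m, m = i ∨ m = j → π m = i ∨ π m = j := fun m hm => by
    have : π m ∈ supp u := mem_supp.2 fun h' => by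
      have := hπu m
      rw [h', mul_zero] at this
      rcases hm with rfl | rfl
      · exact hui this.symm
      · exact huj this.symm
    simpa using hu this
  have hkl' : ∀ m, m = k ∨ m = l → π m = k ∨ π m = l := fun m hm => by
    have h1 := hπS m (by rcases hm with rfl | rfl <;> simp)
    simp only [Finset.mem_insert, Finset.mem_singleton] at h1
    rcases h1 with h1 | h1 | h1
    · have := huv i (Or.inl rfl); rw [← h1, hπ2] at this
      rcases hm with rfl | rfl <;> tauto
    · have := huv j (Or.inr rfl); rw [← h1, hπ2] at this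
      rcases hm with rfl | rfl <;> tauto
    · exact h1
  rcases huv i (Or.inl rfl) with hi' | hi'
  · exfalso
    have hj' : π j = j := (huv j (Or.inr rfl)).resolve_left fun h' =>
      hij (by rw [← hπ2 j, h', hi'])
    have hfi := fixed_of hπ hπu hi' hui
    have hfj := fixed_of hπ hπu hj' huj
    rcases hkl' l (Or.inr rfl) with hl' | hl'
    · refine hB.swap_only z l k (s l) hz hkl.symm (hs l) (by rw [hπ, hl'])
        (by rw [hπ, ← hl', hπ2, hl', sign_eq hs hπ2 hπc hl' hcl]) fun m h1 h2' => ?_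
      by_cases h3 : m = i
      · exact h3 ▸ hfi
      by_cases h4 : m = j
      · exact h4 ▸ hfj
      exact hother m h3 h4 h2' h1
    · have hk' : π k = k := (hkl' k (Or.inl rfl)).resolve_right fun h' =>
        hkl (by rw [← hπ2 k, h', hl'])
      have hfl := fixed_of hπ hπc hl' hcl
      have hrest : ∀ m, m ≠ k → z.1 (e m) = e m := fun m hm => by
        by_cases h3 : m = i
        · exact h3 ▸ hfi
        by_cases h4 : m = j
        · exact h4 ▸ hfj
        by_cases h5 : m = l
        · exact h5 ▸ hfl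
        exact hother m h3 h4 hm h5
      rcases mul_self_eq_one_iff.1 (hs k) with e1 | e1
      · refine hz1 (O_ext fun m => ?_)
        by_cases hm : m = k
        · rw [hm, one_apply, hπ, hk', e1, one_smul]
        · rw [one_apply, hrest m hm]
      · exact hB.single_neg z k hz (by rw [hπ, hk', e1, neg_one_smul]) hrest
  have hj' : π j = i := by rw [← hi', hπ2]
  have hsj : s j = s i := sign_eq hs hπ2 hπu hi' hui
  have eu := hπu i
  have ec := hπc i
  rw [hi'] at eu ec
  have horth : u i * c i + u j * c j = 0 := by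
    have := h.pair.orth
    rw [dotProduct, ← Finset.sum_subset (Finset.subset_univ ({i, j} : Finset (Fin n))) fun m _ hm => by
      rw [not_mem_supp.1 fun h' => hm (hu h'), zero_mul], Finset.sum_pair hij] at this
    exact this
  have hcj : c j = 0 := by
    have : 2 * (u j * c j) = 0 := by
      rw [← eu, ← ec] at horth
      linear_combination horth - u j * c j * hs i
    simpa [h2, huj] using this
  have hci : c i = 0 := by rw [← ec, hcj, mul_zero]
  have huu : u i * u i = u j * u j := by rw [← eu]; linear_combination u j * u j * hs i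
  refine ⟨huu, hci, hcj, ?_⟩
  rcases hkl' l (Or.inr rfl) with hl' | hl'
  · have e1 := hπc l
    rw [hl'] at e1
    exact ⟨fun h0 => hcl (by rw [← e1, h0, mul_zero]),
      by rw [← e1]; linear_combination -(c k * c k) * hs l⟩
  have hk' : π k = k := (hkl' k (Or.inl rfl)).resolve_right fun h' =>
    hkl (by rw [← hπ2 k, h', hl'])
  have hfl := fixed_of hπ hπc hl' hcl
  have hrest : ∀ m, m ≠ i → m ≠ j → m ≠ k → z.1 (e m) = e m := fun m h1 h3 h4 => by
    by_cases h5 : m = l
    · exact h5 ▸ hfl
    exact hother m h1 h3 h4 h5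
  exfalso
  have hsk : s k = -1 := (mul_self_eq_one_iff.1 (hs k)).resolve_left fun e1 =>
    hB.swap_only z i j (s i) hz hij (hs i) (by rw [hπ, hi']) (by rw [hπ, hj', hsj]) fun m h1 h3 => by
      by_cases h4 : m = k
      · rw [h4, hπ, hk', e1, one_smul]
      · exact hrest m h1 h3 h4
  have hck : c k = 0 := by
    have e1 := hπc k
    rw [hk', hsk] at e1
    have : 2 * c k = 0 := by linear_combination -e1
    simpa [h2] using this
  -- the vector `c` is related to a frame vector
  set σ := -s i with hσ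
  have hσσ : σ * σ = 1 := by rw [hσ]; linear_combination hs i
  set d : Fin n → F := e i + σ • e j with hd
  have hr := root_norm h2 hij hσσ
  have hzz : z = R (e k) * R d := by
    refine O_ext fun m => ?_
    rw [mul_apply, R_apply d, hr.1, hd, dotProduct_add, dotProduct_smul, dot_e, dot_e, smul_eq_mul]
    rcases eq_or_ne m i with rfl | hmi
    · rw [hπ, hi', e_apply, if_pos rfl, e_apply, if_neg hij.symm, mul_zero, add_zero, mul_one,
        div_self h2, one_smul, sub_add_cancel_left, map_neg, map_smul, R_fix (ee_ne hkj.symm), hσ]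
      module
    rcases eq_or_ne m j with rfl | hmj
    · rw [hπ, hj', hsj, e_apply, if_neg hij, e_apply, if_pos rfl, mul_one, zero_add,
        mul_div_cancel_left₀ _ h2, smul_add, smul_smul, hσσ, one_smul, sub_add_cancel_right, map_neg,
        map_smul, R_fix (ee_ne hki.symm), hσ]
      module
    · rw [e_apply, if_neg (Ne.symm hmi), e_apply, if_neg (Ne.symm hmj), mul_zero, add_zero, mul_zero,
        zero_div, zero_smul, sub_zero]
      rcases eq_or_ne m k with rfl | hmk
      · rw [hπ, hk', hsk, R_neg (by rw [ee]; exact one_ne_zero), neg_one_smul]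
      · rw [hrest m hmi hmj hmk, R_fix (ee_ne hmk)]
  have hud : u ⬝ᵥ d = 0 := by
    rw [hd, dotProduct_add, dotProduct_smul, dot_e, dot_e, smul_eq_mul, hσ, ← eu]
    ring
  have hdspan : InSpan (e i) (e j) d := ⟨1, σ, by rw [one_smul]⟩
  have huspan : InSpan (e i) (e j) u := by
    refine ⟨u i, u j, funext fun m => ?_⟩
    rw [Pi.add_apply, Pi.smul_apply, Pi.smul_apply, e_apply, e_apply]
    by_cases h1 : m = i
    · subst h1; simp [hij]
    by_cases h3 : m = j
    · subst h3; simp [hij.symm]
    rw [if_neg h1, if_neg h3, smul_zero, smul_zero, add_zero]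
    exact not_mem_supp.1 fun h' => by simpa [h1, h3] using hu h'
  have hpe : Pair (e (F := F) i) (e j) :=
    ⟨by rw [ee]; exact one_ne_zero, by rw [ee]; exact one_ne_zero, ee_ne hij⟩
  have hud' : Rel H u d := by
    rw [Rel, hpe.rebase h2 ⟨h.pair.left, by rw [hr.1]; exact h2, hud⟩ huspan hdspan]
    exact hB.rel_e i j
  have hck' : Rel H c (e k) := (h.rel.symm.trans hud').trans (show Rel H d (e k) from
    Rel.symm (show Rel H (e k) d by rw [Rel, ← hzz]; exact hz))
  have hsqc : IsSquare ((c ⬝ᵥ c) * (e (F := F) k ⬝ᵥ e k)) :=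
    (pair_mem_iff h2 h.pair.right (by rw [ee]; exact one_ne_zero)).1 (hB.le hck')
  rw [ee, mul_one] at hsqc
  obtain ⟨r, hr'⟩ := hsqc
  have hr0 : r ≠ 0 := fun h0 => h.pair.right (by rw [hr', h0, mul_zero])
  have hv : InV H (r⁻¹ • c) := hB.toOver.inV_of_rel (a := k) (by
    rw [smul_dotProduct, dotProduct_smul, hr', smul_eq_mul, smul_eq_mul]; field_simp) (by
    rw [Rel, R_smul (inv_ne_zero hr0)]; exact hck')
  have hle : supp c ⊆ ((Finset.univ.erase i).erase j).erase k := fun m hm => by
    simp only [Finset.mem_erase, Finset.mem_univ, and_true]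
    exact ⟨fun h' => mem_supp.1 hm (h' ▸ hck), fun h' => mem_supp.1 hm (h' ▸ hcj),
      fun h' => mem_supp.1 hm (h' ▸ hci)⟩
  have h3 := Finset.card_le_card hle
  rw [Finset.card_erase_of_mem (by simp [hkj, hki]), Finset.card_erase_of_mem (by simp [hij.symm]),
    Finset.card_erase_of_mem (by simp), Finset.card_univ, Fintype.card_fin] at h3
  have h4 := Finset.card_union_le (supp u) (supp c)
  have h5 := (Finset.card_le_card hu).trans Finset.card_le_two
  exact not_root_of_three (v := r⁻¹ • c) (by rw [supp_smul (inv_ne_zero hr0)]; omega)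
    (hB.nosmall _ hv (by rw [supp_smul (inv_ne_zero hr0)]; omega))

/-- The shape of an involution negating a plane through a vector on two coordinates. -/
theorem Bad.shape (hB : Bad H) {u c : Fin n → F} (h : Inv2 H u c) {i j : Fin n} (hij : i ≠ j)
    (hu : supp u ⊆ {i, j}) (hn : 9 ≤ n) :
    u i ≠ 0 ∧ u j ≠ 0 ∧ u i * u i = u j * u j ∧ c i = 0 ∧ c j = 0 ∧
      (∀ k, k ≠ i → k ≠ j → c k ≠ 0) ∧
      ∀ k l, k ≠ i → k ≠ j → l ≠ i → l ≠ j → c k * c k = c l * c l := by
  classical
  have hlarge : n ≤ (mov (R u * R c)).card + 2 := hB.mov_large h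
  rw [h.pair.mov_eq hB.two] at hlarge
  have huj : u j ≠ 0 := hB.noaxis h hu hij hn
  have hui : u i ≠ 0 := hB.noaxis h (by rwa [Finset.pair_comm]) hij.symm hn
  have hcS : ∀ k, k ≠ i → k ≠ j → ∃ l, l ≠ i ∧ l ≠ j ∧ k ≠ l ∧ c l ≠ 0 := fun k _ _ => by
    have h4 := Finset.card_union_le (supp u) (supp c)
    have h5 := (Finset.card_le_card hu).trans Finset.card_le_two
    obtain ⟨l, hl, hl'⟩ := Finset.exists_mem_notMem_of_card_lt_card
      (show ({i, j, k} : Finset (Fin n)).card < (supp c).card from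
        lt_of_le_of_lt Finset.card_le_three (by omega))
    simp only [Finset.mem_insert, Finset.mem_singleton, not_or] at hl'
    exact ⟨l, hl'.1, hl'.2.1, Ne.symm hl'.2.2, mem_supp.1 hl⟩
  obtain ⟨k₀, -, hk₀⟩ := Finset.exists_mem_notMem_of_card_lt_card
    (show ({i, j} : Finset (Fin n)).card < (Finset.univ : Finset (Fin n)).card from
      lt_of_le_of_lt Finset.card_le_two (by simp; omega))
  simp only [Finset.mem_insert, Finset.mem_singleton, not_or] at hk₀
  obtain ⟨l₀, h1, h3, h4, h5⟩ := hcS k₀ hk₀.1 hk₀.2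
  obtain ⟨huu, hci, hcj, -⟩ := hB.analyse h hij hu hk₀.1 hk₀.2 h1 h3 h4 h5 hn
  have hcne : ∀ k, k ≠ i → k ≠ j → c k ≠ 0 := fun k hki hkj => by
    obtain ⟨l, h1, h3, h4, h5⟩ := hcS k hki hkj
    exact (hB.analyse h hij hu hki hkj h1 h3 h4 h5 hn).2.2.2.1
  refine ⟨hui, huj, huu, hci, hcj, hcne, fun k l hki hkj hli hlj => ?_⟩
  rcases eq_or_ne k l with rfl | hkl
  · rfl
  exact (hB.analyse h hij hu hki hkj hli hlj hkl (hcne l hli hlj) hn).2.2.2.2

end CfsgLib.Geo.OFrame
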