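import Cfsg.Agent.Geo.OrthFrame.Seven

/-!
Either an overgroup of the monomial group is monomial, or a non-root vector of small support is related
to the frame.
-/

set_option autoImplicit false
set_option linter.unusedSectionVars false

namespace CfsgLib.Geo.OFrame

open QuadraticMap CfsgLib.Forms CfsgLib.Quad Matrix

variable {F : Type*} [Field F] [Finite F] [DecidableEq F] {n : ℕ} {H : Subgroup (O F n)}

/-- An element of the overgroup changing the signs of exactly the coordinates in the set. -/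
def Flips (H : Subgroup (O F n)) (T : Finset (Fin n)) : Prop :=
  ∃ g ∈ H, ∀ (v : Fin n → F) (k : Fin n), g.1 v k = if k ∈ T then -v k else v k

theorem R_e_coord (p : Fin n) (v : Fin n → F) (k : Fin n) :
    (R (e p) : O F n).1 v k = if k = p then -v k else v k := by
  rw [R_apply, ee, dot_e, div_one, Pi.sub_apply, Pi.smul_apply, e_apply, smul_eq_mul]
  split_ifs with h
  · subst h; ring
  · ring

theorem Over.flips_nil (hH : Over H) : Flips H ∅ := ⟨1, one_mem _, fun v k => by simp [one_apply]⟩

theorem Flips.pair (hH : Over H) {T : Finset (Fin n)} (hT : Flips H T) {p q : Fin n} (hp : p ∉ T)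
    (hq : q ∉ T) (hpq : p ≠ q) : Flips H (insert p (insert q T)) := by
  obtain ⟨g, hg, hgv⟩ := hT
  refine ⟨R (e p) * R (e q) * g, mul_mem (hH.rel_e p q) hg, fun v k => ?_⟩
  rw [mul_apply, mul_apply, R_e_coord, R_e_coord, hgv]
  simp only [Finset.mem_insert]
  by_cases h1 : k = p
  · subst h1; simp [hpq, hp]
  by_cases h2 : k = q
  · subst h2; simp [hpq.symm, hq]
  simp [h1, h2]

theorem Over.flips_even (hH : Over H) : ∀ (m : ℕ) (T : Finset (Fin n)), T.card = 2 * m → Flips H T
  | 0, T, h => by rw [Finset.card_eq_zero.1 h]; exact hH.flips_nil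
  | m + 1, T, h => by
    obtain ⟨p, hp⟩ := Finset.card_pos.1 (show 0 < T.card by omega)
    obtain ⟨q, hq, hqp⟩ := Finset.exists_mem_ne (show 1 < T.card by omega) p
    have h1 := Finset.card_erase_of_mem hp
    have h2 : ((T.erase p).erase q).card = (T.erase p).card - 1 :=
      Finset.card_erase_of_mem (Finset.mem_erase.2 ⟨hqp, hq⟩)
    have h3 := (Over.flips_even hH m ((T.erase p).erase q) (by omega)).pair hH (p := p) (q := q)
      (by simp) (by simp) hqp.symm
    rwa [Finset.insert_erase (Finset.mem_erase.2 ⟨hqp, hq⟩), Finset.insert_erase hp] at h3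

theorem Bad.no_short (hB : Bad H) {u c : Fin n → F} (h : Inv2 H u c) {i j : Fin n} (hij : i ≠ j)
    (hu : supp u ⊆ {i, j}) (hn : 9 ≤ n) : False := by
  classical
  have h2 := hB.two
  obtain ⟨hui, huj, -, hci, hcj, hcne, hceq⟩ := hB.shape h hij hu hn
  set C := (Finset.univ.erase i).erase j with hC
  have hCcard : C.card = n - 2 := by
    rw [hC, Finset.card_erase_of_mem (by simp [hij.symm]), Finset.card_erase_of_mem (by simp),
      Finset.card_univ, Fintype.card_fin]
    omega
  have hCmem : ∀ k, k ∈ C ↔ k ≠ i ∧ k ≠ j := fun k => by simp [hC, and_comm]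
  obtain ⟨k₀, hk₀⟩ := Finset.card_pos.1 (show 0 < C.card by omega)
  set A := c k₀ * c k₀
  have hA : ∀ k ∈ C, c k * c k = A := fun k hk => hceq k k₀ ((hCmem k).1 hk).1 ((hCmem k).1 hk).2
    ((hCmem k₀).1 hk₀).1 ((hCmem k₀).1 hk₀).2
  have hsum : ∀ (f : Fin n → F), f ⬝ᵥ c = ∑ k ∈ C, f k * c k := fun f => by
    refine (Finset.sum_subset (Finset.subset_univ C) fun k _ hk => ?_).symm
    rw [hCmem, not_and_or, not_not, not_not] at hk
    rcases hk with rfl | rfl <;> simp [hci, hcj]
  have hcc : c ⬝ᵥ c = (C.card : F) * A := by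
    rw [hsum, Finset.sum_congr rfl hA, Finset.sum_const, nsmul_eq_mul]
  have key : ∀ (m : ℕ) (T : Finset (Fin n)), T ⊆ C → T.card = 2 * m → 3 ≤ T.card →
      T.card + 3 ≤ C.card → (C.card : F) = 2 * (T.card : F) := by
    intro m T hTC hTm hT3 hT3'
    obtain ⟨g, hg, hgv⟩ := Over.flips_even hB.toOver m T hTm
    have hgu : g.1 u = u := funext fun k => by
      rw [hgv]
      split_ifs with hk
      · have : u k = 0 := not_mem_supp.1 fun h' => by
          have h1 := hu h'
          simp only [Finset.mem_insert, Finset.mem_singleton] at h1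
          have := (hCmem k).1 (hTC hk)
          tauto
        rw [this, neg_zero]
      · rfl
    set d := (R c).1 (g.1 c) with hd
    have hudot : u ⬝ᵥ d = 0 := by
      have e1 : (R c).1 u = u := R_fix h.pair.orth
      rw [hd, ← e1, dot_map (R c) h2, ← hgu, dot_map g h2]
      exact h.pair.orth
    have hp : Pair u d := ⟨h.pair.left, by rw [hd, self_map, self_map]; exact h.pair.right, hudot⟩
    have hrel : Rel H u d := by
      have h1 : Rel H u (g.1 c) := by have := h.rel.map hg; rwa [hgu] at this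
      have h3 := mul_mem h.rel (mul_mem (h1.symm.trans h.rel) (one_mem H))
      rw [mul_one] at h3
      rw [Rel, hd, ← R_conj']
      convert h3 using 1
      simp only [mul_assoc]
    set ρ := (g.1 c ⬝ᵥ c) / (c ⬝ᵥ c) with hρ
    have hdk : ∀ k, d k = g.1 c k - 2 * ρ * c k := fun k => by
      rw [hd, R_apply, Pi.sub_apply, Pi.smul_apply, smul_eq_mul, hρ]; ring
    have hgc : g.1 c ⬝ᵥ c = ((C.card : F) - 2 * (T.card : F)) * A := by
      have s1 : ∑ k ∈ C \ T, g.1 c k * c k = ∑ _k ∈ C \ T, A := Finset.sum_congr rfl fun k hk => by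
        rw [Finset.mem_sdiff] at hk
        rw [hgv, if_neg hk.2, hA k hk.1]
      have s2 : ∑ k ∈ T, g.1 c k * c k = ∑ _k ∈ T, -A := Finset.sum_congr rfl fun k hk => by
        rw [hgv, if_pos hk, neg_mul, hA k (hTC hk)]
      rw [hsum, ← Finset.sum_sdiff hTC, s1, s2, Finset.sum_const, Finset.sum_const, nsmul_eq_mul,
        nsmul_eq_mul, Finset.card_sdiff_of_subset hTC, Nat.cast_sub (Finset.card_le_card hTC)]
      ring
    have hTsupp : 1 + 2 * ρ ≠ 0 → T ⊆ supp d := fun hne k hk => by
      rw [mem_supp, hdk, hgv, if_pos hk]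
      intro h0
      exact mul_ne_zero hne (hcne k ((hCmem k).1 (hTC hk)).1 ((hCmem k).1 (hTC hk)).2)
        (by linear_combination -h0)
    have hCsupp : 1 - 2 * ρ ≠ 0 → C \ T ⊆ supp d := fun hne k hk => by
      rw [Finset.mem_sdiff] at hk
      rw [mem_supp, hdk, hgv, if_neg hk.2]
      intro h0
      exact mul_ne_zero hne (hcne k ((hCmem k).1 hk.1).1 ((hCmem k).1 hk.1).2)
        (by linear_combination h0)
    have hd3 : 3 ≤ (supp d).card := by
      by_cases hne : 1 + 2 * ρ = 0
      · have h1 := Finset.card_le_card (hCsupp fun h0 => h2 (by linear_combination h0 + hne))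
        rw [Finset.card_sdiff_of_subset hTC] at h1
        omega
      · exact le_trans hT3 (Finset.card_le_card (hTsupp hne))
    have hnm : ¬ Mono (R u * R d) := fun hm => by
      have h1 := hp.supp_eq h2 hm (InSpan.right _ _) hd3
      have h3 : i ∈ supp d := by rw [h1, hp.mov_eq h2]; exact Finset.mem_union_left _ (mem_supp.2 hui)
      rw [mem_supp, hdk, hgv, hci] at h3
      simp at h3
    obtain ⟨-, -, -, -, -, hdne, hdeq⟩ := hB.shape ⟨hp, hrel, hnm⟩ hij hu hn
    obtain ⟨p, hp'⟩ := Finset.card_pos.1 (show 0 < T.card by omega)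
    obtain ⟨q, hq'⟩ := Finset.card_pos.1 (show 0 < (C \ T).card by
      rw [Finset.card_sdiff_of_subset hTC]; omega)
    rw [Finset.mem_sdiff] at hq'
    have hpC := (hCmem p).1 (hTC hp')
    have hqC := (hCmem q).1 hq'.1
    have e1 := hdeq p q hpC.1 hpC.2 hqC.1 hqC.2
    rw [hdk, hdk, hgv, hgv, if_pos hp', if_neg hq'.2] at e1
    have e2 : 2 * 2 * 2 * ρ * A = 0 := by
      linear_combination e1 - ((1 + 2 * ρ) * (1 + 2 * ρ)) * hA p (hTC hp') +
        ((1 - 2 * ρ) * (1 - 2 * ρ)) * hA q hq'.1
    have hA0 : A ≠ 0 := mul_ne_zero (hcne k₀ ((hCmem k₀).1 hk₀).1 ((hCmem k₀).1 hk₀).2)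
      (hcne k₀ ((hCmem k₀).1 hk₀).1 ((hCmem k₀).1 hk₀).2)
    have hρ0 : ρ = 0 := by simpa [h2, hA0] using e2
    rw [hρ, hgc, div_eq_zero_iff] at hρ0
    exact sub_eq_zero.1 ((mul_eq_zero.1 (hρ0.resolve_right h.pair.right)).resolve_right hA0)
  obtain ⟨T4, hT4, hc4⟩ := Finset.exists_subset_card_eq (show 4 ≤ C.card by omega)
  -- the flip on four coordinates gives a second vector orthogonal to `c`
  have e4 := key 2 T4 hT4 (by omega) (by omega) (by omega)
  obtain ⟨g, hg, hgv⟩ := Over.flips_even hB.toOver 2 T4 (by omega)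
  have hgu : g.1 u = u := funext fun k => by
    rw [hgv]
    split_ifs with hk
    · have : u k = 0 := not_mem_supp.1 fun h' => by
        have h1 := hu h'
        simp only [Finset.mem_insert, Finset.mem_singleton] at h1
        have := (hCmem k).1 (hT4 hk)
        tauto
      rw [this, neg_zero]
    · rfl
  set c' := g.1 c with hc'
  have hc'c : c' ⬝ᵥ c = 0 := by
    have s1 : ∑ k ∈ C \ T4, c' k * c k = ∑ _k ∈ C \ T4, A := Finset.sum_congr rfl fun k hk => by
      rw [Finset.mem_sdiff] at hk
      rw [hc', hgv, if_neg hk.2, hA k hk.1]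
    have s2 : ∑ k ∈ T4, c' k * c k = ∑ _k ∈ T4, -A := Finset.sum_congr rfl fun k hk => by
      rw [hc', hgv, if_pos hk, neg_mul, hA k (hT4 hk)]
    rw [hsum, ← Finset.sum_sdiff hT4, s1, s2, Finset.sum_const, Finset.sum_const, nsmul_eq_mul,
      nsmul_eq_mul, Finset.card_sdiff_of_subset hT4, Nat.cast_sub (Finset.card_le_card hT4)]
    linear_combination A * e4
  have hself : c' ⬝ᵥ c' = c ⬝ᵥ c := self_map g c
  have hp : Pair c c' := ⟨h.pair.right, by rw [hself]; exact h.pair.right,
    by rw [dotProduct_comm, hc'c]⟩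
  have hrel : Rel H c c' := by
    have h1 : Rel H u c' := by have := h.rel.map hg; rwa [hgu] at this
    exact h.rel.symm.trans h1
  have hci' : c' i = 0 := by rw [hc', hgv, hci]; simp
  have hti : (R c * R c').1 (e i) = e i := by
    rw [hp.apply, e_dot, e_dot, hci, hci']; simp
  obtain ⟨k, hk⟩ := Finset.card_pos.1 (show 0 < T4.card by omega)
  have hkC := (hCmem k).1 (hT4 hk)
  have hck : c k ≠ 0 := hcne k hkC.1 hkC.2
  have hA0 : A ≠ 0 := mul_ne_zero (hcne k₀ ((hCmem k₀).1 hk₀).1 ((hCmem k₀).1 hk₀).2)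
    (hcne k₀ ((hCmem k₀).1 hk₀).1 ((hCmem k₀).1 hk₀).2)
  have hC8 : (C.card : F) = 8 := by rw [e4, hc4]; norm_num
  have h8 : (8 : F) * A ≠ 0 := by
    rw [← hC8, ← hcc]; exact h.pair.right
  set v := (R c * R c').1 (e k) with hv
  have hvV : InV H v := hB.inV_of_rel (a := i) (by rw [hv, self_map, ee]) (by
    have := (hB.rel_e k i).map hrel
    rwa [hti] at this)
  have hvj : ∀ m, v m = (if m = k then 1 else 0) - 2 * c k / (8 * A) * (c m - c' m) := fun m => by
    rw [hv, hp.apply, hself, hcc, hC8, e_dot, e_dot,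
      show c' k = -c k by rw [hc', hgv, if_pos hk], Pi.sub_apply, Pi.sub_apply, Pi.smul_apply,
      Pi.smul_apply, e_apply, smul_eq_mul, smul_eq_mul]
    ring
  have hsupp : supp v = T4 := by
    ext m
    rw [mem_supp, hvj, hc', hgv]
    by_cases hm : m ∈ T4
    · simp only [hm, if_true, iff_true]
      intro h0
      have e1 : (8 : F) * A * (if m = k then 1 else 0) = 4 * (c k * c m) := by
        have := sub_eq_zero.1 h0
        rw [div_mul_eq_mul_div, eq_div_iff h8] at this
        linear_combination this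
      split_ifs at e1 with hmk
      · rw [hmk, hA k (hT4 hk)] at e1
        exact mul_ne_zero (mul_ne_zero h2 h2) hA0 (by linear_combination e1)
      · have hmC := (hCmem m).1 (hT4 hm)
        exact mul_ne_zero (mul_ne_zero h2 h2) (mul_ne_zero hck (hcne m hmC.1 hmC.2))
          (by linear_combination -e1)
    · have hmk : m ≠ k := fun h' => hm (h' ▸ hk)
      simp [hm, hmk]
  exact not_root_of_three (by rw [hsupp]; omega) (hB.nosmall v hvV (by rw [hsupp]; omega))

/-- Without small non-root vectors related to the frame an overgroup is monomial. -/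
theorem Bad.mono (hB : Bad H) {g : O F n} (hg : g ∈ H) : Mono g := by
  by_contra hgm
  obtain ⟨x, y, hxy⟩ := hB.exists_inv2 hg hgm
  obtain ⟨u, c, i, j, hI, hij, hu⟩ := hB.exists_short hxy
  rcases hB.alt with h9 | h7
  · exact hB.no_short hI hij hu h9
  · exact hB.no_short_seven h7 hI hij hu

/-- A non-monomial overgroup has a non-root vector of small support related to the frame. -/
theorem Over.exists_small (hH : Over H) (hn : 9 ≤ n ∨ n = 7)
    (h3 : (3 : F) = 0 → ∀ x : F, x * x ≠ -1) {g : O F n} (hg : g ∈ H) (hgm : ¬ Mono g) :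
    ∃ v, InV H v ∧ (supp v).card + 3 ≤ n ∧ ¬ Root v := by
  by_contra h
  push Not at h
  exact hgm ((Bad.mk hH (by omega) hn h3 h).mono hg)

end CfsgLib.Geo.OFrame
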