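import Mathlib.FieldTheory.Finite.Basic
import Mathlib.Algebra.CharP.Lemmas
import Mathlib.RingTheory.IntegralDomain

/-!
Over a prime field with at least five elements, the nonzero values of `1 - κ x²` generate the
multiplicative group.
-/

set_option autoImplicit false

namespace CfsgLib.Geo.OFrame

variable {F : Type*} [Field F] [Finite F] {p : ℕ}

theorem prime_field_natCast [Fact p.Prime] [CharP F p] (hcard : Nat.card F = p) (x : F) :
    ∃ m : ℕ, (m : F) = x := by
  have hbij : Function.Bijective (ZMod.castHom (dvd_refl p) F) := by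
    rw [Nat.bijective_iff_injective_and_card]
    exact ⟨(ZMod.castHom (dvd_refl p) F).injective, by rw [Nat.card_zmod, hcard]⟩
  obtain ⟨z, rfl⟩ := hbij.2 x
  exact ⟨z.val, by rw [ZMod.castHom_apply, ZMod.natCast_val]⟩

/-- A subgroup containing the nonzero values of `1 - κ x²` is the whole group. -/
theorem eq_top_of_sub_sq [Fact p.Prime] [CharP F p] (hcard : Nat.card F = p) (hp : 5 ≤ p)
    {κ : F} (hκ : κ ≠ 0) {M : Subgroup Fˣ}
    (hM : ∀ (z : F) (u : Fˣ), (u : F) = 1 - κ * (z * z) → u ∈ M) : M = ⊤ := by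
  classical
  have : Fintype F := Fintype.ofFinite F
  have hprime : p.Prime := Fact.out
  have hc : Fintype.card F = p := by rw [← Nat.card_eq_fintype_card, hcard]
  have hchar : ringChar F ≠ 2 := by rw [ringChar.eq F p]; omega
  by_contra hne
  set Q : Finset F := Finset.univ.image fun x => x * x with hQ
  have hQmem : ∀ {x : F}, x ∈ Q ↔ IsSquare x := fun {x} => by
    simp [hQ, IsSquare, eq_comm]
  have hQlow : p ≤ 2 * Q.card := by
    rw [← hc, ← Finset.card_univ, hQ]
    refine Finset.card_le_mul_card_image _ 2 fun y hy => ?_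
    obtain ⟨x, -, rfl⟩ := Finset.mem_image.1 hy
    refine (Finset.card_le_card (t := {x, -x}) fun z hz => ?_).trans Finset.card_le_two
    simp only [Finset.mem_filter, Finset.mem_univ, true_and] at hz
    simpa using mul_self_eq_mul_self_iff.1 hz
  obtain ⟨ν, hν⟩ := FiniteField.exists_nonsquare hchar
  have hQlt : Q.card < p := by
    rw [← hc]
    exact Finset.card_lt_univ_of_notMem (x := ν) fun h => hν (hQmem.1 h)
  have hinj : Function.Injective fun x : F => 1 - κ * x := fun x y h =>
    mul_left_cancel₀ hκ (sub_right_injective h)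
  set S : Finset F := (Q.image fun x => 1 - κ * x).erase 0 with hS
  have hScard : Q.card ≤ S.card + 1 := by
    have := Finset.card_image_of_injective Q hinj
    have := Finset.pred_card_le_card_erase (a := (0 : F)) (s := Q.image fun x => 1 - κ * x)
    rw [← hS] at this
    omega
  have hSM : ∀ y ∈ S, ∃ u ∈ M, (u : F) = y := by
    intro y hy
    obtain ⟨hy0, hy⟩ := Finset.mem_erase.1 hy
    obtain ⟨x, hx, rfl⟩ := Finset.mem_image.1 hy
    obtain ⟨z, rfl⟩ := hQmem.1 hx
    exact ⟨Units.mk0 _ hy0, hM z _ rfl, rfl⟩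
  have hle : S.card ≤ Nat.card M := by
    rw [Nat.card_eq_fintype_card, ← Finset.card_univ]
    refine (Finset.card_le_card (t := (Finset.univ : Finset M).image fun u : M => ((u : Fˣ) : F))
      fun y hy => ?_).trans Finset.card_image_le
    obtain ⟨u, hu, rfl⟩ := hSM y hy
    exact Finset.mem_image.2 ⟨⟨u, hu⟩, Finset.mem_univ _, rfl⟩
  have hunits : Nat.card Fˣ = p - 1 := by rw [Nat.card_units, hcard]
  have hmul := M.card_mul_index
  rw [hunits] at hmul
  have hidx : 2 ≤ M.index := by
    rcases Nat.lt_or_ge M.index 2 with h | h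
    · have h0 : M.index ≠ 0 := Subgroup.index_ne_zero_of_finite
      exact absurd (Subgroup.index_eq_one.1 (by omega)) hne
    · exact h
  have h2M : Nat.card M * 2 ≤ p - 1 := hmul ▸ Nat.mul_le_mul_left _ hidx
  have hMeq : Nat.card M = p / 2 := by
    obtain ⟨t, ht⟩ := hprime.odd_of_ne_two (by omega)
    omega
  have hsq : ∀ u ∈ M, IsSquare (u : F) := by
    intro u hu
    rw [FiniteField.isSquare_iff hchar u.ne_zero, hc, ← hMeq, ← Units.val_pow_eq_pow_val]
    have := pow_card_eq_one' (x := (⟨u, hu⟩ : M))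
    exact congrArg Units.val (congrArg Subtype.val this)
  have hmaps : Set.MapsTo (fun x : F => 1 - κ * x) Q Q := by
    intro x hx
    rw [Finset.mem_coe] at hx ⊢
    rw [hQmem]
    show IsSquare (1 - κ * x)
    rcases eq_or_ne (1 - κ * x) 0 with h | h
    · rw [h]; exact IsSquare.zero
    obtain ⟨u, hu, huy⟩ := hSM _ (Finset.mem_erase.2 ⟨h, Finset.mem_image_of_mem _ hx⟩)
    exact huy ▸ hsq u hu
  have himg : Q.image (fun x => 1 - κ * x) = Q :=
    Finset.eq_of_subset_of_card_le (Finset.image_subset_iff.2 fun x hx => hmaps hx)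
      (Finset.card_image_of_injective Q hinj).ge
  have hsum : ∑ x ∈ Q, x = (Q.card : F) - κ * ∑ x ∈ Q, x := by
    conv_lhs => rw [← himg]
    rw [Finset.sum_image hinj.injOn, Finset.sum_sub_distrib, Finset.mul_sum]
    simp
  have h4 : (4 : F) ≠ 0 := by
    have := (CharP.cast_eq_zero_iff F p 4).not.2 fun h => by
      have := Nat.le_of_dvd (by norm_num) h; omega
    exact_mod_cast this
  have h3 : (3 : F) ≠ 0 := by
    have := (CharP.cast_eq_zero_iff F p 3).not.2 fun h => by
      have := Nat.le_of_dvd (by norm_num) h; omega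
    exact_mod_cast this
  have hzero : ∑ x ∈ Q, x = 0 := by
    have h4inj : Function.Injective fun x : F => 4 * x := mul_right_injective₀ h4
    have h4img : Q.image (fun x : F => 4 * x) = Q := by
      refine Finset.eq_of_subset_of_card_le (Finset.image_subset_iff.2 fun x hx => ?_)
        (Finset.card_image_of_injective Q h4inj).ge
      obtain ⟨z, rfl⟩ := hQmem.1 hx
      exact hQmem.2 ⟨2 * z, by ring⟩
    have h : ∑ x ∈ Q, x = 4 * ∑ x ∈ Q, x := by
      conv_lhs => rw [← h4img]
      rw [Finset.sum_image h4inj.injOn, Finset.mul_sum]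
    exact (mul_eq_zero.1 (show (3 : F) * ∑ x ∈ Q, x = 0 by linear_combination -h)).resolve_left h3
  rw [hzero, mul_zero, sub_zero, eq_comm, CharP.cast_eq_zero_iff F p] at hsum
  exact absurd (Nat.le_of_dvd (by omega) hsum) (by omega)

end CfsgLib.Geo.OFrame
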